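import Cfsg.Agent.Lib.Linear.UTensor.Gen

/-!
# Algebras of endomorphisms invariant under the special unitary group

An algebra closed under adjoints and under conjugation by isometries of determinant one, containing more than the
scalars, is everything.
-/

set_option autoImplicit false
set_option linter.unusedSectionVars false

namespace Cfsg.Lib.Linear.UTensor

open Module
open Cfsg.Lib.Linear

variable {F U : Type*} [Field F] [Finite F] [AddCommGroup U] [Module F U] [FiniteDimensional F U]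
  {σ : F →+* F} {α : U →ₛₗ[σ] U →ₗ[F] F}

/-- The rank one map of two vectors. -/
def rk (α : U →ₛₗ[σ] U →ₗ[F] F) (a b : U) : U →ₗ[F] U := (α b).smulRight a

theorem rk_apply (a b c : U) : rk α a b c = α b c • a := rfl

theorem rk_mul (a b c d : U) : rk α a b * rk α c d = α b c • rk α a d :=
  LinearMap.ext fun v => by
    simp only [Module.End.mul_apply, rk_apply, map_smul, LinearMap.smul_apply, smul_smul]
    rw [mul_comm]

namespace Form

variable (C : Form α)
include C

/-- Isotropic vectors not orthogonal to one of them span, together with it. -/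
theorem span_iso {e : U} (he0 : e ≠ 0) (hee : α e e = 0) :
    Submodule.span F ({e} ∪ {w | α w w = 0 ∧ α e w ≠ 0}) = ⊤ := by
  set S := Submodule.span F ({e} ∪ {w | α w w = 0 ∧ α e w ≠ 0})
  have heS : e ∈ S := Submodule.subset_span (Or.inl rfl)
  have key : ∀ w, α e w ≠ 0 → w ∈ S := by
    intro w hew
    obtain ⟨s, hs⟩ := Herm.exists_trace_eq C.ne_id C.invol (a := -(α w w)) (by rw [map_neg, C.self_fixed])
    set t := σ (s / α e w) with ht
    have h1 : w + t • e ∈ S := by
      refine Submodule.subset_span (Or.inr ⟨?_, ?_⟩)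
      · have hwe : α w e = σ (α e w) := C.flip_apply e w
        have hx0 : σ (α e w) ≠ 0 := by simpa using hew
        simp only [map_add, LinearMap.add_apply, LinearMap.map_smulₛₗ, LinearMap.smul_apply, smul_eq_mul, hee,
          mul_zero, add_zero, hwe, C.invol, ht, map_smul]
        rw [map_div₀, div_mul_cancel₀ _ hew, div_mul_cancel₀ _ hx0]
        linear_combination hs
      · rw [map_add, map_smul, hee, smul_zero, add_zero]; exact hew
    have h2 := S.sub_mem h1 (S.smul_mem t heS)
    rwa [add_sub_cancel_right] at h2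
  obtain ⟨y, hy⟩ := C.exists_pairing he0
  refine eq_top_iff.2 fun w _ => ?_
  by_cases hew : α e w = 0
  · have h2 := S.sub_mem (key (w + y) (by rw [map_add, hew, hy, zero_add]; exact one_ne_zero))
      (key y (by rw [hy]; exact one_ne_zero))
    rwa [add_sub_cancel_right] at h2
  · exact key w hew

/-- A transvection. -/
theorem exists_transv {w : U} (hw : α w w = 0) {l : F} (hl : l + σ l = 0) :
    ∃ p ∈ Herm.iso α, LinearEquiv.det p = 1 ∧ ∀ v, p v = v + (l * α w v) • w := by
  have h : l + σ l + σ l * l * α w w = 0 := by rw [hw, mul_zero, add_zero, hl]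
  exact ⟨Herm.qrefl w l h, Herm.qrefl_mem_iso C.symm w l h,
    Units.ext (by rw [Herm.det_qrefl, hw, mul_zero, add_zero]; rfl), fun v => rfl⟩

/-- A non-scalar map moves some isotropic vector to a vector not orthogonal to it. -/
theorem exists_iso_moved (h2 : 2 ≤ finrank F U) {ψ : U →ₗ[F] U} (hψ : ∀ c : F, ψ ≠ c • LinearMap.id) :
    ∃ e, e ≠ 0 ∧ α e e = 0 ∧ α e (ψ e) ≠ 0 := by
  by_contra hcon
  push Not at hcon
  have hd : ∀ e, α e e = 0 → α e (ψ e) = 0 := fun e he => by
    by_cases h0 : e = 0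
    · simp [h0]
    · exact hcon e h0 he
  obtain ⟨t, ht⟩ := C.exists_not_fixed
  obtain ⟨ε, hε0, hε⟩ := Herm.exists_trace_zero C.ne_id C.invol
  have hsε : σ ε = -ε := eq_neg_of_add_eq_zero_right hε
  have pair : ∀ e f, α e e = 0 → α f f = 0 → α e f = 1 → α e (ψ f) = α f (ψ e) := by
    intro e f he hf hef
    have hg : α (e + ε • f) (e + ε • f) = 0 := by
      simp [he, hf, hef, C.swap_one hef, hsε]
    have h1 := hd _ hg
    simp only [map_add, map_smul, LinearMap.map_smulₛₗ, LinearMap.add_apply, LinearMap.smul_apply, smul_eq_mul,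
      hd e he, hd f hf, hsε] at h1
    have h2 : ε * (α e (ψ f) - α f (ψ e)) = 0 := by linear_combination h1
    exact sub_eq_zero.1 ((mul_eq_zero.1 h2).resolve_left hε0)
  have hline : ∀ e, α e e = 0 → ψ e ∈ Submodule.span F {e} := by
    intro e he
    by_cases he0 : e = 0
    · simp [he0]
    by_contra hne
    obtain ⟨z, hz, hz'⟩ := Herm.exists_perp_ne_zero C.invol C.symm C.ndeg _ hne
    obtain ⟨f, hf, hef⟩ := C.exists_partner he0 he
    have key : ∀ z, α e z = 0 → α z (ψ e) = α e (ψ z) := fun z hz => by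
      obtain ⟨ν, hν⟩ := Herm.exists_trace_eq C.ne_id C.invol (a := -(α (f + z) (f + z)))
        (by rw [map_neg, C.self_fixed])
      have hf1 : α e (f + z) = 1 := by rw [map_add, hef, hz, add_zero]
      have hf' : α (f + z + ν • e) (f + z + ν • e) = 0 := by
        have hfe := C.swap_one hf1
        generalize f + z = u at hfe hf1 hν ⊢
        simp only [map_add, map_smul, LinearMap.add_apply, LinearMap.map_smulₛₗ, LinearMap.smul_apply,
          smul_eq_mul, hfe, hf1, he]
        linear_combination hν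
      have h3 := pair e _ he hf' (by rw [map_add, hf1, map_smul, he, smul_zero, add_zero])
      have h4 := pair e f he hf hef
      simp only [map_add, map_smul, LinearMap.add_apply, LinearMap.map_smulₛₗ, LinearMap.smul_apply, smul_eq_mul,
        hd e he] at h3
      linear_combination h4 - h3
    have hz0 : α e z = 0 := hz e (Submodule.mem_span_singleton_self e)
    have h5 := key z hz0
    have h6 := key (t • z) (by rw [map_smul, hz0, smul_zero])
    simp only [map_smul, LinearMap.map_smulₛₗ, LinearMap.smul_apply, smul_eq_mul] at h6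
    have h7 : (σ t - t) * α z (ψ e) = 0 := by linear_combination h6 - t * h5
    exact hz' (C.swap_zero ((mul_eq_zero.1 h7).resolve_left (sub_ne_zero.2 ht)))
  obtain ⟨e, -, he0, he⟩ := Herm.exists_iso_ne_zero C.ne_id C.invol C.symm ⊤ (by rw [finrank_top]; omega)
  obtain ⟨a, ha⟩ := Submodule.mem_span_singleton.1 (hline e he)
  refine hψ a (LinearMap.ext_on (C.span_iso he0 he) ?_)
  rintro v (rfl | ⟨hv, hev⟩)
  · simp [← ha]
  obtain ⟨b, hb⟩ := Submodule.mem_span_singleton.1 (hline v hv)
  set k := ε / α e v with hk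
  have hke : α e (k • v) = ε := by rw [map_smul, smul_eq_mul, hk, div_mul_cancel₀ _ hev]
  obtain ⟨c, hc⟩ := Submodule.mem_span_singleton.1 (hline (e + k • v) (by
    rw [map_add (α (e + k • v)), map_add α e, LinearMap.add_apply, LinearMap.add_apply, hke, he,
      C.flip_apply e (k • v), hke, hsε, show α (k • v) (k • v) = 0 by simp [hv]]
    ring))
  rw [map_add, map_smul, ← ha, ← hb] at hc
  have h8 := congrArg (α e) hc
  have h9 := congrArg (α (k • v)) hc
  have hkk : α (k • v) v = 0 := by simp [hv]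
  have hvk : α (k • v) e = -ε := by rw [C.flip_apply e, hke, hsε]
  simp only [smul_add, map_add, map_smul, smul_eq_mul, he, hkk, hvk, mul_zero, add_zero, zero_add] at h8 h9
  rw [map_smul, smul_eq_mul] at hke
  rw [hke] at h8
  have hca : c = a := mul_right_cancel₀ (neg_ne_zero.2 hε0) h9
  have hcb : c = b := mul_right_cancel₀ hε0 (h8.trans (by rw [← hke]; ring))
  simp [← hb, ← hcb, hca]

end Form

namespace Ten

variable {V W : Type*} [AddCommGroup V] [Module F V] [FiniteDimensional F V]
  [AddCommGroup W] [Module F W] [FiniteDimensional F W]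
  {B : V →ₛₗ[σ] V →ₗ[F] F} {β : W →ₛₗ[σ] W →ₗ[F] F} {τ : U →ₗ[F] W →ₗ[F] V}
  (T : Ten B α β τ) (S : Subalgebra F (U →ₗ[F] U))
  (hconj : ∀ p ∈ Herm.iso α, LinearEquiv.det p = 1 → ∀ φ ∈ S,
    (p : U →ₗ[F] U) * φ * ((p⁻¹ : U ≃ₗ[F] U) : U →ₗ[F] U) ∈ S)
include T hconj

theorem rk_conj_mem {p : U ≃ₗ[F] U} (hp : p ∈ Herm.iso α) (hd : LinearEquiv.det p = 1) {a b : U}
    (h : rk α a b ∈ S) : rk α (p a) (p b) ∈ S := by
  have e : rk α (p a) (p b) = (p : U →ₗ[F] U) * rk α a b * ((p⁻¹ : U ≃ₗ[F] U) : U →ₗ[F] U) :=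
    LinearMap.ext fun v => by
      rw [Module.End.mul_apply, Module.End.mul_apply, rk_apply, LinearEquiv.coe_coe, LinearEquiv.coe_coe,
        rk_apply, map_smul, ← hp b (p⁻¹ v), equiv_apply_inv]
  exact e ▸ hconj p hp hd _ h

/-- From one rank one map on an isotropic vector, everything. -/
theorem eq_top_of_rk {e : U} (he0 : e ≠ 0) (hee : α e e = 0) (hK : rk α e e ∈ S) : S = ⊤ := by
  classical
  have hr : ∀ r, α r r = 0 → α e r ≠ 0 → rk α r r ∈ S := by
    intro r hr her
    obtain ⟨ε, hε0, hε⟩ := Herm.exists_trace_zero T.cB.ne_id T.invol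
    set k := ε / α e r with hk
    have hke : α e (k • r) = ε := by rw [map_smul, smul_eq_mul, hk, div_mul_cancel₀ _ her]
    have hrk : α (k • r) (k • r) = 0 := by simp [hr]
    have hre : α (k • r) e = -ε := by
      rw [T.cα.flip_apply e, hke]; exact eq_neg_of_add_eq_zero_right hε
    have hw : α (k • r - e) (k • r - e) = 0 := by
      rw [map_sub α (k • r), LinearMap.sub_apply, map_sub (α (k • r)), map_sub (α e), hrk, hre, hke, hee]
      ring
    have hl : (-ε)⁻¹ + σ (-ε)⁻¹ = 0 := by
      rw [map_inv₀, map_neg, eq_neg_of_add_eq_zero_right hε, neg_neg, inv_neg, neg_add_cancel]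
    obtain ⟨p, hp, hd, hpv⟩ := T.cα.exists_transv hw hl
    have hpe : p e = k • r := by
      rw [hpv, map_sub α (k • r), LinearMap.sub_apply, hre, hee, sub_zero, inv_mul_cancel₀ (neg_ne_zero.2 hε0),
        one_smul, add_sub_cancel]
    have h1 := T.rk_conj_mem S hconj hp hd hK
    rw [hpe] at h1
    have hk0 : k * σ k ≠ 0 := mul_ne_zero (div_ne_zero hε0 her) (by simpa [hk] using ⟨hε0, her⟩)
    have e1 : rk α r r = (k * σ k)⁻¹ • rk α (k • r) (k • r) := LinearMap.ext fun v => by
      simp only [rk_apply, LinearMap.smul_apply, LinearMap.map_smulₛₗ, smul_smul, smul_eq_mul]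
      congr 1
      linear_combination -(α r v) * inv_mul_cancel₀ hk0
    rw [e1]
    exact S.smul_mem h1 _
  set G : Set U := {e} ∪ {w | α w w = 0 ∧ α e w ≠ 0}
  have hGG : ∀ r ∈ G, rk α r r ∈ S := by
    rintro r (rfl | ⟨h, h'⟩)
    · exact hK
    · exact hr r h h'
  have hpair : ∀ r ∈ G, ∀ r' ∈ G, rk α r r' ∈ S := by
    have hchain : ∀ r ∈ G, ∀ r' ∈ G, α r r' ≠ 0 → rk α r r' ∈ S := fun r hr r' hr' hne => by
      have := S.smul_mem (S.mul_mem (hGG r hr) (hGG r' hr')) (α r r')⁻¹
      rwa [rk_mul, smul_smul, inv_mul_cancel₀ hne, one_smul] at this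
    intro r hr r' hr'
    rcases hr with rfl | hr1
    · rcases hr' with rfl | hr'1
      · exact hK
      · exact hchain _ (Or.inl rfl) _ (Or.inr hr'1) hr'1.2
    · have hre : α r e ≠ 0 := fun h => hr1.2 (T.cα.swap_zero h)
      rcases hr' with rfl | hr'1
      · exact hchain _ (Or.inr hr1) _ (Or.inl rfl) hre
      · have h1 := S.smul_mem (S.mul_mem (S.mul_mem (hGG r (Or.inr hr1)) hK) (hGG r' (Or.inr hr'1)))
          (α r e * α e r')⁻¹
        rwa [rk_mul, Algebra.smul_mul_assoc, rk_mul, smul_smul, smul_smul, mul_assoc,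
          inv_mul_cancel₀ (mul_ne_zero hre hr'1.2), one_smul] at h1
  have hspan := T.cα.span_iso he0 hee
  -- all rank one maps
  have hall : ∀ a b, rk α a b ∈ S := by
    have h1 : ∀ r' ∈ G, ∀ a, rk α a r' ∈ S := fun r' hr' a => by
      have ha : a ∈ Submodule.span F G := hspan ▸ Submodule.mem_top
      induction ha using Submodule.span_induction with
      | mem x hx => exact hpair x hx r' hr'
      | zero => rw [show rk α (0 : U) r' = 0 from LinearMap.ext fun v => by simp [rk_apply]]; exact S.zero_mem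
      | add x y _ _ hx hy =>
        rw [show rk α (x + y) r' = rk α x r' + rk α y r' from LinearMap.ext fun v => by simp [rk_apply]]
        exact S.add_mem hx hy
      | smul c x _ hx =>
        rw [show rk α (c • x) r' = c • rk α x r' from LinearMap.ext fun v => by simp [rk_apply, smul_comm c]]
        exact S.smul_mem hx c
    intro a b
    have hb : b ∈ Submodule.span F G := hspan ▸ Submodule.mem_top
    induction hb using Submodule.span_induction with
    | mem x hx => exact h1 x hx a
    | zero => rw [show rk α a (0 : U) = 0 from LinearMap.ext fun v => by simp [rk_apply]]; exact S.zero_mem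
    | add x y _ _ hx hy =>
      rw [show rk α a (x + y) = rk α a x + rk α a y from LinearMap.ext fun v => by simp [rk_apply, add_smul]]
      exact S.add_mem hx hy
    | smul c x _ hx =>
      rw [show rk α a (c • x) = σ c • rk α a x from LinearMap.ext fun v => by simp [rk_apply, smul_smul]]
      exact S.smul_mem hx _
  refine eq_top_iff.2 fun φ _ => ?_
  set b := Module.finBasis F U
  choose d hd using fun i => Herm.exists_eq_apply T.cα.invol T.cα.ndeg (b.coord i)
  have hφ : φ = ∑ i, rk α (φ (b i)) (d i) := LinearMap.ext fun v => by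
    rw [LinearMap.sum_apply]
    conv_lhs => rw [← b.sum_repr v, map_sum]
    exact Finset.sum_congr rfl fun i _ => by rw [rk_apply, hd, map_smul, Basis.coord_apply]
  rw [hφ]
  exact S.sum_mem fun i _ => hall _ _

variable (hadj : ∀ φ ∈ S, T.adj φ ∈ S)

/-- Over the field with four elements, from a self-adjoint map to a rank one map. -/
theorem exists_rk_two (h3 : 3 ≤ finrank F U) (h2 : ∀ a : F, σ a = a → a = 0 ∨ a = 1) {ψ : U →ₗ[F] U} (hψ : ψ ∈ S)
    (hsa : T.adj ψ = ψ) {e : U} (hee : α e e = 0) (hd : α e (ψ e) ≠ 0) :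
    ∃ e, e ≠ 0 ∧ α e e = 0 ∧ rk α e e ∈ S := by
  have hchar : (1 : F) + 1 = 0 := by
    rcases h2 (1 + 1) (by simp) with h | h
    · exact h
    · exact absurd (by linear_combination h) one_ne_zero
  have htwo : (2 : F) = 0 := by linear_combination hchar
  have : CharP F 2 := CharTwo.of_one_ne_zero_of_two_eq_zero one_ne_zero htwo
  have h12 : ∀ {a : F}, σ a = a → a ≠ 0 → a = 1 := fun h h0 => (h2 _ h).resolve_left h0
  have he0 : e ≠ 0 := fun h => hd (by simp [h])
  set u := ψ e with hu
  have hψα : ∀ a b, α a (ψ b) = α (ψ a) b := fun a b => by rw [← T.α_adj, hsa]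
  have heu : α e u = 1 := h12 (by rw [← T.cα.flip_apply, hu, ← hψα]) hd
  have hue : α u e = 1 := T.cα.swap_one heu
  obtain ⟨p, hp, hpd, hpv⟩ := T.cα.exists_transv hee (l := 1) (by rw [map_one]; exact hchar)
  set Y : U →ₗ[F] U := rk α e u + rk α u e + rk α e e with hY
  have hYS : Y ∈ S := by
    have e1 : Y = (p : U →ₗ[F] U) * ψ * ((p⁻¹ : U ≃ₗ[F] U) : U →ₗ[F] U) - ψ := LinearMap.ext fun v => by
      obtain ⟨w, rfl⟩ : ∃ w, p w = v := ⟨p⁻¹ v, equiv_apply_inv p v⟩
      rw [LinearMap.sub_apply, Module.End.mul_apply, Module.End.mul_apply, LinearEquiv.coe_coe, LinearEquiv.coe_coe,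
        equiv_inv_apply, hpv, hpv, one_mul, one_mul, map_add ψ, map_smul, hψα, ← hu]
      simp only [hY, LinearMap.add_apply, rk_apply, map_add, map_smul, hue, hee]
      match_scalars <;> (ring_nf <;> simp [htwo, CharTwo.neg_eq])
    rw [e1]
    exact S.sub_mem (hconj p hp hpd ψ hψ) hψ
  by_cases hd2 : α u u = 0
  · refine ⟨e, he0, hee, ?_⟩
    have e2 : rk α e e = Y * Y - Y := LinearMap.ext fun v => by
      simp only [LinearMap.sub_apply, Module.End.mul_apply, hY, LinearMap.add_apply, rk_apply, map_add, map_smul,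
        heu, hue, hee, hd2]
      match_scalars <;> linear_combination (0 : F) * hchar
    rw [e2]
    exact S.sub_mem (S.mul_mem hYS hYS) hYS
  have huu : α u u = 1 := h12 (T.cα.self_fixed u) hd2
  set w := u + e with hw
  have hww : α w w = 1 := by
    simp only [hw, map_add, LinearMap.add_apply, huu, hue, heu, hee]
    linear_combination hchar
  have huw : α u w = 0 := by rw [hw, map_add, huu, hue, hchar]
  have hwu := T.cα.swap_zero huw
  obtain ⟨v, hv, hv0⟩ : ∃ v ∈ T.cα.perp2 u w, v ≠ 0 := by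
    refine Submodule.exists_mem_ne_zero_of_ne_bot fun h => ?_
    have := T.cα.finrank_perp2 u w
    rw [h, finrank_bot] at this
    omega
  obtain ⟨v', hv'⟩ := T.cα.exists_pairing hv0
  obtain ⟨x, hx, hxx⟩ := T.cα.exists_aniso (T.cα.perp2 u w) hv (v := v' - α u v' • u - α w v' • w)
    (T.cα.mem_perp2.2 ⟨by simp [huu, huw], by simp [hww, hwu]⟩)
    (by
      obtain ⟨h1, h1'⟩ := T.cα.mem_perp2.1 hv
      simp [hv', T.cα.swap_zero h1, T.cα.swap_zero h1'])
  obtain ⟨hux, hwx⟩ := T.cα.mem_perp2.1 hx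
  have hxx1 : α x x = 1 := h12 (T.cα.self_fixed x) hxx
  have hxu := T.cα.swap_zero hux
  have hxw := T.cα.swap_zero hwx
  have hP : rk α u u + rk α w w ∈ S := by
    have e3 : rk α u u + rk α w w = Y := LinearMap.ext fun v => by
      simp only [hY, hw, LinearMap.add_apply, rk_apply, map_add]
      match_scalars <;> (ring_nf <;> simp [htwo, CharTwo.neg_eq])
    exact e3 ▸ hYS
  obtain ⟨q, hq, hqd, hqv⟩ := T.cα.exists_transv (w := w + x) (l := 1)
    (by simp [hww, hwx, hxw, hxx1, hchar]) (by rw [map_one]; exact hchar)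
  have hqu : q u = u := by simp [hqv, hwu, hxu]
  have hqw : q w = x := by
    rw [hqv]
    simp only [map_add, LinearMap.add_apply, hww, hxw, add_zero, mul_one, one_smul]
    rw [← add_assoc, ← two_smul F, htwo, zero_smul, zero_add]
  have hP' : rk α u u + rk α x x ∈ S := by
    have e4 : rk α u u + rk α x x =
        (q : U →ₗ[F] U) * (rk α u u + rk α w w) * ((q⁻¹ : U ≃ₗ[F] U) : U →ₗ[F] U) := LinearMap.ext fun z => by
      obtain ⟨z, rfl⟩ : ∃ y, q y = z := ⟨q⁻¹ z, equiv_apply_inv q z⟩
      simp only [Module.End.mul_apply, LinearMap.add_apply, rk_apply, LinearEquiv.coe_coe, equiv_inv_apply, map_add,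
        map_smul, hqu, hqw]
      rw [show α u (q z) = α u z by rw [← hq u z, hqu], show α x (q z) = α w z by rw [← hq w z, hqw]]
    exact e4 ▸ hconj q hq hqd _ hP
  have hPu : rk α u u ∈ S := by
    have e5 : rk α u u = (rk α u u + rk α w w) * (rk α u u + rk α x x) := LinearMap.ext fun z => by
      simp [huu, hwu, hux, hwx, rk_apply]
    exact e5 ▸ S.mul_mem hP hP'
  have hunit : ∀ z, α z z = 1 → rk α z z ∈ S := fun z hz => by
    obtain ⟨r, hr, hrd, hrz⟩ := T.cα.exists_su_map_aniso T.hU (x := u) (y := z) (by rw [huu]; exact one_ne_zero)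
      (by rw [huu, hz])
    exact hrz ▸ T.rk_conj_mem S hconj hr hrd hPu
  set z := u + w + x with hz
  have hzz : α z z = 1 := by
    simp only [hz, map_add, LinearMap.add_apply, huu, hww, hxx1, huw, hwu, hux, hxu, hwx, hxw]
    linear_combination hchar
  have huz : α u z = 1 := by simp [hz, huu, huw, hux]
  have hzw : α z w = 1 := by simp [hz, huw, hww, hxw]
  have hwz : α w z = 1 := T.cα.swap_one hzw
  have hzu : α z u = 1 := T.cα.swap_one huz
  refine ⟨e, he0, hee, ?_⟩
  have e6 : rk α e e = rk α u u + rk α w w + rk α u u * rk α z z * rk α w w + rk α w w * rk α z z * rk α u u :=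
    LinearMap.ext fun t => by
      have heW : e = u + w := by rw [hw, ← add_assoc, ← two_smul F, htwo, zero_smul, zero_add]
      rw [show rk α e e = rk α (u + w) (u + w) by rw [← heW]]
      simp only [rk_mul, huz, hzw, hwz, hzu, one_smul,
        LinearMap.add_apply, rk_apply, map_add]
      module
  rw [e6]
  exact S.add_mem (S.add_mem (S.add_mem hPu (hunit w hww)) (S.mul_mem (S.mul_mem hPu (hunit z hzz)) (hunit w hww)))
    (S.mul_mem (S.mul_mem (hunit w hww) (hunit z hzz)) hPu)

include hadj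

/-- The algebra is everything. -/
theorem eq_top_of_conj (hex : (∃ y z : F, y ≠ 0 ∧ z ≠ 0 ∧ y ≠ z ∧ y + σ y = 0 ∧ z + σ z = 0) ∨ 3 ≤ finrank F U)
    {φ : U →ₗ[F] U} (hφ : φ ∈ S) (hns : ∀ c : F, φ ≠ c • LinearMap.id) : S = ⊤ := by
  suffices h : ∃ e, e ≠ 0 ∧ α e e = 0 ∧ rk α e e ∈ S by
    obtain ⟨e, he0, hee, he⟩ := h
    exact T.eq_top_of_rk S hconj he0 hee he
  by_cases htwo : ∃ y z : F, y ≠ 0 ∧ z ≠ 0 ∧ y ≠ z ∧ y + σ y = 0 ∧ z + σ z = 0
  · obtain ⟨e, he0, hee, hd⟩ := T.cα.exists_iso_moved T.hU hns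
    obtain ⟨y, z, hy0, hz0, hyz, hy, hz⟩ := htwo
    refine ⟨e, he0, hee, ?_⟩
    have hX : ∀ c : F, c + σ c = 0 →
        c • (rk α e e * φ - φ * rk α e e) - (c * c) • (α e (φ e) • rk α e e) ∈ S := fun c hc => by
      obtain ⟨p, hp, hpd, hpv⟩ := T.cα.exists_transv hee hc
      have e1 : c • (rk α e e * φ - φ * rk α e e) - (c * c) • (α e (φ e) • rk α e e) =
          (p : U →ₗ[F] U) * φ * ((p⁻¹ : U ≃ₗ[F] U) : U →ₗ[F] U) - φ := LinearMap.ext fun v => by
        obtain ⟨w, rfl⟩ : ∃ w, p w = v := ⟨p⁻¹ v, equiv_apply_inv p v⟩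
        rw [LinearMap.sub_apply, LinearMap.sub_apply, Module.End.mul_apply, Module.End.mul_apply,
          LinearEquiv.coe_coe, LinearEquiv.coe_coe, equiv_inv_apply, hpv, hpv]
        simp only [LinearMap.smul_apply, LinearMap.sub_apply, Module.End.mul_apply, rk_apply, map_add, map_smul, hee]
        module
      rw [e1]
      exact S.sub_mem (hconj p hp hpd φ hφ) hφ
    have h1 := S.smul_mem (S.sub_mem (S.smul_mem (hX z hz) y) (S.smul_mem (hX y hy) z))
      (y * z * (y - z) * α e (φ e))⁻¹
    have e2 : y • (z • (rk α e e * φ - φ * rk α e e) - (z * z) • (α e (φ e) • rk α e e)) -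
        z • (y • (rk α e e * φ - φ * rk α e e) - (y * y) • (α e (φ e) • rk α e e)) =
        (y * z * (y - z) * α e (φ e)) • rk α e e := by module
    rw [e2, smul_smul, inv_mul_cancel₀ (mul_ne_zero (mul_ne_zero (mul_ne_zero hy0 hz0) (sub_ne_zero.2 hyz)) hd),
      one_smul] at h1
    exact h1
  -- the field with four elements
  have h3 : 3 ≤ finrank F U := hex.resolve_left htwo
  obtain ⟨ε, hε0, hε⟩ := Herm.exists_trace_zero T.cB.ne_id T.invol
  have h2 : ∀ a : F, σ a = a → a = 0 ∨ a = 1 := fun a ha => by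
    by_contra hne
    push Not at hne
    exact htwo ⟨ε, a * ε, hε0, mul_ne_zero hne.1 hε0, fun h => hne.2 (mul_right_cancel₀ hε0 (by rw [← h, one_mul])),
      hε, by rw [map_mul, ha, ← mul_add, hε, mul_zero]⟩
  obtain ⟨t, ht⟩ := T.cB.exists_not_fixed
  obtain ⟨ψ, hψ, hsa, hψns⟩ : ∃ ψ ∈ S, T.adj ψ = ψ ∧ ∀ c : F, ψ ≠ c • LinearMap.id := by
    by_contra hc
    push Not at hc
    obtain ⟨c, hc'⟩ := hc (φ + T.adj φ) (S.add_mem hφ (hadj φ hφ))
      (by rw [T.adj_add, T.adj_adj, add_comm])
    obtain ⟨d, hd⟩ := hc (t • φ + σ t • T.adj φ) (S.add_mem (S.smul_mem hφ t) (S.smul_mem (hadj φ hφ) _))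
      (by rw [T.adj_add, T.adj_smul, T.adj_smul, T.adj_adj, T.invol, add_comm])
    refine hns ((d - σ t * c) / (t - σ t)) ?_
    have h1 : (t - σ t) • φ = (d - σ t * c) • LinearMap.id := by
      rw [sub_smul (d), mul_smul, ← hc', ← hd]; module
    rw [div_eq_inv_mul, mul_smul, ← h1, smul_smul, inv_mul_cancel₀ (sub_ne_zero.2 (Ne.symm ht)), one_smul]
  obtain ⟨e, -, hee, hd⟩ := T.cα.exists_iso_moved T.hU hψns
  exact T.exists_rk_two S hconj h3 h2 hψ hsa hee hd

end Ten

end Cfsg.Lib.Linear.UTensor
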