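import Mathlib

/-!
# Common zeros with coordinates fixed by an involution

Chevalley–Warning over the fixed field, applied to a quadratic and to a determinant.
-/

set_option autoImplicit false
set_option linter.unusedSectionVars false

namespace Cfsg.Lib.Linear.UTensor

open MvPolynomial

variable {F ι κ : Type*} [Field F] [Fintype ι] {σ : F →+* F}

/-- A polynomial with fixed values at fixed points comes from the fixed field. -/
theorem exists_descent (hσ : σ ≠ RingHom.id F) (hσ2 : ∀ a, σ (σ a) = a) (P : MvPolynomial ι F)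
    (hP : ∀ x : ι → F, (∀ i, σ (x i) = x i) → σ (eval x P) = eval x P) :
    ∃ P₀ : MvPolynomial ι (RingHom.eqLocusField σ (RingHom.id F)),
      P₀.totalDegree ≤ P.totalDegree ∧ ∀ x, ((eval x P₀ : RingHom.eqLocusField σ (RingHom.id F)) : F) =
        eval (fun i => (x i : F)) P := by
  classical
  obtain ⟨r, hr⟩ : ∃ r : F, σ r ≠ r := by
    by_contra h
    push Not at h
    exact hσ (RingHom.ext h)
  -- an element of trace one
  obtain ⟨s, hs⟩ : ∃ s : F, s + σ s = 1 := by
    by_cases h2 : (2 : F) = 0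
    · have h0 : r + σ r ≠ 0 := fun h => hr (by linear_combination h - r * h2)
      exact ⟨r / (r + σ r), by rw [map_div₀, map_add, hσ2, add_comm (σ r), ← add_div, div_self h0]⟩
    · exact ⟨2⁻¹, by rw [map_inv₀, map_ofNat, ← two_mul, mul_inv_cancel₀ h2]⟩
  set Q : MvPolynomial ι F := C s * P + MvPolynomial.map σ (C s * P) with hQ
  have hc : ∀ d, coeff d Q ∈ RingHom.eqLocusField σ (RingHom.id F) := fun d => by
    show σ _ = RingHom.id F _
    rw [hQ, coeff_add, coeff_map, map_add, hσ2, RingHom.id_apply, add_comm]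
  set K := RingHom.eqLocusField σ (RingHom.id F)
  set P₀ : MvPolynomial ι K := ∑ d ∈ Q.support, monomial d ⟨coeff d Q, hc d⟩
  have hmap : MvPolynomial.map K.subtype P₀ = Q := by
    simp only [P₀, map_sum, map_monomial]
    exact Q.as_sum.symm
  refine ⟨P₀, ?_, fun x => ?_⟩
  · calc P₀.totalDegree = (MvPolynomial.map K.subtype P₀).totalDegree := by
          simp only [totalDegree, support_map_of_injective _ K.subtype.injective]
      _ ≤ P.totalDegree := by
          rw [hmap]
          have h1 : (C s * P).totalDegree ≤ P.totalDegree :=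
            (totalDegree_mul _ _).trans (by rw [totalDegree_C, zero_add])
          refine (totalDegree_add _ _).trans (max_le h1 (le_trans ?_ h1))
          exact Finset.sup_mono (support_map_subset _ _)
  · have h1 := eval₂_comp_left K.subtype (RingHom.id K) x P₀
    rw [eval₂_id] at h1
    rw [show ((eval x P₀ : K) : F) = K.subtype (eval x P₀) from rfl, h1, RingHom.comp_id, ← eval_map, hmap,
      show (K.subtype ∘ x) = fun i => (x i : F) from rfl]
    have hfix : ∀ i, σ (x i : F) = x i := fun i => (x i).2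
    have h2 : eval (fun i => (x i : F)) (MvPolynomial.map σ (C s * P)) =
        σ (eval (fun i => (x i : F)) (C s * P)) := by
      have h3 := eval₂_comp_left σ (RingHom.id F) (fun i => (x i : F)) (C s * P)
      rw [eval₂_id, RingHom.comp_id] at h3
      rw [eval_map, h3]
      exact congrArg (fun f => eval₂ σ f (C s * P)) (funext fun i => (hfix i).symm)
    rw [hQ, map_add, h2, map_mul, eval_C, map_mul, hP _ hfix, ← add_mul, hs, one_mul]

/-- Two equations of small total degree have a common non-zero solution with fixed coordinates. -/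
theorem exists_zero [Finite F] (hσ : σ ≠ RingHom.id F) (hσ2 : ∀ a, σ (σ a) = a) (P Q : MvPolynomial ι F)
    (hdeg : P.totalDegree + Q.totalDegree < Fintype.card ι)
    (hP : ∀ x : ι → F, (∀ i, σ (x i) = x i) → σ (eval x P) = eval x P)
    (hQ : ∀ x : ι → F, (∀ i, σ (x i) = x i) → σ (eval x Q) = eval x Q)
    (hP0 : eval 0 P = 0) (hQ0 : eval 0 Q = 0) :
    ∃ x : ι → F, x ≠ 0 ∧ (∀ i, σ (x i) = x i) ∧ eval x P = 0 ∧ eval x Q = 0 := by
  classical
  set K := RingHom.eqLocusField σ (RingHom.id F)
  obtain ⟨P₀, hPd, hPe⟩ := exists_descent hσ hσ2 P hP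
  obtain ⟨Q₀, hQd, hQe⟩ := exists_descent hσ hσ2 Q hQ
  have := Fintype.ofFinite K
  obtain ⟨p, hp⟩ := CharP.exists K
  have hd := char_dvd_card_solutions_of_add_lt p (f₁ := P₀) (f₂ := Q₀) (by omega)
  have e : ∀ R₀ : MvPolynomial ι K, ∀ R : MvPolynomial ι F,
      (∀ x, ((eval x R₀ : K) : F) = eval (fun i => (x i : F)) R) → ∀ x, eval x R₀ = 0 ↔ eval (fun i => (x i : F)) R = 0 :=
    fun R₀ R h x => by rw [← h x, ZeroMemClass.coe_eq_zero]
  have h0 : eval (0 : ι → K) P₀ = 0 ∧ eval (0 : ι → K) Q₀ = 0 :=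
    ⟨(e _ _ hPe 0).2 hP0, (e _ _ hQe 0).2 hQ0⟩
  obtain ⟨⟨x, hx1, hx2⟩, hne⟩ := Fintype.exists_ne_of_one_lt_card
    (lt_of_lt_of_le (CharP.char_is_prime K p).one_lt (Nat.le_of_dvd (Fintype.card_pos_iff.2 ⟨⟨0, h0⟩⟩) hd))
    (⟨0, h0⟩ : {x : ι → K // eval x P₀ = 0 ∧ eval x Q₀ = 0})
  exact ⟨fun i => (x i : F), fun h => hne (Subtype.ext (funext fun i => Subtype.ext (congrFun h i))),
    fun i => (x i).2, (e _ _ hPe x).1 hx1, (e _ _ hQe x).1 hx2⟩

/-- The degree of a determinant of affine entries. -/
theorem totalDegree_det_le [Fintype κ] [DecidableEq κ] (M : Matrix κ κ (MvPolynomial ι F))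
    (h : ∀ i j, (M i j).totalDegree ≤ 1) : M.det.totalDegree ≤ Fintype.card κ := by
  rw [Matrix.det_apply]
  refine (totalDegree_finsetSum _ _).trans (Finset.sup_le fun g _ => ?_)
  have h1 : (∏ i, M (g i) i).totalDegree ≤ Fintype.card κ := by
    refine (totalDegree_finsetProd _ _).trans ((Finset.sum_le_sum fun i _ => h (g i) i).trans ?_)
    simp
  rcases Int.units_eq_one_or (Equiv.Perm.sign g) with e | e <;> rw [e]
  · rwa [one_smul]
  · rwa [Units.neg_smul, one_smul, totalDegree_neg]

/-- The form `∑ c i * X i`. -/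
noncomputable def linPoly (c : ι → F) : MvPolynomial ι F := ∑ i, C (c i) * X i

theorem totalDegree_linPoly (c : ι → F) : (linPoly c).totalDegree ≤ 1 := by
  refine (totalDegree_finsetSum _ _).trans (Finset.sup_le fun i _ => (totalDegree_mul _ _).trans ?_)
  rw [totalDegree_C, totalDegree_X, zero_add]

theorem eval_linPoly (c x : ι → F) : eval x (linPoly c) = ∑ i, c i * x i := by
  simp [linPoly]

/-- The form `∑ c i j * X i * X j`. -/
noncomputable def quadPoly (c : ι → ι → F) : MvPolynomial ι F := ∑ i, linPoly (c i) * X i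

theorem totalDegree_quadPoly (c : ι → ι → F) : (quadPoly c).totalDegree ≤ 2 := by
  refine (totalDegree_finsetSum _ _).trans (Finset.sup_le fun i _ => (totalDegree_mul _ _).trans ?_)
  have := totalDegree_linPoly (c i)
  rw [totalDegree_X]
  omega

theorem eval_quadPoly (c : ι → ι → F) (x : ι → F) :
    eval x (quadPoly c) = ∑ i, ∑ j, x i * x j * c i j := by
  simp only [quadPoly, map_sum, map_mul, eval_linPoly, eval_X, Finset.sum_mul]
  exact Finset.sum_congr rfl fun i _ => Finset.sum_congr rfl fun j _ => by ring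

end Cfsg.Lib.Linear.UTensor
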