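import Cfsg.Agent.Lib.Linear.UnitarySimple

/-!
# Hermitian forms in small dimension

Anisotropic vectors, hyperbolic pairs and transitivity of the isometries of determinant one, without a lower bound on
the dimension beyond what each statement needs.
-/

set_option autoImplicit false
set_option linter.unusedSectionVars false

namespace Cfsg.Lib.Linear.UTensor

open Module
open Cfsg.Lib.Linear

variable {F V : Type*} [Field F] [Finite F] [AddCommGroup V] [Module F V] [FiniteDimensional F V] {σ : F →+* F}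
  {B : V →ₛₗ[σ] V →ₗ[F] F}

/-- A non-degenerate Hermitian form. -/
structure Form (B : V →ₛₗ[σ] V →ₗ[F] F) : Prop where
  ne_id : σ ≠ RingHom.id F
  invol : ∀ a, σ (σ a) = a
  symm : B.IsSymm
  ndeg : B.Nondegenerate

namespace Form

variable (C : Form B)
include C

theorem flip_apply (u v : V) : B v u = σ (B u v) := (C.symm.eq u v).symm

theorem swap_zero {u v : V} (h : B u v = 0) : B v u = 0 := by rw [C.flip_apply, h, map_zero]

theorem swap_one {u v : V} (h : B u v = 1) : B v u = 1 := by rw [C.flip_apply, h, map_one]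

theorem self_fixed (v : V) : σ (B v v) = B v v := C.symm.eq v v

theorem ext_right {u v : V} (h : ∀ w, B w u = B w v) : u = v :=
  sub_eq_zero.1 (C.ndeg.2 _ fun w => by rw [map_sub, h, sub_self])

theorem ext_left {u v : V} (h : ∀ w, B u w = B v w) : u = v :=
  C.ext_right fun w => by rw [C.flip_apply u w, C.flip_apply v w, h]

theorem exists_pairing {x : V} (hx : x ≠ 0) : ∃ y, B x y = 1 := by
  obtain ⟨y, hy⟩ : ∃ y, B x y ≠ 0 := by
    by_contra h
    push Not at h
    exact hx (C.ndeg.1 x h)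
  exact ⟨(B x y)⁻¹ • y, by rw [map_smul, smul_eq_mul, inv_mul_cancel₀ hy]⟩

theorem exists_not_fixed : ∃ c : F, σ c ≠ c := by
  by_contra h
  push Not at h
  exact C.ne_id (RingHom.ext h)

/-- A form not identically zero on a subspace has an anisotropic vector there. -/
theorem exists_aniso (X : Submodule F V) {u v : V} (hu : u ∈ X) (hv : v ∈ X) (huv : B u v ≠ 0) :
    ∃ w ∈ X, B w w ≠ 0 := by
  by_contra h
  push Not at h
  obtain ⟨c, hc⟩ := C.exists_not_fixed
  have anti : ∀ u ∈ X, ∀ v ∈ X, B u v + B v u = 0 := fun u hu v hv => by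
    have h1 := h (u + v) (X.add_mem hu hv)
    simpa [h u hu, h v hv] using h1
  have h1 := anti (c • u) (X.smul_mem c hu) v hv
  simp only [LinearMap.map_smulₛₗ, LinearMap.smul_apply, map_smul, smul_eq_mul] at h1
  have h3 : (σ c - c) * B u v = 0 := by linear_combination h1 - c * anti u hu v hv
  exact huv ((mul_eq_zero.1 h3).resolve_left (sub_ne_zero.2 hc))

/-- The common orthogonal of two vectors. -/
def perp2 (_C : Form B) (x y : V) : Submodule F V := LinearMap.ker (B x) ⊓ LinearMap.ker (B y)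

theorem mem_perp2 {x y v : V} : v ∈ C.perp2 x y ↔ B x v = 0 ∧ B y v = 0 := Iff.rfl

theorem finrank_perp2 (x y : V) : finrank F V ≤ finrank F (C.perp2 x y) + 2 := by
  have h4 := LinearMap.finrank_range_add_finrank_ker ((B x).prod (B y))
  have h5 := Submodule.finrank_le (LinearMap.range ((B x).prod (B y)))
  rw [LinearMap.ker_prod] at h4
  rw [Module.finrank_prod, Module.finrank_self] at h5
  unfold perp2
  omega

/-- The components along a hyperbolic pair. -/
theorem sub_mem_perp2 {x x' : V} (hx : B x x = 0) (hx' : B x' x' = 0) (h : B x x' = 1) (v : V) :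
    v - B x' v • x - B x v • x' ∈ C.perp2 x x' := by
  simp [C.mem_perp2, hx, hx', h, C.swap_one h]

/-- The orthogonal of a hyperbolic pair is non-degenerate. -/
theorem perp2_nondeg {x x' u : V} (hx : B x x = 0) (hx' : B x' x' = 0) (h : B x x' = 1)
    (hu : u ∈ C.perp2 x x') (hu0 : ∀ v ∈ C.perp2 x x', B u v = 0) : u = 0 := by
  obtain ⟨h1, h2⟩ := C.mem_perp2.1 hu
  refine C.ndeg.1 u fun v => ?_
  have := hu0 _ (C.sub_mem_perp2 hx hx' h v)
  simpa [C.swap_zero h1, C.swap_zero h2] using this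

theorem exists_partner {x : V} (hx : x ≠ 0) (hxx : B x x = 0) : ∃ x', B x' x' = 0 ∧ B x x' = 1 := by
  obtain ⟨u, hu⟩ := C.exists_pairing hx
  obtain ⟨t, ht⟩ := Herm.exists_trace_eq C.ne_id C.invol (a := -(B u u)) (by rw [map_neg, C.self_fixed])
  refine ⟨u + t • x, ?_, by rw [map_add, map_smul, hxx, hu, smul_zero, add_zero]⟩
  simp only [map_add, LinearMap.add_apply, LinearMap.map_smulₛₗ, LinearMap.smul_apply, map_smul, smul_eq_mul,
    hxx, hu, C.swap_one hu]
  linear_combination ht

theorem exists_equiv (L : V →ₗ[F] V) (hL : ∀ x y, B (L x) (L y) = B x y) :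
    ∃ g ∈ Herm.iso B, ∀ x, g x = L x := by
  have hinj : Function.Injective L := by
    rw [← LinearMap.ker_eq_bot, LinearMap.ker_eq_bot']
    intro a ha
    refine C.ndeg.1 a fun b => ?_
    rw [← hL, ha, map_zero, LinearMap.zero_apply]
  exact ⟨LinearEquiv.ofInjectiveEndo L hinj, hL, fun x => rfl⟩

theorem det_norm {g : V ≃ₗ[F] V} (hg : g ∈ Herm.iso B) :
    σ (LinearEquiv.det g : F) * (LinearEquiv.det g : F) = 1 := by
  rw [Herm.iso_eq_qreflGroup C.ne_id C.invol C.symm C.ndeg] at hg
  induction hg using Subgroup.closure_induction with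
  | mem x hx =>
    obtain ⟨w, l, h, rfl⟩ := hx
    rw [Herm.det_qrefl]
    simp only [map_add, map_one, map_mul, C.self_fixed]
    linear_combination (B w w) * h
  | one => simp
  | mul x y _ _ hx hy =>
    rw [map_mul, Units.val_mul, map_mul]
    linear_combination (σ (LinearEquiv.det x : F) * (LinearEquiv.det x : F)) * hy + hx
  | inv x _ hx => rw [map_inv, Units.val_inv_eq_inv_val, map_inv₀, ← mul_inv, hx, inv_one]

/-- An isometry of prescribed determinant fixing the orthogonal of an anisotropic vector. -/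
theorem exists_det_aniso {w : V} (hw : B w w ≠ 0) {z : F} (hz : σ z * z = 1) :
    ∃ D ∈ Herm.iso B, (LinearEquiv.det D : F) = z ∧ ∀ x, B w x = 0 → D x = x := by
  set l := (z - 1) / B w w with hl
  have h : l + σ l + σ l * l * B w w = 0 := by
    rw [hl, map_div₀, map_sub, map_one, C.self_fixed]
    field_simp
    linear_combination hz
  exact ⟨Herm.qrefl w l h, Herm.qrefl_mem_iso C.symm w l h,
    by rw [Herm.det_qrefl, hl, div_mul_cancel₀ _ hw]; ring,
    fun x hx => by rw [Herm.qrefl_apply, hx, mul_zero, zero_smul, add_zero]⟩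

/-- Adjust the determinant of an isometry away from a given vector. -/
theorem exists_su_of_iso {g : V ≃ₗ[F] V} (hg : g ∈ Herm.iso B) (S : Set V) {w : V} (hw : B w w ≠ 0)
    (hS : ∀ x ∈ S, B w (g x) = 0) :
    ∃ h ∈ Herm.iso B, LinearEquiv.det h = 1 ∧ ∀ x ∈ S, h x = g x := by
  obtain ⟨D, hD, hdet, hfix⟩ := C.exists_det_aniso hw (C.det_norm (inv_mem hg))
  refine ⟨D * g, mul_mem hD hg, ?_, fun x hx => by rw [LinearEquiv.mul_apply, hfix _ (hS x hx)]⟩
  have : LinearEquiv.det D = LinearEquiv.det g⁻¹ := Units.ext hdet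
  rw [map_mul, this, ← map_mul, inv_mul_cancel, map_one]

/-- Two isotropic vectors are conjugate by an isometry of determinant one. -/
theorem exists_su_map_iso (h3 : 3 ≤ finrank F V) {x y : V} (hx : x ≠ 0) (hy : y ≠ 0) (hxx : B x x = 0)
    (hyy : B y y = 0) : ∃ g ∈ Herm.iso B, LinearEquiv.det g = 1 ∧ g x = y := by
  obtain ⟨t, ht, htx⟩ := Herm.exists_map C.ne_id C.invol C.symm C.ndeg ⊥ (a := x) (b := y) (by simpa using hx)
    (by simpa using hy) (fun z hz => by rw [(Submodule.mem_bot F).1 hz]; simp) (by rw [hxx, hyy])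
  obtain ⟨y', hy', hyy'⟩ := C.exists_partner hy hyy
  obtain ⟨u, hu, hu0⟩ : ∃ u ∈ C.perp2 y y', u ≠ 0 := by
    refine Submodule.exists_mem_ne_zero_of_ne_bot fun h => ?_
    have := C.finrank_perp2 y y'
    rw [h, finrank_bot] at this
    omega
  obtain ⟨v, hv, huv⟩ : ∃ v ∈ C.perp2 y y', B u v ≠ 0 := by
    by_contra h
    push Not at h
    exact hu0 (C.perp2_nondeg hyy hy' hyy' hu h)
  obtain ⟨w, hw, hww⟩ := C.exists_aniso _ hu hv huv
  obtain ⟨g, hg, hdet, hgx⟩ := C.exists_su_of_iso ht.1 {x} hww (by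
    rintro z rfl
    rw [htx]
    exact C.swap_zero (C.mem_perp2.1 hw).1)
  exact ⟨g, hg, hdet, by rw [hgx x rfl, htx]⟩

/-- Two vectors of the same non-zero norm are conjugate by an isometry of determinant one. -/
theorem exists_su_map_aniso (h2 : 2 ≤ finrank F V) {x y : V} (hxx : B x x ≠ 0) (hxy : B x x = B y y) :
    ∃ g ∈ Herm.iso B, LinearEquiv.det g = 1 ∧ g x = y := by
  have hx : x ≠ 0 := fun h => hxx (by rw [h]; simp)
  have hy : y ≠ 0 := fun h => hxx (by rw [hxy, h]; simp)
  obtain ⟨t, ht, htx⟩ := Herm.exists_map C.ne_id C.invol C.symm C.ndeg ⊥ (a := x) (b := y) (by simpa using hx)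
    (by simpa using hy) (fun z hz => by rw [(Submodule.mem_bot F).1 hz]; simp) hxy
  obtain ⟨u, hu, hu0⟩ : ∃ u ∈ LinearMap.ker (B y), u ≠ 0 := by
    refine Submodule.exists_mem_ne_zero_of_ne_bot fun h => ?_
    have h4 := LinearMap.finrank_range_add_finrank_ker (B y)
    have h5 := Submodule.finrank_le (LinearMap.range (B y))
    rw [Module.finrank_self] at h5
    rw [h, finrank_bot] at h4
    omega
  obtain ⟨v, hv⟩ := C.exists_pairing hu0
  have hyu : B u y = 0 := C.swap_zero hu
  have hyyne : B y y ≠ 0 := hxy ▸ hxx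
  obtain ⟨w, hw, hww⟩ := C.exists_aniso (LinearMap.ker (B y)) hu (v := v - (B y v / B y y) • y)
    (by rw [LinearMap.mem_ker, map_sub, map_smul, smul_eq_mul, div_mul_cancel₀ _ hyyne, sub_self])
    (by rw [map_sub, map_smul, hyu, smul_zero, sub_zero, hv]; exact one_ne_zero)
  obtain ⟨g, hg, hdet, hgx⟩ := C.exists_su_of_iso ht.1 {x} hww (by
    rintro z rfl
    rw [htx]
    exact C.swap_zero hw)
  exact ⟨g, hg, hdet, by rw [hgx x rfl, htx]⟩

end Form

end Cfsg.Lib.Linear.UTensor
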