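import Cfsg.Agent.Lib.Linear.UTensor.Stab
import Cfsg.Agent.Lib.Linear.UTensor.Alg

/-!
# The coefficients of the short root elements in an overgroup
-/

set_option autoImplicit false
set_option linter.unusedSectionVars false

namespace Cfsg.Lib.Linear.UTensor

open Module
open Cfsg.Lib.Linear

variable {F V U W : Type*} [Field F] [Finite F]
  [AddCommGroup V] [Module F V] [FiniteDimensional F V]
  [AddCommGroup U] [Module F U] [FiniteDimensional F U]
  [AddCommGroup W] [Module F W] [FiniteDimensional F W]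
  {σ : F →+* F} {B : V →ₛₗ[σ] V →ₗ[F] F} {α : U →ₛₗ[σ] U →ₗ[F] F} {β : W →ₛₗ[σ] W →ₗ[F] F}
  {τ : U →ₗ[F] W →ₗ[F] V}

namespace Ten

variable (T : Ten B α β τ) (L : Subgroup (V ≃ₗ[F] V))
include T

/-- The coefficients of long root elements. -/
def InJ (ω : U →ₗ[F] U) : Prop := ∀ x : W, β x x = 0 → InA L (T.lin x x ω)

/-- The coefficients of short root elements. -/
def Good (φ : U →ₗ[F] U) : Prop := ∀ x y : W, β x x = 0 → β y y = 0 → β x y = 0 → InA L (T.sh x y φ)

variable {T L} (hL : Over B α β τ L)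
include hL

theorem skew_of_inA {f : V →ₗ[F] V} (hf : InA L f) (e : ∀ v, f (f v) = 0) (u v : V) :
    B (f u) v = -B u (f v) := by
  obtain ⟨g, hg, hgf⟩ := id hf
  obtain ⟨g', -, hgn⟩ := hf.neg e
  have h1 : g (g' v) = v := by
    rw [hgn, LinearMap.neg_apply, hgf, map_add, map_neg, e]
    abel
  have h2 := hL.iso hg u (g' v)
  rw [h1, hgf, hgn, LinearMap.neg_apply, map_add B, LinearMap.add_apply, map_add (B u), map_neg] at h2
  linear_combination h2

theorem adj_long {x : W} (hx : x ≠ 0) (hxx : β x x = 0) {ω : U →ₗ[F] U} (h : InA L (T.lin x x ω)) :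
    T.adj ω = -ω := by
  obtain ⟨y, hy⟩ := T.cβ.exists_pairing hx
  have h1 : ∀ v, T.lin x x (T.adj ω + ω) v = 0 := fun v => T.cB.ext_right fun u => by
    have h2 := skew_of_inA (T := T) hL h (fun v => by rw [T.lin_lin, hxx, zero_smul]) u v
    rw [T.B_lin] at h2
    rw [lin_apply, LinearMap.add_apply, map_add, LinearMap.add_apply, ← lin_apply T x x (T.adj ω),
      ← lin_apply T x x ω, map_add, h2, map_zero, neg_add_cancel]
  refine eq_neg_of_add_eq_zero_left (LinearMap.ext fun a => ?_)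
  have h3 := h1 (τ a y)
  rw [T.lin_tau, hy, one_smul] at h3
  exact T.tau_eq_zero h3 hx

theorem inJ_of_inA {x : W} (hx : x ≠ 0) (hxx : β x x = 0) {ω : U →ₗ[F] U} (h : InA L (T.lin x x ω)) :
    T.InJ L ω := by
  intro y hyy
  by_cases hy : y = 0
  · exact InA.zero.congr fun v => by simp [hy, lin_apply]
  obtain ⟨k, hk, -, hkt, hkc⟩ := T.exists_move hL hx hy hxx hyy
  exact h.conj hk fun v => by rw [lin_apply, lin_apply, hkc, hkt]

theorem InJ.good {ω : U →ₗ[F] U} (h : T.InJ L ω) (c : F) : T.Good L (c • ω) := by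
  intro x y hxx hyy hxy
  by_cases hx : x = 0
  · exact InA.zero.congr fun v => by simp [hx, sh_apply]
  have hsk := adj_long hL hx hxx (h x hxx)
  have hyx := T.cβ.swap_zero hxy
  have hzz : β (y + c • x) (y + c • x) = 0 := by simp [hxx, hyy, hxy, hyx]
  have h1 := h _ hzz
  have h2 := (h y hyy).neg fun v => by rw [T.lin_lin, hyy, zero_smul]
  obtain ⟨d, hd⟩ : ∃ d, d = c * σ c := ⟨_, rfl⟩
  have h3 : InA L (-(d • T.lin x x ω)) := by
    refine (((h (c • x) (by simp [hxx])).neg fun v => ?_)).congr fun v => ?_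
    · rw [T.lin_lin]; simp [hxx]
    · simp [lin_apply, T.invol, smul_smul, hd, mul_comm c]
  refine (InA.add h1 (InA.add h2 h3 fun v => ?_) fun v => ?_).congr fun v => ?_
  · simp [lin_apply, T.ctr_tau, hyx]
  · simp [lin_apply, T.ctr_tau, hxx, hyy, hxy, hyx]
  · simp [lin_apply, sh_apply, T.adj_smul, hsk, T.invol, hd]
    module

theorem Good.add {φ ψ : U →ₗ[F] U} (h : T.Good L φ) (h' : T.Good L ψ) : T.Good L (φ + ψ) :=
  fun x y hxx hyy hxy => (InA.add (h x y hxx hyy hxy) (h' x y hxx hyy hxy) fun v => by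
    simp [sh_apply, T.ctr_tau, hxx, hyy, hxy, T.cβ.swap_zero hxy]).congr fun v => by
    simp [sh_apply, T.adj_add]
    abel

theorem Good.zero : T.Good L 0 := fun x y _ _ _ => InA.zero.congr fun v => by simp [sh_apply, T.adj_zero]

theorem Good.neg {φ : U →ₗ[F] U} (h : T.Good L φ) : T.Good L (-φ) :=
  fun x y hxx hyy hxy => ((h x y hxx hyy hxy).neg fun v => by
    simp [sh_apply, T.ctr_tau, hxx, hyy, hxy, T.cβ.swap_zero hxy]).congr fun v => by
    have e : T.adj (-φ) = -T.adj φ := T.adj_eq fun a b => by simp [T.α_adj]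
    simp [sh_apply, e]
    abel

theorem Good.sub {φ ψ : U →ₗ[F] U} (h : T.Good L φ) (h' : T.Good L ψ) : T.Good L (φ - ψ) := by
  rw [sub_eq_add_neg]; exact h.add hL (h'.neg hL)

theorem good_scalar (c : F) : T.Good L (c • LinearMap.id) := by
  intro x y hxx hyy hxy
  have hyx := T.cβ.swap_zero hxy
  refine (T.inA_eich hL (y := -σ c • y) hxx (by simp [hyx]) (c := 0) (by simp [hyy])).congr fun v => ?_
  simp [eich_apply, sh_apply, T.adj_smul, T.adj_id, T.invol]
  abel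

variable [h4 : Fact (4 ≤ finrank F W)]

/-- The commutator of two short root elements is long. -/
theorem Good.comm {φ ψ : U →ₗ[F] U} (h : T.Good L φ) (h' : T.Good L ψ) :
    T.InJ L (ψ ∘ₗ T.adj φ - φ ∘ₗ T.adj ψ) := by
  obtain ⟨x, -, hx, hxx⟩ := Herm.exists_iso_ne_zero T.cβ.ne_id T.cβ.invol T.cβ.symm ⊤
    (by rw [finrank_top]; have := T.hW; omega)
  obtain ⟨x', hx'', hxx'⟩ := T.cβ.exists_partner hx hxx
  obtain ⟨y, hyP, hy0, hyy⟩ := Herm.exists_iso_ne_zero T.cβ.ne_id T.cβ.invol T.cβ.symm (T.cβ.perp2 x x')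
    (by have := T.cβ.finrank_perp2 x x'; have := h4.out; omega)
  obtain ⟨hxy, -⟩ := T.cβ.mem_perp2.1 hyP
  have hyx := T.cβ.swap_zero hxy
  obtain ⟨w, hw, hyw⟩ : ∃ w ∈ T.cβ.perp2 x x', β y w ≠ 0 := by
    by_contra hc
    push Not at hc
    exact hy0 (T.cβ.perp2_nondeg hxx hx'' hxx' hyP hc)
  set z₁ := (β y w)⁻¹ • w with hz₁
  have hyz₁ : β y z₁ = 1 := by rw [hz₁, map_smul, smul_eq_mul, inv_mul_cancel₀ hyw]
  obtain ⟨t, ht⟩ := Herm.exists_trace_eq T.cB.ne_id T.invol (a := -(β z₁ z₁)) (by rw [map_neg, T.cβ.self_fixed])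
  set z := z₁ + t • y with hz
  have hzz : β z z = 0 := by
    have := T.cβ.swap_one hyz₁
    simp only [hz, map_add, LinearMap.add_apply, LinearMap.map_smulₛₗ, LinearMap.smul_apply, map_smul, smul_eq_mul,
      hyy, hyz₁, this]
    linear_combination ht
  have hyz : β y z = 1 := by rw [hz, map_add, hyz₁, map_smul, hyy, smul_zero, add_zero]
  have hxz : β x z = 0 := by
    rw [hz, map_add, hz₁, map_smul, map_smul, (T.cβ.mem_perp2.1 hw).1, hxy, smul_zero, smul_zero, add_zero]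
  have hzx := T.cβ.swap_zero hxz
  have hzy := T.cβ.swap_one hyz
  refine inJ_of_inA hL hx hxx (InA.comm (h x y hxx hyy hxy) (h' x z hxx hzz hxz) ?_ ?_ fun v => ?_)
  · intro v; simp [sh_apply, T.ctr_tau, hxx, hyy, hxy, hyx]
  · intro v; simp [sh_apply, T.ctr_tau, hxx, hzz, hxz, hzx]
  · simp [sh_apply, lin_apply, T.ctr_tau, hxx, hxy, hyx, hxz, hzx, hyz, hzy]
    abel

theorem Good.parts {φ : U →ₗ[F] U} (h : T.Good L φ) (c : F) :
    T.InJ L (c • T.adj φ - σ c • φ) := by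
  have := h.comm hL (good_scalar hL c)
  rwa [LinearMap.smul_comp, LinearMap.id_comp, T.adj_smul, T.adj_id, LinearMap.comp_smul, LinearMap.comp_id] at this

theorem Good.smul {φ : U →ₗ[F] U} (h : T.Good L φ) (d : F) : T.Good L (d • φ) := by
  obtain ⟨t, ht⟩ := T.cB.exists_not_fixed
  set e := d / (σ t - t) with he
  have h1 := ((h.parts hL 1).good hL (e * t)).sub hL ((h.parts hL t).good hL e)
  have e1 : d • φ = (e * t) • ((1 : F) • T.adj φ - σ 1 • φ) - e • (t • T.adj φ - σ t • φ) := by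
    have e2 : e * (σ t - t) = d := div_mul_cancel₀ _ (sub_ne_zero.2 ht)
    rw [← e2, map_one, one_smul, one_smul]
    module
  exact e1 ▸ h1

theorem Good.adj {φ : U →ₗ[F] U} (h : T.Good L φ) : T.Good L (T.adj φ) := by
  have h1 := ((h.parts hL 1).good hL 1).add hL h
  rwa [map_one, one_smul, one_smul, one_smul, sub_add_cancel] at h1

theorem Good.mul {φ ψ : U →ₗ[F] U} (h : T.Good L φ) (h' : T.Good L ψ) : T.Good L (ψ ∘ₗ φ) := by
  obtain ⟨t, ht⟩ := T.cB.exists_not_fixed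
  set e := (σ t - t)⁻¹ with he
  have h1 := ((((h.adj hL).smul hL t).comm hL h').good hL e).sub hL (((h.adj hL).comm hL h').good hL (e * t))
  have e1 : ψ ∘ₗ φ = e • (ψ ∘ₗ T.adj (t • T.adj φ) - (t • T.adj φ) ∘ₗ T.adj ψ) -
      (e * t) • (ψ ∘ₗ T.adj (T.adj φ) - T.adj φ ∘ₗ T.adj ψ) := by
    have e2 : e * (σ t - t) = 1 := inv_mul_cancel₀ (sub_ne_zero.2 ht)
    rw [T.adj_smul, T.adj_adj, LinearMap.comp_smul, LinearMap.smul_comp]
    conv_lhs => rw [← one_smul F (ψ ∘ₗ φ), ← e2]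
    module
  exact e1 ▸ h1

/-- The coefficients of short root elements form an algebra. -/
noncomputable def goodAlg : Subalgebra F (U →ₗ[F] U) where
  carrier := {φ | T.Good L φ}
  mul_mem' h h' := h'.mul hL h
  one_mem' := show T.Good L 1 by
    have h := good_scalar (T := T) hL 1
    rwa [one_smul] at h
  add_mem' h h' := h.add hL h'
  zero_mem' := Good.zero hL
  algebraMap_mem' c := by
    rw [Algebra.algebraMap_eq_smul_one]
    exact good_scalar hL c

theorem mem_goodAlg {φ : U →ₗ[F] U} : φ ∈ goodAlg (T := T) hL ↔ T.Good L φ := Iff.rfl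

theorem Good.conj {φ : U →ₗ[F] U} (h : T.Good L φ) {p : U ≃ₗ[F] U} (hp : p ∈ Herm.iso α)
    (hd : LinearEquiv.det p = 1) :
    T.Good L ((p : U →ₗ[F] U) * φ * ((p⁻¹ : U ≃ₗ[F] U) : U →ₗ[F] U)) := by
  intro x y hxx hyy hxy
  obtain ⟨k, hk, hkd, hkv⟩ := T.exists_left hp hd
  have hkc : ∀ z v, T.ctr z (k v) = p (T.ctr z v) := fun z v =>
    LinearMap.congr_fun (T.hom_ext (f := T.ctr z ∘ₗ (k : V →ₗ[F] V)) (g := (p : U →ₗ[F] U) ∘ₗ T.ctr z) fun a w => by
      simp [hkv, T.ctr_tau]) v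
  have hpp : ∀ a b, α (p a) b = α a (p⁻¹ b) := fun a b => by
    conv_lhs => rw [← equiv_apply_inv p b]
    exact hp _ _
  have hadj : T.adj ((p : U →ₗ[F] U) * φ * ((p⁻¹ : U ≃ₗ[F] U) : U →ₗ[F] U)) =
      (p : U →ₗ[F] U) * T.adj φ * ((p⁻¹ : U ≃ₗ[F] U) : U →ₗ[F] U) := T.adj_eq fun a b => by
    simp only [Module.End.mul_apply, LinearEquiv.coe_coe]
    rw [hpp, T.α_adj, ← hp, equiv_apply_inv]
  refine (h x y hxx hyy hxy).conj (hL.pure k hk hkd) fun v => ?_
  simp only [sh_apply, hadj, Module.End.mul_apply, LinearEquiv.coe_coe, hkc, equiv_inv_apply, map_sub, hkv]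

variable (hR : ¬ T.Losing L)
  (hex : (∃ y z : F, y ≠ 0 ∧ z ≠ 0 ∧ y ≠ z ∧ y + σ y = 0 ∧ z + σ z = 0) ∨ 3 ≤ finrank F U)
include hR hex

/-- With a coefficient which is not a scalar, every coefficient occurs. -/
theorem good_all (φ : U →ₗ[F] U) : T.Good L φ := by
  simp only [Losing] at hR
  push Not at hR
  obtain ⟨x, ω, hx, hxx, hω, hns⟩ := hR
  have h1 : T.Good L ω := one_smul F ω ▸ (inJ_of_inA hL hx hxx hω).good hL 1
  have htop := T.eq_top_of_conj (goodAlg (T := T) hL) (fun p hp hd ψ hψ => (mem_goodAlg hL).1 hψ |>.conj hL hp hd)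
    (fun ψ hψ => ((mem_goodAlg hL).1 hψ).adj hL) hex (φ := ω) h1 hns
  exact (mem_goodAlg hL).1 (htop ▸ Algebra.mem_top)

theorem inJ_of_skew {ω : U →ₗ[F] U} (h : T.adj ω = -ω) : T.InJ L ω := by
  obtain ⟨a, ha⟩ := Herm.exists_trace_eq T.cB.ne_id T.invol (a := (1 : F)) (map_one σ)
  have := (good_all hL hR hex (-(a • ω))).parts hL 1
  have e1 : ω = (1 : F) • T.adj (-(a • ω)) - σ (1 : F) • -(a • ω) := by
    have e2 : T.adj (-(a • ω)) = σ a • ω := T.adj_eq fun x y => by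
      have h3 := T.α_adj ω x y
      simp only [h, LinearMap.neg_apply, map_neg] at h3
      simp [T.invol, ← h3]
    rw [e2, map_one]
    conv_lhs => rw [← one_smul F ω, ← ha]
    module
  exact e1.symm ▸ this

end Ten

end Cfsg.Lib.Linear.UTensor
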