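import Cfsg.Agent.Lib.Linear.UTensor.Singular

/-!
# A group with only scalar coefficients respects the decomposition
-/

set_option autoImplicit false
set_option linter.unusedSectionVars false

namespace Cfsg.Lib.Linear.UTensor

open Module MvPolynomial
open Cfsg.Lib.Linear

variable {F V U W : Type*} [Field F] [Finite F]
  [AddCommGroup V] [Module F V] [FiniteDimensional F V]
  [AddCommGroup U] [Module F U] [FiniteDimensional F U]
  [AddCommGroup W] [Module F W] [FiniteDimensional F W]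
  {σ : F →+* F} {B : V →ₛₗ[σ] V →ₗ[F] F} {α : U →ₛₗ[σ] U →ₗ[F] F} {β : W →ₛₗ[σ] W →ₗ[F] F}
  {τ : U →ₗ[F] W →ₗ[F] V}

namespace Ten

variable (T : Ten B α β τ)
include T

/-- A skew family has a member singular on a subspace, at a zero of a given polynomial. -/
theorem exists_singular {ι : Type*} [Fintype ι] (A : ι → (V →ₗ[F] V))
    (hA : ∀ i u v, B (A i u) v = -B u (A i v)) (g : V ≃ₗ[F] V) (x : W) (I : Submodule F U)
    (hI0 : 0 < finrank F I) (Q : MvPolynomial ι F)
    (hdeg : finrank F I + Q.totalDegree < Fintype.card ι)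
    (hQ : ∀ t : ι → F, (∀ i, σ (t i) = t i) → σ (eval t Q) = eval t Q) (hQ0 : eval 0 Q = 0) :
    ∃ t : ι → F, t ≠ 0 ∧ (∀ i, σ (t i) = t i) ∧ eval t Q = 0 ∧
      ∃ a ∈ I, a ≠ 0 ∧ ∀ b ∈ I, B (g (τ b x)) (∑ i, t i • A i (g (τ a x))) = 0 := by
  classical
  set b := Module.finBasis F I
  obtain ⟨e, he0, he⟩ := Herm.exists_trace_zero T.cB.ne_id T.invol
  let v : Fin (finrank F I) → V := fun j => g (τ (b j : U) x)
  let M : Matrix (Fin (finrank F I)) (Fin (finrank F I)) (MvPolynomial ι F) :=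
    fun j l => linPoly fun i => e * B (v j) (A i (v l))
  have hev : ∀ (t : ι → F) j l, (M.map (eval t)) j l = e * B (v j) (∑ i, t i • A i (v l)) := fun t j l => by
    rw [show (M.map (eval t)) j l = eval t (linPoly fun i => e * B (v j) (A i (v l))) from rfl, eval_linPoly]
    simp only [map_sum, map_smul, smul_eq_mul, Finset.mul_sum]
    exact Finset.sum_congr rfl fun i _ => by ring
  have hfix : ∀ t : ι → F, (∀ i, σ (t i) = t i) → σ (eval t M.det) = eval t M.det := fun t ht => by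
    rw [RingHom.map_det, RingHom.mapMatrix_apply, RingHom.map_det, RingHom.mapMatrix_apply, ← Matrix.det_transpose]
    congr 1
    ext j l
    rw [Matrix.transpose_apply, Matrix.map_apply, hev, hev, map_mul, ← T.cB.flip_apply,
      show σ e = -e from eq_neg_of_add_eq_zero_right he]
    simp only [map_sum, map_smul, LinearMap.sum_apply, LinearMap.map_smulₛₗ, LinearMap.smul_apply, ht, hA,
      Finset.mul_sum, smul_eq_mul]
    exact Finset.sum_congr rfl fun i _ => by ring
  have hz : eval 0 M.det = 0 := by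
    have : M.map (eval (0 : ι → F)) = 0 := by ext j l; rw [hev]; simp
    rw [RingHom.map_det, RingHom.mapMatrix_apply, this]
    have : Nonempty (Fin (finrank F I)) := ⟨⟨0, hI0⟩⟩
    exact Matrix.det_zero
  obtain ⟨t, ht0, ht, hMt, hQt⟩ := exists_zero T.cB.ne_id T.invol M.det Q
    (by
      have := totalDegree_det_le M fun i j => totalDegree_linPoly _
      rw [Fintype.card_fin] at this
      omega) hfix hQ hz hQ0
  rw [RingHom.map_det, RingHom.mapMatrix_apply] at hMt
  obtain ⟨c, hc0, hc⟩ := Matrix.exists_mulVec_eq_zero_iff.2 hMt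
  refine ⟨t, ht0, ht, hQt, (∑ l, c l • b l : I), Submodule.coe_mem _, fun h => hc0 ?_, fun a ha => ?_⟩
  · have h2 : (∑ l, c l • b l : I) = 0 := Subtype.ext h
    funext l
    exact Fintype.linearIndependent_iff.1 b.linearIndependent c h2 l
  · set Λ : U →ₗ[F] V := (∑ i, t i • A i) ∘ₗ (g : V →ₗ[F] V) ∘ₗ τ.flip x
    have hΛ : ∀ a, Λ a = ∑ i, t i • A i (g (τ a x)) := fun a => by simp [Λ]
    rw [← hΛ]
    have h3 : ∀ j, B (v j) (Λ (∑ l, c l • b l : I)) = 0 := fun j => by
      have h4 := congrFun hc j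
      simp only [Matrix.mulVec, dotProduct, Pi.zero_apply, hev] at h4
      refine (mul_eq_zero.1 (Eq.trans ?_ h4)).resolve_left he0
      simp only [Submodule.coe_sum, Submodule.coe_smul, map_sum (Λ), map_smul, ← hΛ, Finset.mul_sum,
        map_sum (B (v j)), smul_eq_mul, v]
      exact Finset.sum_congr rfl fun l _ => by ring
    rw [T.cB.flip_apply (Λ _), ← (σ.map_zero)]
    congr 1
    have hle : I ≤ LinearMap.ker (B (Λ (∑ l, c l • b l : I)) ∘ₗ (g : V →ₗ[F] V) ∘ₗ τ.flip x) := by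
      conv_lhs => rw [← Submodule.map_subtype_top I, ← b.span_eq]
      rw [Submodule.map_span, Submodule.span_le]
      rintro _ ⟨_, ⟨j, rfl⟩, rfl⟩
      show B (Λ _) (v j) = 0
      exact T.cB.swap_zero (h3 j)
    exact hle ha

/-- An element outside the decomposition with least rank coefficient, normalised. -/
structure Cfg (T : Ten B α β τ) (L : Subgroup (V ≃ₗ[F] V)) (g : V ≃ₗ[F] V) (x : W) (s : ℕ) (I K : Submodule F U) : Prop where
  mem : g ∈ L
  not_prod : ¬ IsProd α β τ g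
  least : ∀ h ∈ L, ¬ IsProd α β τ h → ∀ y z : W, y ≠ 0 → z ≠ 0 → β y y = 0 → β z z = 0 →
    s ≤ finrank F (LinearMap.range (T.entry (h : V →ₗ[F] V) y z))
  hx : x ≠ 0
  hxx : β x x = 0
  isCompl : IsCompl I K
  dim : finrank F I = s
  pos : 0 < s
  range_inv : LinearMap.range (T.entry ((g⁻¹ : V ≃ₗ[F] V) : V →ₗ[F] V) x x) = I
  fix : ∀ a ∈ K, g (τ a x) = τ a x

variable {T} {L : Subgroup (V ≃ₗ[F] V)} {g : V ≃ₗ[F] V} {x : W} {s : ℕ} {I K : Submodule F U}
  (hL : Over B α β τ L) (hR : T.Losing L)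
include hL

theorem Cfg.finish (C : Cfg T L g x s I K) (A : V →ₗ[F] V) (x₁ : W) (hA : InA L A) (hA2 : ∀ v, A (A v) = 0)
    (hx₁ : x₁ ≠ 0) (hx₁₁ : β x₁ x₁ = 0) (hrange : ∀ b, ∃ v, A v = τ b x₁)
    (hKA : K ≠ ⊥ → x₁ = x ∧ (∀ a, A (τ a x) = 0))
    (hperp : ∀ b a : U, B (τ b x) (A (g (τ a x))) = 0 ∨ K = ⊥) {a : U} (ha : a ∈ I) (ha0 : a ≠ 0)
    (hker : ∀ b ∈ I, B (g (τ b x)) (A (g (τ a x))) = 0) : False := by
  obtain ⟨hg, hgn, hmin, hx, hxx, hIK, hIs, hs0, hadj, hgK⟩ := C
  obtain ⟨ee, hee, heA⟩ := hA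
  refine family_false hL hg hgn hx hmin hIK hIs hs0 hadj hgK hee heA hA2 hx₁ hx₁₁ hxx hKA hrange ha ha0 ?_
  refine T.cα.ext_right fun b => ?_
  rw [map_zero, T.α_ctr, ← hL.iso hg, equiv_apply_inv]
  obtain ⟨i, hi, k, hk, rfl⟩ := Submodule.mem_sup.1 (hIK.sup_eq_top ▸ Submodule.mem_top (x := b))
  simp only [map_add, LinearMap.add_apply, hker i hi, zero_add]
  by_cases hk0 : k = 0
  · simp [hk0]
  · rw [hgK k hk]
    exact (hperp k a).resolve_right fun h => hk0 ((Submodule.eq_bot_iff K).1 h k hk)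

omit hL in
variable (T) in
/-- The vectors of the middle pairing with a given one. -/
theorem exists_middle {x' : W} (hxx : β x x = 0) (hx'' : β x' x' = 0) (hxx' : β x x' = 1) {z : W}
    (hz : z ∈ T.cβ.perp2 x x') (hz0 : z ≠ 0) : ∃ z', β z z' = 1 ∧ β x z' = 0 := by
  obtain ⟨w, hw, hzw⟩ : ∃ w ∈ T.cβ.perp2 x x', β z w ≠ 0 := by
    by_contra h
    push Not at h
    exact hz0 (T.cβ.perp2_nondeg hxx hx'' hxx' hz h)
  exact ⟨(β z w)⁻¹ • w, by rw [map_smul, smul_eq_mul, inv_mul_cancel₀ hzw],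
    by rw [map_smul, (T.cβ.mem_perp2.1 hw).1, smul_zero]⟩

/-- Eichler elements give a contradiction when the second factor is large. -/
theorem Cfg.eichler (C : Cfg T L g x s I K) {x' : W} (hx'' : β x' x' = 0) (hxx' : β x x' = 1)
    (hgen : s + 2 < 2 * finrank F (T.cβ.perp2 x x') + 1) : False := by
  have hx := C.hx
  have hxx := C.hxx
  obtain ⟨e, he0, he⟩ := Herm.exists_trace_zero T.cB.ne_id T.invol
  obtain ⟨θ, hθ⟩ := T.cB.exists_not_fixed
  set P := T.cβ.perp2 x x' with hP
  set d := finrank F P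
  set bP := Module.finBasis F P
  let yv : (Fin d × Bool) ⊕ Unit → W :=
    Sum.elim (fun i => (if i.2 then θ else 1) • (bP i.1 : W)) fun _ => 0
  let cv : (Fin d × Bool) ⊕ Unit → F := Sum.elim (fun _ => 0) fun _ => e
  let A : (Fin d × Bool) ⊕ Unit → (V →ₗ[F] V) := fun i => T.eich x (yv i) (cv i)
  have hyv : ∀ i, yv i ∈ P := by
    rintro (i | i)
    · exact P.smul_mem _ (bP i.1).2
    · exact P.zero_mem
  have hcv : ∀ i, σ (cv i) = -cv i := by
    rintro (i | i)
    · simp [cv]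
    · exact eq_neg_of_add_eq_zero_right he
  have hA : ∀ i u v, B (A i u) v = -B u (A i v) := fun i u v => by
    simp only [A, eich, LinearMap.sub_apply, LinearMap.add_apply, LinearMap.smul_apply, map_add, map_sub,
      map_smul, LinearMap.map_smulₛₗ, T.B_lin, T.adj_id, hcv, smul_eq_mul]
    ring
  obtain ⟨t, ht0, htf, hQt, a, ha, ha0, hker⟩ := T.exists_singular A hA g x I (C.dim.symm ▸ C.pos)
    (quadPoly fun i j => β (yv i) (yv j)) (by
      have := totalDegree_quadPoly fun i j => β (yv i) (yv j)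
      simp only [Fintype.card_sum, Fintype.card_prod, Fintype.card_fin, Fintype.card_bool, Fintype.card_unit]
      rw [C.dim]
      omega) (fun t ht => by
      simp only [eval_quadPoly, map_sum, map_mul, ht, ← T.cβ.flip_apply]
      rw [Finset.sum_comm]
      exact Finset.sum_congr rfl fun i _ => Finset.sum_congr rfl fun j _ => by ring)
    (by rw [eval_quadPoly]; simp)
  set y₀ := ∑ i, t i • yv i with hy₀
  set c := ∑ i, t i * cv i with hc
  have hsum : ∀ v, ∑ i, t i • A i v = T.eich x y₀ c v := fun v => by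
    simp only [A, eich_apply, hy₀, hc, map_sum, LinearMap.sum_apply, map_smul, LinearMap.map_smulₛₗ, htf,
      LinearMap.smul_apply, smul_add, smul_sub, Finset.sum_add_distrib, Finset.sum_sub_distrib, Finset.sum_smul,
      smul_smul]
  simp only [hsum] at hker
  have hy₀P : y₀ ∈ P := Submodule.sum_mem _ fun i _ => P.smul_mem _ (hyv i)
  obtain ⟨hxy₀, hx'y₀⟩ := T.cβ.mem_perp2.1 hy₀P
  have hy₀x := T.cβ.swap_zero hxy₀
  have hy₀y₀ : β y₀ y₀ = 0 := by
    rw [← hQt, eval_quadPoly, hy₀]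
    simp only [map_sum, LinearMap.sum_apply, map_smul, LinearMap.map_smulₛₗ, LinearMap.smul_apply, htf,
      smul_eq_mul, Finset.mul_sum]
    rw [Finset.sum_comm]
    exact Finset.sum_congr rfl fun i _ => Finset.sum_congr rfl fun j _ => by ring
  have hcc : c + σ c = 0 := by
    rw [hc, map_sum, ← Finset.sum_add_distrib]
    exact Finset.sum_eq_zero fun i _ => by rw [map_mul, htf, hcv]; ring
  refine C.finish hL (T.eich x y₀ c) x (T.inA_eich hL hxx hy₀x (by rw [hcc, hy₀y₀, neg_zero])) (fun v => ?_) hx hxx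
    (fun b => ?_) (fun _ => ⟨rfl, fun a => by simp [eich_apply, T.ctr_tau, hxx, hy₀x]⟩)
    (fun b a => Or.inl ?_) ha ha0 hker
  · simp [eich_apply, T.ctr_tau, hxx, hxy₀, hy₀x, hy₀y₀]
  · by_cases h0 : y₀ = 0
    · have hc0 : c ≠ 0 := fun hc0 => ht0 (funext fun i => by
        have hsplit : ∑ i : Fin d, (t (Sum.inl (i, false)) + t (Sum.inl (i, true)) * θ) • bP i = 0 := by
          refine Subtype.ext ?_
          rw [ZeroMemClass.coe_zero, ← h0, hy₀, Fintype.sum_sum_type, Fintype.sum_prod_type, Submodule.coe_sum]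
          simp only [yv, Sum.elim_inl, Sum.elim_inr, smul_zero, Finset.sum_const_zero, add_zero, Fintype.sum_bool,
            Submodule.coe_smul, if_true, Bool.false_eq_true, if_false]
          exact Finset.sum_congr rfl fun i _ => by module
        rcases i with ⟨j, bb⟩ | u
        · have h5 := Fintype.linearIndependent_iff.1 bP.linearIndependent _ hsplit j
          have h6 := congrArg σ h5
          rw [map_add, map_mul, map_zero, htf, htf] at h6
          have h7 : t (Sum.inl (j, true)) * (θ - σ θ) = 0 := by linear_combination h5 - h6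
          have h8 := (mul_eq_zero.1 h7).resolve_right (sub_ne_zero.2 (Ne.symm hθ))
          cases bb
          · simpa [h8] using h5
          · exact h8
        · simpa [hc, cv, he0] using hc0)
      exact ⟨c⁻¹ • τ b x', by simp [eich_apply, T.ctr_tau, h0, hxx', hc0, smul_smul]⟩
    · obtain ⟨z, hz, hxz⟩ := T.exists_middle hxx hx'' hxx' hy₀P h0
      exact ⟨-τ b z, by simp [eich_apply, T.ctr_tau, hz, hxz]⟩
  · simp [eich_apply, T.pair, hxx, hxy₀]

/-- Siegel elements of a totally isotropic plane give a contradiction in dimension four. -/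
theorem Cfg.plane (C : Cfg T L g x s I K) {x' : W} (hx'' : β x' x' = 0) (hxx' : β x x' = 1)
    (hs : s < 4) (hKb : K = ⊥) (hPd : 2 ≤ finrank F (T.cβ.perp2 x x')) : False := by
  have hx := C.hx
  have hxx := C.hxx
  have hx'x := T.cβ.swap_one hxx'
  obtain ⟨e, he0, he⟩ := Herm.exists_trace_zero T.cB.ne_id T.invol
  obtain ⟨θ, hθ⟩ := T.cB.exists_not_fixed
  set P := T.cβ.perp2 x x' with hP
  obtain ⟨y, hyP, hy0, hyy⟩ := Herm.exists_iso_ne_zero T.cβ.ne_id T.cβ.invol T.cβ.symm P hPd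
  obtain ⟨hxy, hx'y⟩ := T.cβ.mem_perp2.1 hyP
  have hyx := T.cβ.swap_zero hxy
  have hyx' := T.cβ.swap_zero hx'y
  obtain ⟨y', hyy', hxy'⟩ := T.exists_middle hxx hx'' hxx' hyP hy0
  let wv : Fin 4 → F := ![1, θ, 0, 0]
  let c₁ : Fin 4 → F := ![0, 0, e, 0]
  let c₂ : Fin 4 → F := ![0, 0, 0, e]
  let A : Fin 4 → (V →ₗ[F] V) := fun i => T.eich x (wv i • y) (c₁ i) + c₂ i • T.lin y y LinearMap.id
  have hse : σ e = -e := eq_neg_of_add_eq_zero_right he
  have hc₁ : ∀ i, σ (c₁ i) = -c₁ i := by intro i; fin_cases i <;> simp [c₁, hse]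
  have hc₂ : ∀ i, σ (c₂ i) = -c₂ i := by intro i; fin_cases i <;> simp [c₂, hse]
  have hA : ∀ i u v, B (A i u) v = -B u (A i v) := fun i u v => by
    simp only [A, eich, LinearMap.sub_apply, LinearMap.add_apply, LinearMap.smul_apply, map_add, map_sub,
      map_smul, LinearMap.map_smulₛₗ, T.B_lin, T.adj_id, hc₁, hc₂, smul_eq_mul]
    ring
  obtain ⟨t, ht0, htf, -, a, ha, ha0, hker⟩ := T.exists_singular A hA g x I (C.dim.symm ▸ C.pos) 0
    (by simp only [totalDegree_zero, Fintype.card_fin]; rw [C.dim]; omega) (fun t _ => by simp) (by simp)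
  set w := t 0 + t 1 * θ with hw
  set C₁ := t 2 * e with hC₁
  set C₂ := t 3 * e with hC₂
  set A₀ : V →ₗ[F] V := T.eich x (w • y) C₁ + C₂ • T.lin y y LinearMap.id with hA₀
  have hsum : ∀ v, ∑ i, t i • A i v = A₀ v := fun v => by
    simp only [A, A₀, wv, c₁, c₂, Fin.sum_univ_four, LinearMap.add_apply, LinearMap.smul_apply, eich_apply,
      lin_apply, LinearMap.id_apply, Matrix.cons_val, map_smul, LinearMap.map_smulₛₗ, LinearMap.smul_apply,
      hw, hC₁, hC₂, map_add, map_mul, htf, map_one, map_zero]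
    module
  simp only [hsum] at hker
  have hkill : ∀ v, T.ctr y (T.eich x (w • y) C₁ v) = 0 ∧ T.ctr x (T.eich x (w • y) C₁ v) = 0 := fun v => by
    simp [eich_apply, T.ctr_tau, hxx, hxy, hyx, hyy]
  have hI₂ : InA L A₀ := by
    refine InA.congr (InA.add (T.inA_long hL hyy (c := C₂) ?_) (T.inA_eich hL (y := w • y) hxx ?_ (c := C₁) ?_)
      fun v => ?_) fun v => ?_
    · rw [hC₂, map_mul, htf, hse]; ring
    · simp [hyx]
    · simp only [hC₁, map_mul, htf, hse, map_smul, LinearMap.map_smulₛₗ, LinearMap.smul_apply, hyy, smul_zero]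
      ring
    · simp [lin_apply, (hkill v).1]
    · rw [hA₀, LinearMap.add_apply, LinearMap.add_apply, add_comm]
  have hpre : ∀ b z, A₀ (τ b z) = τ b (β x z • (w • y + C₁ • x) + β y z • (-σ w • x + C₂ • y)) := fun b z => by
    simp only [A₀, LinearMap.add_apply, LinearMap.smul_apply, eich_apply, lin_apply, LinearMap.id_apply,
      T.ctr_tau, map_smul, LinearMap.map_smulₛₗ, map_add, LinearMap.smul_apply]
    module
  obtain ⟨z, hZ0, hZ⟩ : ∃ z, β x z • (w • y + C₁ • x) + β y z • (-σ w • x + C₂ • y) ≠ 0 ∧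
      (β (β x z • (w • y + C₁ • x) + β y z • (-σ w • x + C₂ • y))
        (β x z • (w • y + C₁ • x) + β y z • (-σ w • x + C₂ • y)) = 0) := by
    have hiso : ∀ z, β (β x z • (w • y + C₁ • x) + β y z • (-σ w • x + C₂ • y))
        (β x z • (w • y + C₁ • x) + β y z • (-σ w • x + C₂ • y)) = 0 := fun z => by
      simp [hxx, hxy, hyx, hyy]
    by_contra hcc
    push Not at hcc
    have h1 : w • y + C₁ • x = 0 := by
      by_contra h
      exact hcc x' (by rw [hxx', hyx']; simpa using h) (hiso x')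
    have h2 : -σ w • x + C₂ • y = 0 := by
      by_contra h
      exact hcc y' (by rw [hxy', hyy']; simpa using h) (hiso y')
    have h1x := congrArg (β x') h1
    have h1y := congrArg (fun v => β y' v) h1
    have h2y := congrArg (fun v => β y' v) h2
    simp only [map_add, map_smul, hx'x, hx'y, T.cβ.swap_one hyy', T.cβ.swap_zero hxy', map_zero, smul_eq_mul,
      mul_one, mul_zero, add_zero, zero_add] at h1x h1y h2y
    rw [hC₁, mul_eq_zero, or_iff_left he0] at h1x
    rw [hC₂, mul_eq_zero, or_iff_left he0] at h2y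
    have h6 : σ w = 0 := by rw [h1y, map_zero]
    rw [hw, map_add, map_mul, htf, htf] at h6
    rw [hw] at h1y
    have h7 : t 1 * (θ - σ θ) = 0 := by linear_combination h1y - h6
    have h8 := (mul_eq_zero.1 h7).resolve_right (sub_ne_zero.2 (Ne.symm hθ))
    refine ht0 (funext fun i => ?_)
    fin_cases i
    · simpa [h8] using h1y
    · exact h8
    · exact h1x
    · exact h2y
  refine C.finish hL A₀ _ hI₂ (fun v => ?_) hZ0 hZ (fun b => ⟨τ b z, hpre b z⟩) (fun h => absurd hKb h)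
    (fun _ _ => Or.inr hKb) ha ha0 hker
  simp only [A₀, LinearMap.add_apply, LinearMap.smul_apply, eich_apply, lin_apply, LinearMap.id_apply, map_add,
    map_sub, map_smul, T.ctr_tau, hxx, hxy, hyx, hyy, LinearMap.map_smulₛₗ, LinearMap.smul_apply, smul_zero,
    zero_smul, map_zero, LinearMap.zero_apply, add_zero, sub_zero]

include hR

/-- With only scalar coefficients every element respects the decomposition. -/
theorem all_prod [h4 : Fact (4 ≤ finrank F W)] (hmk : finrank F U < finrank F W) : ∀ g ∈ L, IsProd α β τ g := by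
  classical
  by_contra hcon
  push Not at hcon
  -- the least rank of a coefficient
  let Rk : ℕ → Prop := fun r => ∃ g ∈ L, ¬ IsProd α β τ g ∧ ∃ x y : W, x ≠ 0 ∧ y ≠ 0 ∧ β x x = 0 ∧
    β y y = 0 ∧ finrank F (LinearMap.range (T.entry (g : V →ₗ[F] V) x y)) = r
  have hne : ∃ r, Rk r := by
    obtain ⟨g, hg, hgn⟩ := hcon
    obtain ⟨x, -, hx, hxx⟩ := Herm.exists_iso_ne_zero T.cβ.ne_id T.cβ.invol T.cβ.symm ⊤
      (by rw [finrank_top]; have := T.hW; omega)
    exact ⟨_, g, hg, hgn, x, x, hx, hx, hxx, hxx, rfl⟩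
  have hmin : ∀ h ∈ L, ¬ IsProd α β τ h → ∀ y z : W, y ≠ 0 → z ≠ 0 → β y y = 0 → β z z = 0 →
      Nat.find hne ≤ finrank F (LinearMap.range (T.entry (h : V →ₗ[F] V) y z)) :=
    fun h hh hhn y z hy hz hyy hzz => Nat.find_min' hne ⟨h, hh, hhn, y, z, hy, hz, hyy, hzz, rfl⟩
  obtain ⟨g₀, hg₀, hg₀n, x, y, hx, hy, hxx, hyy, hrk⟩ := Nat.find_spec hne
  set s := Nat.find hne
  have hs0 : 0 < s := by
    rw [← hrk]
    by_contra h0
    rw [not_lt, Nat.le_zero, Submodule.finrank_eq_zero, LinearMap.range_eq_bot] at h0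
    exact hg₀n (prod_of_entry hL hR hg₀ hx hy hxx hyy fun a => LinearMap.congr_fun h0 a)
  -- replace it by a conjugate of a transvection
  obtain ⟨e, he0, he⟩ := Herm.exists_trace_zero T.cB.ne_id T.invol
  obtain ⟨t, ht, htv⟩ := T.inA_long hL hyy he
  have htv' : ∀ v, t v = v + e • τ (T.ctr y v) y := fun v => htv v
  set g := g₀ * t * g₀⁻¹ with hgdef
  have hg : g ∈ L := mul_mem (mul_mem hg₀ ht) (inv_mem hg₀)
  have hgn : ¬ IsProd α β τ g := conj_not_prod hL hR hmk hg₀ hg₀n hy hyy he0 htv'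
  have hgv : ∀ v, g v = v + e • g₀ (τ (T.ctr y (g₀⁻¹ v)) y) := fun v => by
    rw [hgdef, LinearEquiv.mul_apply, LinearEquiv.mul_apply, htv', map_add, equiv_apply_inv, map_smul]
  set E := T.entry (g₀ : V →ₗ[F] V) x y with hE
  have hE' : T.adj E = T.entry ((g₀⁻¹ : V ≃ₗ[F] V) : V →ₗ[F] V) y x := T.adj_entry (hL.iso hg₀) x y
  have hHE : T.entry (g : V →ₗ[F] V) x x = e • (E ∘ₗ T.adj E) := LinearMap.ext fun a => by
    rw [hE', entry_apply, LinearEquiv.coe_coe, hgv, map_add, T.ctr_tau, hxx, zero_smul, zero_add, map_smul]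
    rfl
  set H := T.entry (g : V →ₗ[F] V) x x with hH
  have hHr : LinearMap.range H ≤ LinearMap.range E := by
    rintro _ ⟨a, rfl⟩
    exact ⟨e • T.adj E a, by rw [hHE]; simp⟩
  set I := LinearMap.range H with hI
  set K := LinearMap.ker H with hK
  have hIs : finrank F I = s :=
    le_antisymm ((Submodule.finrank_mono hHr).trans hrk.le) (hmin g hg hgn x x hx hx hxx hxx)
  have hIE : I = LinearMap.range E := Submodule.eq_of_le_of_finrank_eq hHr (hIs.trans hrk.symm)
  have hHadj : T.adj H = -H := by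
    rw [hHE, T.adj_smul, T.adj_comp, T.adj_adj, show σ e = -e from eq_neg_of_add_eq_zero_right he, neg_smul]
  have hperpK : ∀ a ∈ K, ∀ c ∈ I, α a c = 0 := by
    rintro a ha _ ⟨c, rfl⟩
    rw [← T.α_adj, hHadj, LinearMap.neg_apply, (LinearMap.mem_ker.1 ha : H a = 0), neg_zero, map_zero,
      LinearMap.zero_apply]
  have hgK : ∀ a ∈ K, g (τ a x) = τ a x := fun a ha => by
    have h1 : T.adj E a = 0 := T.cα.ext_left fun c => by
      rw [T.α_adj, map_zero, LinearMap.zero_apply, hperpK a ha _ (hIE ▸ LinearMap.mem_range_self E c)]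
    rw [hE', entry_apply, LinearEquiv.coe_coe] at h1
    rw [hgv, h1]
    simp
  have hadj : LinearMap.range (T.entry ((g⁻¹ : V ≃ₗ[F] V) : V →ₗ[F] V) x x) = I := by
    rw [← T.adj_entry (hL.iso hg), ← hH, hHadj, LinearMap.range_neg]
  have hHH : LinearMap.range (H ∘ₗ H) = I := by
    refine Submodule.eq_of_le_of_finrank_le (LinearMap.range_comp_le_range H H) (hIs.le.trans ?_)
    obtain ⟨t₂, ht₂, ht₂v⟩ := T.inA_long hL hxx he
    have h2 := hmin _ (mul_mem (mul_mem hg ht₂) (inv_mem hg))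
      (conj_not_prod hL hR hmk hg hgn hx hxx he0 fun v => ht₂v v) x x hx hx hxx hxx
    refine h2.trans (Submodule.finrank_mono ?_)
    rintro _ ⟨a, rfl⟩
    refine ⟨-e • a, ?_⟩
    have h3 : T.ctr x (g⁻¹ (τ a x)) = -H a := by
      rw [show -H a = T.adj H a by rw [hHadj]; rfl, hH, T.adj_entry (hL.iso hg), entry_apply]
      rfl
    rw [entry_apply, LinearEquiv.coe_coe, LinearEquiv.mul_apply, LinearEquiv.mul_apply, ht₂v, map_add,
      equiv_apply_inv, map_add, LinearMap.smul_apply, lin_apply, LinearMap.id_apply, h3, T.ctr_tau, hxx, zero_smul,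
      zero_add, map_smul, map_smul]
    simp only [LinearMap.comp_apply, map_neg, map_smul, LinearMap.neg_apply, neg_smul, smul_neg, hH, entry_apply,
      LinearEquiv.coe_coe]
  have hdisj : Disjoint I K := by
    rw [Submodule.disjoint_def]
    intro a ha ha'
    have hsurj : Function.Surjective (H.restrict (p := I) (q := I) fun b _ => LinearMap.mem_range_self H b) := by
      rintro ⟨b, hb⟩
      rw [← hHH] at hb
      obtain ⟨c, hc⟩ := hb
      exact ⟨⟨H c, LinearMap.mem_range_self H c⟩, Subtype.ext hc⟩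
    have h4 := LinearMap.injective_iff_surjective.2 hsurj
    exact congrArg Subtype.val (h4 (a₁ := ⟨a, ha⟩) (a₂ := 0) (Subtype.ext (by
      rw [LinearMap.restrict_apply, map_zero]; exact LinearMap.mem_ker.1 ha')))
  have hIK : IsCompl I K := ⟨hdisj, codisjoint_iff.2 (Submodule.eq_top_of_disjoint _ _
    (LinearMap.finrank_range_add_finrank_ker H).ge hdisj)⟩
  obtain ⟨x', hx'', hxx'⟩ := T.cβ.exists_partner hx hxx
  have hPd : finrank F W ≤ finrank F (T.cβ.perp2 x x') + 2 := T.cβ.finrank_perp2 x x'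
  have hsU : s ≤ finrank F U := hIs ▸ Submodule.finrank_le I
  have hW := h4.out
  have C : Cfg T L g x s I K := ⟨hg, hgn, hmin, hx, hxx, hIK, hIs, hs0, hadj, hgK⟩
  by_cases hgen : s + 2 < 2 * finrank F (T.cβ.perp2 x x') + 1
  · exact C.eichler hL hx'' hxx' hgen
  refine C.plane hL hx'' hxx' (by omega) ?_ (by omega)
  rw [← Submodule.finrank_eq_zero]
  have := LinearMap.finrank_range_add_finrank_ker H
  rw [← hI, ← hK, hIs] at this
  omega

end Ten

end Cfsg.Lib.Linear.UTensor
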