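import Cfsg.Agent.Lib.Linear.UTensor.Ten

/-!
# The elements of the decomposition available in an overgroup

Root elements of the second factor, and transport between isotropic vectors.
-/

set_option autoImplicit false
set_option linter.unusedSectionVars false

namespace Cfsg.Lib.Linear.UTensor

open Module
open Cfsg.Lib.Linear

section

variable {F M : Type*} [Field F] [Finite F] [AddCommGroup M] [Module F M] [FiniteDimensional F M]

/-- An equivalence of prime power order has determinant one. -/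
theorem det_eq_one_of_nilpotent (g : M ≃ₗ[F] M)
    (h : IsNilpotent ((g : M →ₗ[F] M) - 1)) : LinearEquiv.det g = 1 := by
  obtain ⟨p, hp⟩ := CharP.exists F
  have := Fact.mk (CharP.char_is_prime F p)
  rcases subsingleton_or_nontrivial M with hM | hM
  · rw [show g = 1 from LinearEquiv.ext fun x => Subsingleton.elim _ _, map_one]
  have := charP_of_injective_algebraMap (FaithfulSMul.algebraMap_injective F (M →ₗ[F] M)) p
  obtain ⟨j, hj⟩ := h
  have h1 : (g : M →ₗ[F] M) ^ p ^ j = 1 := by
    have h2 := sub_pow_char_pow_of_commute (p := p) (n := j) (Commute.one_right (g : M →ₗ[F] M))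
    rw [pow_eq_zero_of_le (Nat.lt_pow_self (CharP.char_is_prime F p).one_lt).le hj, one_pow] at h2
    exact sub_eq_zero.1 h2.symm
  have h3 : (LinearMap.det (g : M →ₗ[F] M) - 1) ^ p ^ j = 0 := by
    rw [sub_pow_char_pow, ← map_pow, h1, map_one, one_pow, sub_self]
  refine Units.ext ?_
  rw [LinearEquiv.coe_det]
  exact sub_eq_zero.1 (eq_zero_of_pow_eq_zero h3)

end

variable {F V U W : Type*} [Field F] [Finite F]
  [AddCommGroup V] [Module F V] [FiniteDimensional F V]
  [AddCommGroup U] [Module F U] [FiniteDimensional F U]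
  [AddCommGroup W] [Module F W] [FiniteDimensional F W]
  {σ : F →+* F} {B : V →ₛₗ[σ] V →ₗ[F] F} {α : U →ₛₗ[σ] U →ₗ[F] F} {β : W →ₛₗ[σ] W →ₗ[F] F}
  {τ : U →ₗ[F] W →ₗ[F] V}

/-- A group of isometries of determinant one containing all such elements of the decomposition. -/
structure Over (B : V →ₛₗ[σ] V →ₗ[F] F) (α : U →ₛₗ[σ] U →ₗ[F] F) (β : W →ₛₗ[σ] W →ₗ[F] F)
    (τ : U →ₗ[F] W →ₗ[F] V) (L : Subgroup (V ≃ₗ[F] V)) : Prop where
  iso : L ≤ Herm.iso B
  det : ∀ g ∈ L, LinearEquiv.det g = 1
  pure : ∀ g, IsProd α β τ g → LinearEquiv.det g = 1 → g ∈ L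

namespace Ten

variable (T : Ten B α β τ)
include T

/-- The coefficient of an Eichler element of the second factor. -/
noncomputable def eich (x y : W) (c : F) : V →ₗ[F] V :=
  T.lin y x LinearMap.id - T.lin x y LinearMap.id + c • T.lin x x LinearMap.id

theorem eich_apply (x y : W) (c : F) (v : V) :
    T.eich x y c v = τ (T.ctr x v) y - τ (T.ctr y v) x + c • τ (T.ctr x v) x := rfl

/-- The map of the second factor behind an Eichler element. -/
theorem exists_eich {x y : W} (hx : β x x = 0) (hyx : β y x = 0) {c : F} (hc : c + σ c = -β y y) :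
    ∃ g : V ≃ₗ[F] V, IsProd α β τ g ∧ LinearEquiv.det g = 1 ∧ ∀ v, g v = v + T.eich x y c v := by
  have hxy := T.cβ.swap_zero hyx
  let D : W →ₗ[F] W := (β x).smulRight y + (c • β x - β y).smulRight x
  have hD : ∀ z, D z = β x z • y + (c * β x z - β y z) • x := fun z => rfl
  obtain ⟨q, hq, hqz⟩ := T.cβ.exists_equiv (1 + D) fun z w => by
    simp only [LinearMap.add_apply, Module.End.one_apply, hD, map_add, map_smul, LinearMap.map_smulₛₗ,
      LinearMap.smul_apply, smul_eq_mul, map_sub, map_mul, hx, hxy, hyx, ← T.cβ.flip_apply]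
    linear_combination (β z x * β x w) * hc
  have hnil : IsNilpotent ((q : W →ₗ[F] W) - 1) := by
    refine ⟨3, LinearMap.ext fun z => ?_⟩
    have e : (q : W →ₗ[F] W) - 1 = D := LinearMap.ext fun z => by
      rw [LinearMap.sub_apply, LinearEquiv.coe_coe, hqz, LinearMap.add_apply, Module.End.one_apply,
        add_sub_cancel_left]
    rw [e, pow_succ, pow_two]
    simp [Module.End.mul_apply, hD, hx, hxy, hyx]
  obtain ⟨g, hg, hd, hgv⟩ := T.exists_right hq (det_eq_one_of_nilpotent q hnil)
  refine ⟨g, hg, hd, LinearMap.congr_fun (T.hom_ext (f := (g : V →ₗ[F] V))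
    (g := LinearMap.id + T.eich x y c) fun a z => ?_)⟩
  rw [LinearEquiv.coe_coe, hgv, hqz, LinearMap.add_apply, Module.End.one_apply, hD, LinearMap.add_apply,
    LinearMap.id_apply, eich_apply, T.ctr_tau, T.ctr_tau]
  simp only [map_add, map_smul, LinearMap.smul_apply]
  module

theorem eich_zero (x : W) (c : F) (v : V) : T.eich x 0 c v = c • T.lin x x LinearMap.id v := by
  simp [eich_apply, lin_apply]

variable {L : Subgroup (V ≃ₗ[F] V)} (hL : Over B α β τ L)
include hL

theorem inA_eich {x y : W} (hx : β x x = 0) (hyx : β y x = 0) {c : F} (hc : c + σ c = -β y y) :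
    InA L (T.eich x y c) := by
  obtain ⟨g, hg, hd, hgv⟩ := T.exists_eich hx hyx hc
  exact ⟨g, hL.pure g hg hd, hgv⟩

/-- Transvections of the second factor. -/
theorem inA_long {x : W} (hx : β x x = 0) {c : F} (hc : c + σ c = 0) :
    InA L (c • T.lin x x LinearMap.id) :=
  (T.inA_eich hL (y := 0) hx (by simp) (c := c) (by simp [hc])).congr fun v => T.eich_zero x c v

theorem iso_ctr {g : V ≃ₗ[F] V} (hg : g ∈ L) {x y : W} {p : U →ₗ[F] U} (hgx : ∀ a, g (τ a x) = τ (p a) y)
    (v : V) : T.adj p (T.ctr y (g v)) = T.ctr x v :=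
  T.cα.ext_right fun c => by rw [T.α_adj', T.α_ctr, T.α_ctr, ← hgx, hL.iso hg]

/-- An element of the second factor moving one isotropic vector to another. -/
theorem exists_move {x y : W} (hx : x ≠ 0) (hy : y ≠ 0) (hxx : β x x = 0) (hyy : β y y = 0) :
    ∃ k ∈ L, IsProd α β τ k ∧ (∀ a, k (τ a x) = τ a y) ∧ ∀ v, T.ctr y (k v) = T.ctr x v := by
  obtain ⟨q, hq, hd, hqx⟩ := T.cβ.exists_su_map_iso (by have := T.hW; omega) hx hy hxx hyy
  obtain ⟨g, hg, hgd, hgv⟩ := T.exists_right hq hd
  refine ⟨g, hL.pure g hg hgd, hg, fun a => by rw [hgv, hqx], fun v => ?_⟩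
  have := T.iso_ctr hL (hL.pure g hg hgd) (p := LinearMap.id) (fun a => by rw [hgv, hqx]; rfl) v
  rwa [T.adj_id] at this

end Ten

end Cfsg.Lib.Linear.UTensor
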