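import Cfsg.Agent.Lib.Linear.UTensor.Stab

/-!
# Elements preserving a pure totally isotropic space respect the decomposition
-/

set_option autoImplicit false
set_option linter.unusedSectionVars false

namespace Cfsg.Lib.Linear.UTensor

open Module
open Cfsg.Lib.Linear

variable {F V U W : Type*} [Field F] [Finite F]
  [AddCommGroup V] [Module F V] [FiniteDimensional F V]
  [AddCommGroup U] [Module F U] [FiniteDimensional F U]
  [AddCommGroup W] [Module F W] [FiniteDimensional F W]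
  {σ : F →+* F} {B : V →ₛₗ[σ] V →ₗ[F] F} {α : U →ₛₗ[σ] U →ₗ[F] F} {β : W →ₛₗ[σ] W →ₗ[F] F}
  {τ : U →ₗ[F] W →ₗ[F] V}

namespace Ten

variable {T : Ten B α β τ} {L : Subgroup (V ≃ₗ[F] V)} (hL : Over B α β τ L) (hR : T.Losing L)
include hL hR

/-- An element preserving `U ⊗ x` respects the decomposition. -/
theorem stab {h : V ≃ₗ[F] V} (hh : h ∈ L) {x : W} (hx : x ≠ 0) (hxx : β x x = 0)
    (hX : ∀ a, ∃ b, h (τ a x) = τ b x) : IsProd α β τ h := by
  classical
  obtain ⟨p, hp, c, hc0, hpa, hctr⟩ := line_factor hL hR hh hx hxx hX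
  have hσc0 : σ c ≠ 0 := by simpa using hc0
  obtain ⟨x', hx'', hxx'⟩ := T.cβ.exists_partner hx hxx
  have hx'x := T.cβ.swap_one hxx'
  set P := T.cβ.perp2 x x' with hP
  have hPm : ∀ {y}, y ∈ P ↔ β x y = 0 ∧ β x' y = 0 := T.cβ.mem_perp2
  obtain ⟨a₀, ha₀⟩ := T.exists_ne_zero
  -- the action on the vectors of the middle
  have key : ∀ y : P, ∃ y' : P, ∀ a, ∃ b, h (τ a (y : W)) = τ (p a) (y' : W) + τ b x := by
    rintro ⟨y, hy⟩
    obtain ⟨hxy, hx'y⟩ := hPm.1 hy
    have hyx := T.cβ.swap_zero hxy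
    have hyx' := T.cβ.swap_zero hx'y
    obtain ⟨c₀, hc₀⟩ := Herm.exists_trace_eq T.cB.ne_id T.invol (a := -β y y) (by rw [map_neg, T.cβ.self_fixed])
    obtain ⟨E, hE, hEv⟩ := T.inA_eich hL hxx hyx hc₀
    have hR' : h * E * h⁻¹ ∈ L := mul_mem (mul_mem hh hE) (inv_mem hh)
    have hfix : ∀ a, (h * E * h⁻¹) (τ a x) = τ a x := fun a => by
      have h0 : h⁻¹ (τ a x) = c⁻¹ • τ (p⁻¹ a) x := by
        apply h.injective
        rw [equiv_apply_inv, map_smul, hpa, equiv_apply_inv, smul_smul, inv_mul_cancel₀ hc0, one_smul]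
      rw [LinearEquiv.mul_apply, LinearEquiv.mul_apply, h0, hEv, eich_apply]
      simp [T.ctr_tau, hxx, hyx, hpa, smul_smul, inv_mul_cancel₀ hc0]
    have hperp : ∀ v, T.ctr x v = 0 → ∃ b, (h * E * h⁻¹) v = v + τ b x := fun v hv => by
      obtain ⟨w, rfl⟩ : ∃ w, h w = v := ⟨h⁻¹ v, equiv_apply_inv h v⟩
      rw [hctr, smul_eq_zero, or_iff_right (inv_ne_zero hσc0), LinearEquiv.map_eq_zero_iff] at hv
      refine ⟨-(c • p (T.ctr y w)), ?_⟩
      rw [LinearEquiv.mul_apply, equiv_inv_apply, LinearEquiv.mul_apply, hEv, eich_apply, hv]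
      simp [hpa, sub_eq_add_neg]
    obtain ⟨-, Q, hQ⟩ := T.rad_scalar hL hR hR' hx hxx hfix hperp
    set y'' : W := (σ c)⁻¹ • (Q x' - x')
    have h1 : ∀ a, ∃ b, h (τ a y) = τ (p a) y'' + τ b x := fun a => by
      set v := h (τ a x') with hv
      have hcv : T.ctr x v = (σ c)⁻¹ • p a := by rw [hv, hctr, T.ctr_tau, hxx', one_smul]
      obtain ⟨b, hb⟩ := hperp (v - τ (T.ctr x v) x') (by rw [map_sub, T.ctr_tau, hxx', one_smul, sub_self])
      have h2 : (h * E * h⁻¹) v = v + h (τ a y) + (c₀ * c) • τ (p a) x := by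
        rw [LinearEquiv.mul_apply, hv, equiv_inv_apply, LinearEquiv.mul_apply, hEv, eich_apply]
        simp [T.ctr_tau, hxx', hyx', hpa, smul_smul, add_assoc]
      refine ⟨b - (c₀ * c) • p a, ?_⟩
      rw [map_sub, hQ, h2, hcv] at hb
      simp only [map_smul, LinearMap.smul_apply, map_sub, LinearMap.sub_apply, y'', smul_sub] at hb ⊢
      linear_combination (norm := module) hb
    clear_value y''
    refine ⟨⟨y'' - β x' y'' • x, hPm.2 ⟨?_, ?_⟩⟩, fun a => ?_⟩
    · rw [map_sub, map_smul, hxx, smul_zero, sub_zero]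
      obtain ⟨b, hb⟩ := h1 a₀
      have h3 := congrArg (T.ctr x) hb
      rw [hctr, map_add, T.ctr_tau, T.ctr_tau, T.ctr_tau, hxy, hxx, zero_smul, zero_smul, map_zero, smul_zero,
        add_zero] at h3
      exact (smul_eq_zero.1 h3.symm).resolve_right (fun e => ha₀ (p.map_eq_zero_iff.1 e))
    · rw [map_sub, map_smul, hx'x, smul_eq_mul, mul_one, sub_self]
    · obtain ⟨b, hb⟩ := h1 a
      refine ⟨b + β x' y'' • p a, ?_⟩
      rw [hb]
      simp only [map_sub, map_add, map_smul, LinearMap.add_apply, LinearMap.smul_apply]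
      module
  choose y' hy' using key
  set bP := Module.finBasis F P
  set q₀ : P →ₗ[F] P := bP.constr F fun i => y' (bP i)
  have hq₀ : ∀ (y : P) a, ∃ b, h (τ a (y : W)) = τ (p a) (q₀ y : W) + τ b x := fun y a => by
    let D : P →ₗ[F] V := (h : V →ₗ[F] V) ∘ₗ τ a ∘ₗ P.subtype - τ (p a) ∘ₗ P.subtype ∘ₗ q₀
    have hD : Submodule.span F (Set.range bP) ≤ (LinearMap.range (τ.flip x)).comap D := by
      rw [Submodule.span_le]
      rintro _ ⟨i, rfl⟩
      obtain ⟨b, hb⟩ := hy' (bP i) a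
      refine ⟨b, ?_⟩
      show τ b x = h (τ a (bP i : W)) - τ (p a) (q₀ (bP i) : W)
      rw [Basis.constr_basis, hb, add_sub_cancel_left]
    obtain ⟨b, hb⟩ := hD (bP.span_eq ▸ Submodule.mem_top (x := y))
    exact ⟨b, by rw [show τ b x = D y from hb]; simp [D]⟩
  have hq₀iso : ∀ y z : P, β (q₀ y : W) (q₀ z : W) = β (y : W) (z : W) := fun y z => by
    obtain ⟨b₀, hb₀⟩ := T.cα.exists_pairing ha₀
    obtain ⟨b, hb⟩ := hq₀ y a₀
    obtain ⟨d, hd⟩ := hq₀ z b₀
    have h4 := hL.iso hh (τ a₀ (y : W)) (τ b₀ (z : W))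
    rw [hb, hd, T.pair] at h4
    simp only [map_add, LinearMap.add_apply, T.pair, hp a₀ b₀, hb₀, hxx, (hPm.1 (q₀ z).2).1,
      T.cβ.swap_zero (hPm.1 (q₀ y).2).1] at h4
    linear_combination h4
  let π : W →ₗ[F] P := LinearMap.codRestrict P (LinearMap.id - (β x').smulRight x - (β x).smulRight x')
    fun z => T.cβ.sub_mem_perp2 hxx hx'' hxx' z
  have hπ : ∀ z, (π z : W) = z - β x' z • x - β x z • x' := fun z => rfl
  let q' : W →ₗ[F] W := (β x').smulRight (c • x) + (β x).smulRight ((σ c)⁻¹ • x') + P.subtype ∘ₗ q₀ ∘ₗ π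
  have hq' : ∀ z, q' z = β x' z • c • x + β x z • (σ c)⁻¹ • x' + (q₀ (π z) : W) := fun z => rfl
  obtain ⟨q, hq, hqz⟩ := T.cβ.exists_equiv q' fun z w => by
    have h5 := hq₀iso (π z) (π w)
    obtain ⟨h6, h7⟩ := hPm.1 (q₀ (π z)).2
    obtain ⟨h8, h9⟩ := hPm.1 (q₀ (π w)).2
    have h10 : β (π z : W) (π w : W) = β z w - σ (β x' z) * β x w - σ (β x z) * β x' w := by
      simp only [hπ, map_sub, map_smul, LinearMap.map_smulₛₗ, LinearMap.sub_apply, LinearMap.smul_apply,
        smul_eq_mul, hxx, hx'', hxx', hx'x, ← T.cβ.flip_apply]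
      ring
    simp only [hq', map_add, map_smul, LinearMap.map_smulₛₗ, LinearMap.add_apply, LinearMap.smul_apply,
      smul_eq_mul, hxx, hx'', hxx', hx'x, h8, h9, T.cβ.swap_zero h6, T.cβ.swap_zero h7, h5, h10, map_inv₀,
      T.invol]
    field_simp
    ring
  obtain ⟨n, hn, -⟩ := T.tens p q
  have hnp : IsProd α β τ n := ⟨p, hp, q, hq, hn⟩
  have hnx : ∀ a, n (τ a x) = h (τ a x) := fun a => by
    have hπx : π x = 0 := Subtype.ext (by simp [hπ, hx'x, hxx])
    rw [hn, hqz, hq', hπx, hpa]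
    simp [hxx, hx'x]
  set u := n⁻¹ * h with hu
  have hui : u ∈ Herm.iso B := mul_mem (inv_mem (T.mem_iso_of_isProd hnp)) (hL.iso hh)
  have hux : ∀ a, u (τ a x) = τ a x := fun a => by rw [hu, LinearEquiv.mul_apply, ← hnx, equiv_inv_apply]
  have huy : ∀ (a : U) (y : P), ∃ b, u (τ a (y : W)) = τ a (y : W) + τ b x := fun a y => by
    obtain ⟨b, hb⟩ := hq₀ y a
    obtain ⟨hy1, hy2⟩ := hPm.1 y.2
    refine ⟨c⁻¹ • p⁻¹ b, n.injective ?_⟩
    have hπy : π (y : W) = y := Subtype.ext (by simp [hπ, hy1, hy2])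
    rw [hu, LinearEquiv.mul_apply, equiv_apply_inv, hb, map_add, hn, hnx, hpa, hqz, hq', hy1, hy2, hπy,
      map_smul, equiv_apply_inv]
    simp [smul_smul, mul_inv_cancel₀ hc0]
  have hperp : ∀ v, T.ctr x v = 0 → ∃ b, u v = v + τ b x := fun v hv => by
    let f : V →ₗ[F] V := ((u : V →ₗ[F] V) - LinearMap.id) ∘ₗ (LinearMap.id - T.lin x' x LinearMap.id)
    have hf : (⊤ : Submodule F V) ≤ (LinearMap.range (τ.flip x)).comap f := by
      rw [← T.span, Submodule.span_le]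
      rintro _ ⟨⟨a, z⟩, rfl⟩
      obtain ⟨b, hb⟩ := huy a (π z)
      refine ⟨b, ?_⟩
      show τ b x = u (τ a z - T.lin x' x LinearMap.id (τ a z)) - (τ a z - T.lin x' x LinearMap.id (τ a z))
      have h11 : τ a z - T.lin x' x LinearMap.id (τ a z) = τ a (π z : W) + β x' z • τ a x := by
        rw [T.lin_tau, LinearMap.id_apply, hπ, map_sub, map_sub, map_smul, map_smul]
        module
      rw [h11, map_add, map_smul, hux, hb]
      abel
    obtain ⟨b, hb⟩ := hf (Submodule.mem_top (x := v))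
    refine ⟨b, ?_⟩
    have hb' : τ b x = u v - v := by
      rw [show τ b x = f v from hb]
      simp [f, lin_apply, hv]
    rw [hb']
    abel
  have hdu : LinearEquiv.det u = 1 := by
    refine det_eq_one_of_nilpotent u ⟨3, LinearMap.ext fun v => ?_⟩
    have h12 : ∀ v, T.ctr x (u v - v) = 0 := fun v => by
      rw [map_sub, sub_eq_zero]
      refine T.cα.ext_right fun a => ?_
      rw [T.α_ctr, T.α_ctr]
      conv_lhs => rw [← hux a]
      exact hui _ _
    obtain ⟨b, hb⟩ := hperp _ (h12 v)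
    simp only [pow_succ, pow_zero, one_mul, Module.End.mul_apply, LinearMap.sub_apply, LinearEquiv.coe_coe,
      Module.End.one_apply, LinearMap.zero_apply]
    rw [hb, add_sub_cancel_left, hux, sub_self]
  have hdn : LinearEquiv.det n = 1 := by
    rw [hu, map_mul, map_inv, hL.det h hh, mul_one, inv_eq_one] at hdu
    exact hdu
  have huL : u ∈ L := mul_mem (inv_mem (hL.pure n hnp hdn)) hh
  have h13 := hnp.mul (T.rad_scalar hL hR huL hx hxx hux hperp).1
  rwa [hu, mul_inv_cancel_left] at h13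

/-- An element carrying `U ⊗ x` to `U ⊗ z` respects the decomposition. -/
theorem prod_of_line {h : V ≃ₗ[F] V} (hh : h ∈ L) {x z : W} (hx : x ≠ 0) (hz : z ≠ 0) (hxx : β x x = 0)
    (hX : ∀ a, ∃ b, h (τ a x) = τ b z) : IsProd α β τ h := by
  obtain ⟨a₀, ha₀⟩ := T.exists_ne_zero
  obtain ⟨b₀, hb₀⟩ := T.cα.exists_pairing ha₀
  have hzz : β z z = 0 := by
    obtain ⟨d, hd⟩ := hX a₀
    have hd0 : d ≠ 0 := fun e => ha₀ (T.tau_eq_zero (h.injective (by rw [hd, e, map_zero, LinearMap.zero_apply,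
      map_zero])) hx)
    obtain ⟨e, he⟩ := T.cα.exists_pairing hd0
    have hsurj : ∀ e, ∃ a, h (τ a x) = τ e z := fun e => by
      choose b hb using hX
      let ψ : U →ₗ[F] U :=
        { toFun := b
          map_add' := fun a a' => T.tau_inj hz (by simp [← hb])
          map_smul' := fun t a => T.tau_inj hz (by simp [← hb]) }
      obtain ⟨a, ha⟩ := LinearMap.surjective_of_injective (f := ψ)
        (fun a a' haa => T.tau_inj hx (h.injective (by rw [hb, hb]; exact congrArg (fun e => τ e z) haa))) e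
      exact ⟨a, by rw [hb]; exact congrArg (fun e => τ e z) ha⟩
    obtain ⟨a', ha'⟩ := hsurj e
    have := hL.iso hh (τ a₀ x) (τ a' x)
    rwa [hd, ha', T.pair, T.pair, hxx, mul_zero, he, one_mul] at this
  obtain ⟨k, hk, hkp, hkz, -⟩ := T.exists_move hL hz hx hzz hxx
  have := stab hL hR (mul_mem hk hh) hx hxx fun a => by
    obtain ⟨b, hb⟩ := hX a
    exact ⟨b, by rw [LinearEquiv.mul_apply, hb, hkz]⟩
  have h2 := hkp.inv.mul this
  rwa [inv_mul_cancel_left] at h2

/-- An element with a vanishing coefficient at a pair of isotropic vectors respects the decomposition. -/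
theorem prod_of_entry {g : V ≃ₗ[F] V} (hg : g ∈ L) {x y : W} (hx : x ≠ 0) (hy : y ≠ 0) (hxx : β x x = 0)
    (hyy : β y y = 0) (h0 : ∀ a, T.ctr x (g (τ a y)) = 0) : IsProd α β τ g := by
  obtain ⟨e, he0, he⟩ := Herm.exists_trace_zero T.cB.ne_id T.invol
  obtain ⟨t, ht, htv⟩ := T.inA_long hL hyy he
  have htv' : ∀ v, t v = v + e • τ (T.ctr y v) y := fun v => htv v
  have h1 : ∀ a, T.ctr y (g⁻¹ (τ a x)) = 0 := fun a => T.cα.ext_right fun c => by
    rw [T.α_ctr, map_zero, ← hL.iso hg, equiv_apply_inv, T.cB.flip_apply (τ a x), ← T.α_ctr, h0,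
      map_zero, map_zero]
  set s := g * t * g⁻¹ with hs
  have hsv : ∀ v, s v = v + e • g (τ (T.ctr y (g⁻¹ v)) y) := fun v => by
    rw [hs, LinearEquiv.mul_apply, LinearEquiv.mul_apply, htv', map_add, equiv_apply_inv, map_smul]
  have hsL : s ∈ L := mul_mem (mul_mem hg ht) (inv_mem hg)
  have hsx : ∀ a, s (τ a x) = τ a x := fun a => by rw [hsv, h1]; simp
  obtain ⟨p, -, q, -, hpq⟩ := stab hL hR hsL hx hxx fun a => ⟨a, hsx a⟩
  obtain ⟨a₀, ha₀⟩ := T.exists_ne_zero
  -- the first factor is trivial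
  obtain ⟨l, hl⟩ : ∃ l : F, ∀ a, p a = l • a := by
    obtain ⟨x₁, hx₁⟩ := T.cβ.exists_pairing hx
    have h2 : ∀ a, β x₁ (q x) • p a = a := fun a => by
      have := congrArg (T.ctr x₁) ((hsx a).symm.trans (hpq a x))
      rw [T.ctr_tau, T.ctr_tau, T.cβ.swap_one hx₁, one_smul] at this
      exact this.symm
    refine ⟨(β x₁ (q x))⁻¹, fun a => ?_⟩
    have hne : β x₁ (q x) ≠ 0 := fun e => ha₀ (by rw [← h2 a₀, e, zero_smul])
    conv_rhs => rw [← h2 a]
    rw [smul_smul, inv_mul_cancel₀ hne, one_smul]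
  obtain ⟨z, hz⟩ : ∃ z, l • q z - z ≠ 0 := by
    by_contra hc
    push Not at hc
    have h3 : ∀ v, s v = v := fun v => LinearMap.congr_fun
      (T.hom_ext (f := (s : V →ₗ[F] V)) (g := LinearMap.id) fun a z => by
        rw [LinearEquiv.coe_coe, hpq, hl, map_smul, LinearMap.smul_apply, ← map_smul, sub_eq_zero.1 (hc z)]
        rfl) v
    have h4 := h3 (g (τ a₀ (Classical.choose (T.cβ.exists_pairing hy))))
    rw [hsv, equiv_inv_apply, T.ctr_tau, Classical.choose_spec (T.cβ.exists_pairing hy), one_smul,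
      add_eq_left, smul_eq_zero, or_iff_right he0, LinearEquiv.map_eq_zero_iff] at h4
    exact ha₀ (T.tau_eq_zero h4 hy)
  -- so the image of the line of `y` is pure
  set Z := l • q z - z with hZ
  have hr : LinearMap.range (τ.flip Z) ≤ LinearMap.range ((g : V →ₗ[F] V) ∘ₗ τ.flip y) := by
    rintro _ ⟨a, rfl⟩
    refine ⟨e • T.ctr y (g⁻¹ (τ a z)), ?_⟩
    show g (τ (e • T.ctr y (g⁻¹ (τ a z))) y) = τ a Z
    rw [map_smul, LinearMap.smul_apply, map_smul, ← sub_eq_iff_eq_add'.2 (hsv (τ a z)), hpq, hl, hZ]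
    simp
  have heq := Submodule.eq_of_le_of_finrank_eq hr (by
    rw [LinearMap.finrank_range_of_inj (f := τ.flip Z) fun a b hab => T.tau_inj hz hab,
      LinearMap.finrank_range_of_inj (f := (g : V →ₗ[F] V) ∘ₗ τ.flip y) fun a b hab =>
        T.tau_inj hy (g.injective hab)])
  refine prod_of_line hL hR hg hy hz hyy fun a => ?_
  obtain ⟨b, hb⟩ := heq.symm ▸ LinearMap.mem_range_self ((g : V →ₗ[F] V) ∘ₗ τ.flip y) a
  exact ⟨b, hb.symm⟩

end Ten

end Cfsg.Lib.Linear.UTensor
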