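import Cfsg.Agent.Lib.Linear.UTensor.Descent
import Cfsg.Agent.Lib.Linear.UTensor.Coeff

/-!
# Overgroups of the stabiliser of a product of Hermitian spaces
-/

set_option autoImplicit false
set_option linter.unusedSectionVars false

namespace Cfsg.Lib.Linear.UTensor

open Module
open Cfsg.Lib.Linear

variable {F V U W : Type*} [Field F] [Finite F]
  [AddCommGroup V] [Module F V] [FiniteDimensional F V]
  [AddCommGroup U] [Module F U] [FiniteDimensional F U]
  [AddCommGroup W] [Module F W] [FiniteDimensional F W]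
  {σ : F →+* F} {B : V →ₛₗ[σ] V →ₗ[F] F} {α : U →ₛₗ[σ] U →ₗ[F] F} {β : W →ₛₗ[σ] W →ₗ[F] F}
  {τ : U →ₗ[F] W →ₗ[F] V}

namespace Ten

variable {T : Ten B α β τ} {L : Subgroup (V ≃ₗ[F] V)} [h4 : Fact (4 ≤ finrank F W)] (hL : Over B α β τ L)
include hL

omit hL in
/-- The middle of a hyperbolic pair is spanned by isotropic vectors. -/
theorem middle_span (T : Ten B α β τ) {x x' : W} (hxx : β x x = 0) (hx'' : β x' x' = 0) (hxx' : β x x' = 1) :
    T.cβ.perp2 x x' ≤ Submodule.span F {w | w ∈ T.cβ.perp2 x x' ∧ β w w = 0} := by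
  set P := T.cβ.perp2 x x'
  set S := Submodule.span F {w | w ∈ P ∧ β w w = 0}
  obtain ⟨e, heP, he0, hee⟩ := Herm.exists_iso_ne_zero T.cβ.ne_id T.cβ.invol T.cβ.symm P
    (by have : finrank F W ≤ finrank F P + 2 := T.cβ.finrank_perp2 x x'; have := h4.out; omega)
  have heS : e ∈ S := Submodule.subset_span ⟨heP, hee⟩
  have key : ∀ w ∈ P, β e w ≠ 0 → w ∈ S := by
    intro w hw hew
    obtain ⟨s, hs⟩ := Herm.exists_trace_eq T.cB.ne_id T.invol (a := -(β w w)) (by rw [map_neg, T.cβ.self_fixed])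
    set t := σ (s / β e w) with ht
    have h1 : w + t • e ∈ S := by
      refine Submodule.subset_span ⟨P.add_mem hw (P.smul_mem _ heP), ?_⟩
      have hwe : β w e = σ (β e w) := T.cβ.flip_apply e w
      have hx0 : σ (β e w) ≠ 0 := by simpa using hew
      simp only [map_add, LinearMap.add_apply, LinearMap.map_smulₛₗ, LinearMap.smul_apply, smul_eq_mul, hee,
        mul_zero, add_zero, hwe, T.invol, ht, map_smul]
      rw [map_div₀, div_mul_cancel₀ _ hew, div_mul_cancel₀ _ hx0]
      linear_combination hs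
    have h2 := S.sub_mem h1 (S.smul_mem t heS)
    rwa [add_sub_cancel_right] at h2
  obtain ⟨y, hy, hey⟩ : ∃ y ∈ P, β e y ≠ 0 := by
    by_contra h
    push Not at h
    exact he0 (T.cβ.perp2_nondeg hxx hx'' hxx' heP h)
  intro w hw
  by_cases hew : β e w = 0
  · have h2 := S.sub_mem (key (w + y) (P.add_mem hw hy) (by rw [map_add, hew, zero_add]; exact hey)) (key y hy hey)
    rwa [add_sub_cancel_right] at h2
  · exact key w hw hew

variable (hR : ¬ T.Losing L)
  (hex : (∃ y z : F, y ≠ 0 ∧ z ≠ 0 ∧ y ≠ z ∧ y + σ y = 0 ∧ z + σ z = 0) ∨ 3 ≤ finrank F U)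
include hR hex

/-- Every isotropic vector is the centre of transvections in the group. -/
theorem transvection_mem (v : V) (l : F) (h : l + σ l + σ l * l * B v v = 0) (hv : B v v = 0) :
    Herm.qrefl v l h ∈ L := by
  by_cases hv0 : v = 0
  · have : Herm.qrefl v l h = 1 := LinearEquiv.ext fun z => by simp [hv0]
    rw [this]
    exact one_mem _
  have hl : l + σ l = 0 := by rw [hv, mul_zero, add_zero] at h; exact h
  -- an isotropic vector with non-zero contraction
  obtain ⟨x, hxx, hxv⟩ : ∃ x : W, β x x = 0 ∧ T.ctr x v ≠ 0 := by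
    by_contra hc
    push Not at hc
    obtain ⟨e, -, he0, hee⟩ := Herm.exists_iso_ne_zero T.cβ.ne_id T.cβ.invol T.cβ.symm ⊤
      (by rw [finrank_top]; have := T.hW; omega)
    refine hv0 (T.eq_zero fun z => ?_)
    have hz : z ∈ Submodule.span F ({e} ∪ {w | β w w = 0 ∧ β e w ≠ 0}) :=
      T.cβ.span_iso he0 hee ▸ Submodule.mem_top
    induction hz using Submodule.span_induction with
    | mem x hx =>
      rcases hx with rfl | hx
      · exact hc _ hee
      · exact hc _ hx.1
    | zero => simp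
    | add x y _ _ hx hy => rw [map_add, LinearMap.add_apply, hx, hy, add_zero]
    | smul c x _ hx => rw [LinearMap.map_smulₛₗ, LinearMap.smul_apply, hx, smul_zero]
  set a := T.ctr x v with ha
  have hx : x ≠ 0 := fun e => hxv (by rw [ha, e]; simp)
  obtain ⟨x', hx'', hxx'⟩ := T.cβ.exists_partner hx hxx
  have hx'x := T.cβ.swap_one hxx'
  -- moves modulo `U ⊗ x`
  set R : V → Prop := fun w => T.ctr x w = 0 ∧ ∀ u, T.ctr x u = a → ∃ k ∈ L, ∃ c, k u = u + w + τ c x with hRdef
  have hR0 : R 0 := ⟨map_zero _, fun u _ => ⟨1, one_mem _, 0, by simp⟩⟩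
  have hRadd : ∀ {w w'}, R w → R w' → R (w + w') := by
    rintro w w' ⟨hw, hk⟩ ⟨hw', hk'⟩
    refine ⟨by rw [map_add, hw, hw', add_zero], fun u hu => ?_⟩
    obtain ⟨k, hkL, c, hku⟩ := hk u hu
    obtain ⟨k', hk'L, c', hk'u⟩ := hk' (u + w + τ c x) (by
      rw [map_add, map_add, hu, hw, T.ctr_tau, hxx, zero_smul, add_zero, add_zero])
    refine ⟨k' * k, mul_mem hk'L hkL, c + c', ?_⟩
    rw [LinearEquiv.mul_apply, hku, hk'u, map_add, LinearMap.add_apply]
    abel
  obtain ⟨d, hd⟩ := T.cα.exists_pairing hxv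
  have hRgen : ∀ y ∈ T.cβ.perp2 x x', ∀ b, R (τ b y) := by
    intro y hy
    have hy' := middle_span T hxx hx'' hxx' hy
    clear hy
    induction hy' using Submodule.span_induction with
    | mem y hyy =>
      intro b
      obtain ⟨hxy, -⟩ := T.cβ.mem_perp2.1 hyy.1
      refine ⟨by rw [T.ctr_tau, hxy, zero_smul], fun u hu => ?_⟩
      obtain ⟨k, hk, hku⟩ := good_all hL hR hex (rk α b d) y x hyy.2 hxx (T.cβ.swap_zero hxy)
      refine ⟨k, hk, -(T.adj (rk α b d) (T.ctr y u)), ?_⟩
      rw [hku, sh_apply, hu, rk_apply, T.cα.swap_one hd, one_smul, map_neg, LinearMap.neg_apply]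
      abel
    | zero => exact fun b => by rw [map_zero]; exact hR0
    | add y y' _ _ hy hy' => exact fun b => by rw [map_add]; exact hRadd (hy b) (hy' b)
    | smul c y _ hy => exact fun b => by rw [show τ b (c • y) = τ (c • b) y by simp]; exact hy _
  let f : V →ₗ[F] V := LinearMap.id - T.lin x' x LinearMap.id - T.lin x x' LinearMap.id
  have hf : ∀ b z, f (τ b z) = τ b (z - β x' z • x - β x z • x') := fun b z => by
    simp [f, T.lin_tau]
    abel
  have hRf : ∀ (u : V) (c : F), R (c • f u) := fun u => by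
    have hu : u ∈ Submodule.span F (Set.range fun p : U × W => τ p.1 p.2) := T.span ▸ Submodule.mem_top
    induction hu using Submodule.span_induction with
    | mem u hu =>
      obtain ⟨⟨b, z⟩, rfl⟩ := hu
      intro c
      rw [hf, ← LinearMap.smul_apply, ← map_smul]
      exact hRgen _ (T.cβ.sub_mem_perp2 hxx hx'' hxx' z) _
    | zero => exact fun c => by rw [map_zero, smul_zero]; exact hR0
    | add u u' _ _ hu hu' => exact fun c => by rw [map_add, smul_add]; exact hRadd (hu c) (hu' c)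
    | smul e u _ hu => exact fun c => by rw [map_smul, smul_smul]; exact hu _
  obtain ⟨hw0, hmove⟩ := hRf v 1
  obtain ⟨k, hk, c, hkv⟩ := hmove (τ a x') (by rw [T.ctr_tau, hxx', one_smul])
  set b := T.ctr x' v - c with hb
  have hv₁ : k (τ a x') = v - τ b x := by
    rw [hkv, hb, one_smul]
    simp [f, lin_apply, ← ha]
    abel
  clear_value b
  -- the last correction
  have hvz : B (τ a x') (τ a x') = 0 := by rw [T.pair, hx'', mul_zero]
  have h1 : B (v - τ b x) (v - τ b x) = 0 := by rw [← hv₁, hL.iso hk, hvz]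
  have hab : α b a + α a b = 0 := by
    have e1 : B (τ b x) v = α b a := (T.α_ctr x v b).symm
    have e2 : B v (τ b x) = α a b := (T.ctr_α x v b).symm
    rw [map_sub (B (v - τ b x)), map_sub B v, LinearMap.sub_apply, LinearMap.sub_apply, hv, e1, e2, T.pair,
      hxx, mul_zero] at h1
    linear_combination -h1
  have hd1 : α d a = 1 := T.cα.swap_one hd
  set ω := rk α b d - rk α d b + α b a • rk α d d with hω
  have hωa : ω a = b := by simp [hω, rk_apply, hd1]
  have hωskew : T.adj ω = -ω := T.adj_eq fun u w => by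
    simp only [hω, LinearMap.neg_apply, LinearMap.add_apply, LinearMap.sub_apply, LinearMap.smul_apply, rk_apply,
      map_neg, map_add, map_sub, map_smul, LinearMap.map_smulₛₗ, ← T.cα.flip_apply, smul_eq_mul]
    linear_combination (-(α u d * α d w)) * hab
  obtain ⟨n, hn, hnv⟩ := inJ_of_skew hL hR hex hωskew x hxx
  have hv₂ : (n * k) (τ a x') = v := by
    rw [LinearEquiv.mul_apply, hv₁, hnv, lin_apply, map_sub, T.ctr_tau, hxx, zero_smul, sub_zero, ← ha, hωa]
    abel
  -- the transvection at the pure centre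
  have hskew : T.adj (l • rk α a a) = -(l • rk α a a) := T.adj_eq fun u w => by
    simp only [LinearMap.neg_apply, LinearMap.smul_apply, rk_apply, map_neg, map_smul, LinearMap.map_smulₛₗ,
      ← T.cα.flip_apply, smul_eq_mul, eq_neg_of_add_eq_zero_right hl]
    ring
  obtain ⟨t, ht, htv⟩ := inJ_of_skew hL hR hex hskew x' hx''
  have hg : n * k ∈ L := mul_mem hn hk
  generalize n * k = g at hv₂ hg
  have hfin : Herm.qrefl v l h = g * t * g⁻¹ := LinearEquiv.ext fun z => by
    obtain ⟨z, rfl⟩ : ∃ w, g w = z := ⟨g⁻¹ z, equiv_apply_inv g z⟩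
    rw [Herm.qrefl_apply, LinearEquiv.mul_apply, LinearEquiv.mul_apply, equiv_inv_apply, htv, map_add, lin_apply,
      LinearMap.smul_apply, rk_apply, T.α_ctr, map_smul, LinearMap.smul_apply, map_smul, map_smul,
      LinearMap.smul_apply, map_smul]
    conv_lhs => rw [← hv₂, hL.iso hg]
    rw [hv₂, smul_smul]
  rw [hfin]
  exact mul_mem (mul_mem hg ht) (inv_mem hg)

end Ten

variable {T : Ten B α β τ} {L : Subgroup (V ≃ₗ[F] V)}

/-- An overgroup respects the decomposition or contains all transvections. -/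
theorem Ten.dichotomy (T : Ten B α β τ) [Fact (4 ≤ finrank F W)] (hL : Over B α β τ L) (hmk : finrank F U < finrank F W)
    (hex : (∃ y z : F, y ≠ 0 ∧ z ≠ 0 ∧ y ≠ z ∧ y + σ y = 0 ∧ z + σ z = 0) ∨ 3 ≤ finrank F U) :
    (∀ g ∈ L, IsProd α β τ g) ∨ Herm.tvGroup B ≤ L := by
  by_cases hR : T.Losing L
  · exact Or.inl (Ten.all_prod hL hR hmk)
  refine Or.inr ?_
  rw [Herm.tvGroup, Subgroup.closure_le]
  rintro _ ⟨w, l, h, hw, rfl⟩
  exact Ten.transvection_mem hL hR hex w l h hw

/-- Some transvection does not respect the decomposition. -/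
theorem Ten.exists_not_prod (T : Ten B α β τ) : ∃ g ∈ Herm.tvGroup B, ¬ IsProd α β τ g := by
  obtain ⟨a, -, ha0, haa⟩ := Herm.exists_iso_ne_zero T.cα.ne_id T.cα.invol T.cα.symm ⊤
    (by rw [finrank_top]; exact T.hU)
  obtain ⟨x, -, hx, hxx⟩ := Herm.exists_iso_ne_zero T.cβ.ne_id T.cβ.invol T.cβ.symm ⊤
    (by rw [finrank_top]; have := T.hW; omega)
  obtain ⟨b, hb⟩ := T.cα.exists_pairing ha0
  obtain ⟨x', hx'', hxx'⟩ := T.cβ.exists_partner hx hxx
  obtain ⟨e, he0, he⟩ := Herm.exists_trace_zero T.cB.ne_id T.invol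
  have hv : B (τ a x) (τ a x) = 0 := by rw [T.pair, hxx, mul_zero]
  have h : e + σ e + σ e * e * B (τ a x) (τ a x) = 0 := by rw [hv, mul_zero, add_zero, he]
  refine ⟨Herm.qrefl (τ a x) e h, Subgroup.subset_closure ⟨_, e, h, hv, rfl⟩, ?_⟩
  rintro ⟨p, -, q, -, hpq⟩
  have h1 := hpq b x'
  rw [Herm.qrefl_apply, T.pair, hb, hxx', one_mul, mul_one] at h1
  have e1 := congrArg (T.ctr x) h1
  have e2 := congrArg (T.ctr x') h1
  rw [map_add, map_smul, T.ctr_tau, T.ctr_tau, T.ctr_tau, hxx', hxx, one_smul, zero_smul, smul_zero, add_zero] at e1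
  rw [map_add, map_smul, T.ctr_tau, T.ctr_tau, T.ctr_tau, hx'', T.cβ.swap_one hxx', zero_smul, one_smul, zero_add]
    at e2
  have e3 := congrArg (α a) e2
  have e4 := congrArg (α a) e1
  simp only [map_smul, haa, smul_eq_mul, mul_zero, hb] at e3 e4
  rcases mul_eq_zero.1 e3.symm with h5 | h5
  · rw [h5, zero_smul, smul_eq_zero, or_iff_right he0] at e2
    exact ha0 e2
  · rw [h5, mul_zero] at e4
    exact one_ne_zero e4

end Cfsg.Lib.Linear.UTensor
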