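import Cfsg.Agent.Lib.Linear.SpTensor.Max
import Cfsg.Agent.Lib.Linear.UnitaryMax
import Cfsg.Agent.Lib.Linear.UTensor.Main

/-!
# The stabiliser of a tensor decomposition of the unitary form is maximal
-/

set_option autoImplicit false
set_option linter.unusedSectionVars false

namespace Cfsg.Lib.Linear.UTensor

open Module
open scoped Matrix Kronecker
open Cfsg.Lib.Linear
open Cfsg.Lib.Linear.AschGen (tensMat mem_tensorProductSubgroup_iff)
open Cfsg.Lib.Linear.TensorLine (det_tensMat)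
open Cfsg.Lib.Linear.SpTensor (tensor tensor_apply span_tensor tensMat_tensor mem_of_tensor)

variable {F : Type*} [Field F] [Fintype F] {q : ℕ} (hF : Fintype.card F = q ^ 2)

include hF

theorem exists_two_trace (hq : 3 ≤ q) :
    ∃ y z : F, y ≠ 0 ∧ z ≠ 0 ∧ y ≠ z ∧ y + Herm.frob hF y = 0 ∧ z + Herm.frob hF z = 0 := by
  classical
  obtain ⟨a, ha, ha0, ha1⟩ : ∃ a : F, a ^ q = a ∧ a ≠ 0 ∧ a ≠ 1 := by
    by_contra h
    push Not at h
    have h1 : Nat.card {a : F // a ^ q = a} ≤ Nat.card ({0, 1} : Set F) :=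
      Nat.card_le_card_of_injective (fun a => ⟨a.1, by
        rcases eq_or_ne a.1 0 with h0 | h0
        · exact Or.inl h0
        · exact Or.inr (h a.1 a.2 h0)⟩) fun a b hab => Subtype.ext (by simpa using hab)
    rw [Herm.card_fixed hF, Nat.card_coe_set_eq, Set.ncard_pair zero_ne_one] at h1
    omega
  obtain ⟨y, hy0, hy⟩ := Herm.exists_trace_zero (Herm.frob_ne_id hF) (Herm.frob_frob hF)
  refine ⟨y, a * y, hy0, mul_ne_zero ha0 hy0, fun h => ha1 (mul_right_cancel₀ hy0 (by rw [← h, one_mul])), hy, ?_⟩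
  rw [map_mul, Herm.frob_apply hF a, ha, ← mul_add, hy, mul_zero]

/-- A form, linear in its second argument. -/
noncomputable def sesq {d : ℕ} (c : F) (_hc : Herm.frob hF c = c) (f : (Fin d → F) → (Fin d → F) → F)
    (hf : Cfsg.Geo.IsUnitaryFormPow q f) : (Fin d → F) →ₛₗ[Herm.frob hF] (Fin d → F) →ₗ[F] F :=
  LinearMap.mk₂'ₛₗ (Herm.frob hF) (RingHom.id F) (fun a b => c * f b a)
    (fun a a' b => by
      rw [← mul_add, hf.herm b (a + a'), hf.add_left, hf.herm b a, hf.herm b a', ← Herm.frob_apply hF,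
        ← Herm.frob_apply hF, ← Herm.frob_apply hF, map_add])
    (fun t a b => by
      rw [hf.herm b (t • a), hf.smul_left, hf.herm b a, ← Herm.frob_apply hF, ← Herm.frob_apply hF, map_mul,
        smul_eq_mul]
      ring)
    (fun a b b' => by rw [hf.add_left, mul_add])
    (fun t a b => by rw [hf.smul_left, RingHom.id_apply, smul_eq_mul, mul_left_comm])

theorem sesq_apply {d : ℕ} {c : F} (hc : Herm.frob hF c = c) {f : (Fin d → F) → (Fin d → F) → F}
    (hf : Cfsg.Geo.IsUnitaryFormPow q f) (a b : Fin d → F) : sesq hF c hc f hf a b = c * f b a := rfl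

theorem sesq_form {d : ℕ} {c : F} (hc : Herm.frob hF c = c) (hc0 : c ≠ 0)
    {f : (Fin d → F) → (Fin d → F) → F} (hf : Cfsg.Geo.IsUnitaryFormPow q f) : Form (sesq hF c hc f hf) := by
  have hs : (sesq hF c hc f hf).IsSymm := ⟨fun x y => by
    rw [sesq_apply, sesq_apply, map_mul, hc, Herm.frob_apply hF, ← hf.herm]⟩
  have hl : ∀ a, (∀ b, sesq hF c hc f hf a b = 0) → a = 0 := fun a h => by
    by_contra hne
    obtain ⟨x, hx⟩ := (hf.nondegenerate a hne).1
    exact hx ((mul_eq_zero.1 (h x)).resolve_left hc0)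
  exact ⟨Herm.frob_ne_id hF, Herm.frob_frob hF, hs, hl, fun b h => hl b fun a => hs.isRefl _ _ (h a)⟩

theorem sesq_expand {d : ℕ} {c : F} (hc : Herm.frob hF c = c) {f : (Fin d → F) → (Fin d → F) → F}
    (hf : Cfsg.Geo.IsUnitaryFormPow q f) (a b : Fin d → F) :
    sesq hF c hc f hf a b = ∑ i, ∑ j, b i * (c * f (Pi.single i 1) (Pi.single j 1)) * a j ^ q := by
  conv_lhs => rw [pi_eq_sum_univ' a, pi_eq_sum_univ' b]
  simp only [map_sum, LinearMap.sum_apply, map_smul, LinearMap.map_smulₛₗ, LinearMap.smul_apply, smul_eq_mul,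
    sesq_apply, Herm.frob_apply hF]
  simp only [Finset.mul_sum]
  exact Finset.sum_congr rfl fun i _ => Finset.sum_congr rfl fun j _ => by ring

variable {n m k : ℕ} (e : Fin n ≃ Fin m × Fin k) (P : GL (Fin n) F)

/-- The stabiliser of a tensor decomposition is maximal as soon as every overgroup respects the decomposition
or contains all transvections. -/
theorem maximal_of {f₁ : (Fin m → F) → (Fin m → F) → F} {f₂ : (Fin k → F) → (Fin k → F) → F}
    (hf₁ : Cfsg.Geo.IsUnitaryFormPow q f₁) (hf₂ : Cfsg.Geo.IsUnitaryFormPow q f₂)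
    (hT : Cfsg.Geo.IsTensorFormStructure (fun x : F => x ^ q) (Cfsg.hermForm n F q) f₁ f₂ e P)
    (hm : 2 ≤ m) (hk : 3 ≤ k)
    (hdich : ∀ {α : (Fin m → F) →ₛₗ[Herm.frob hF] (Fin m → F) →ₗ[F] F}
      {β : (Fin k → F) →ₛₗ[Herm.frob hF] (Fin k → F) →ₗ[F] F}
      {τ : (Fin m → F) →ₗ[F] (Fin k → F) →ₗ[F] (Fin n → F)} (_ : Ten (Herm.hB hF n) α β τ)
      (L : Subgroup ((Fin n → F) ≃ₗ[F] (Fin n → F))), Over (Herm.hB hF n) α β τ L →
        (∀ g ∈ L, IsProd α β τ g) ∨ Herm.tvGroup (Herm.hB hF n) ≤ L) :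
    Cfsg.Geo.IsMaximalIn (Cfsg.GU n F q ⊓ Cfsg.Geo.specialLinear (Fin n) F)
      (Cfsg.Geo.tensorProductSubgroup m k e P ⊓ (Cfsg.GU n F q ⊓ Cfsg.Geo.specialLinear (Fin n) F)) := by
  classical
  set σ := Herm.frob hF with hσ
  obtain ⟨c, hc0, hc⟩ := hT
  have hn : n = m * k := by simpa using Fintype.card_congr e
  have hC : Herm.Big.Space (Herm.hB hF n) :=
    ⟨Herm.frob_ne_id hF, Herm.frob_frob hF, Herm.hB_isSymm hF n, Herm.hB_nondegenerate hF n, by
      have h8 := Nat.mul_le_mul hm hk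
      rw [finrank_fin_fun, hn]
      omega⟩
  have hpair0 : ∀ a x b y, Herm.hB hF n (tensor e P a x) (tensor e P b y) = c * (f₁ b a * f₂ y x) := by
    intro a x b y
    rw [Herm.hB_apply]
    show Cfsg.hermForm n F q
      ((P : Matrix (Fin n) (Fin n) F) *ᵥ ((fun p : Fin m × Fin k => b p.1 * y p.2) ∘ e))
      ((P : Matrix (Fin n) (Fin n) F) *ᵥ ((fun p : Fin m × Fin k => a p.1 * x p.2) ∘ e)) = _
    rw [hc, show f₁ b a = sesq hF 1 (map_one _) f₁ hf₁ a b from (one_mul _).symm,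
      show f₂ y x = sesq hF 1 (map_one _) f₂ hf₂ x y from (one_mul _).symm, sesq_expand hF, sesq_expand hF]
    congr 1
    simp only [Cfsg.Geo.formOfGram, Fintype.sum_prod_type, Finset.sum_mul, Finset.mul_sum,
      Matrix.kroneckerMap_apply, Cfsg.Geo.gramMatrix, mul_pow, one_mul]
    refine Finset.sum_comm.trans (Finset.sum_congr rfl fun j _ => ?_)
    refine (Finset.sum_congr rfl fun i _ => Finset.sum_comm).trans (Finset.sum_comm.trans ?_)
    exact Finset.sum_congr rfl fun r _ => Finset.sum_congr rfl fun i _ => Finset.sum_congr rfl fun p _ => by ring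
  have hne : ∀ {d : ℕ}, 2 ≤ d → ∀ {f : (Fin d → F) → (Fin d → F) → F}, Cfsg.Geo.IsUnitaryFormPow q f →
      ∃ a b, f b a ≠ 0 := fun {d} hd {f} hf => by
    obtain ⟨v, hv⟩ : ∃ v : Fin d → F, v ≠ 0 :=
      ⟨Pi.single ⟨0, by omega⟩ 1, fun h0 => by simpa using congrFun h0 ⟨0, by omega⟩⟩
    obtain ⟨x, hx⟩ := (hf.nondegenerate v hv).1
    exact ⟨v, x, hx⟩
  have hcσ : σ c = c := by
    obtain ⟨a, b, hab⟩ := hne hm hf₁
    obtain ⟨x, y, hxy⟩ := hne (by omega : 2 ≤ k) hf₂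
    have h1 := (Herm.hB_isSymm hF n).eq (tensor e P a x) (tensor e P b y)
    rw [hpair0, hpair0, map_mul, map_mul, Herm.frob_apply hF (f₁ b a), Herm.frob_apply hF (f₂ y x),
      ← hf₁.herm, ← hf₂.herm] at h1
    refine mul_right_cancel₀ (mul_ne_zero ?_ ?_) h1
    · intro h0; rw [hf₁.herm, h0, zero_pow (by have := Herm.two_le_q hF; omega)] at hab; exact hab rfl
    · intro h0; rw [hf₂.herm, h0, zero_pow (by have := Herm.two_le_q hF; omega)] at hxy; exact hxy rfl
  set α := sesq hF c hcσ f₁ hf₁ with hα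
  set β := sesq hF 1 (map_one σ) f₂ hf₂ with hβ
  set G := Herm.UMax.glEquiv n F with hG
  have hGv : ∀ (g : GL (Fin n) F) v, G g v = g.val *ᵥ v := fun g v => rfl
  have hdet : ∀ g : GL (Fin n) F, LinearEquiv.det (G g) = Matrix.GeneralLinearGroup.det g := fun g => by
    refine Units.ext ?_
    rw [LinearEquiv.coe_det]
    exact LinearMap.det_toLin' _
  have T : Ten (Herm.hB hF n) α β (tensor e P) := by
    refine ⟨⟨hC.ne_id, hC.invol, hC.symm, hC.ndeg⟩, sesq_form hF hcσ hc0 hf₁,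
      sesq_form hF (map_one σ) one_ne_zero hf₂, fun a x b y => ?_, span_tensor e P, by rwa [finrank_fin_fun],
      by rwa [finrank_fin_fun], by rw [finrank_fin_fun, finrank_fin_fun, finrank_fin_fun, hn], fun p r => ?_⟩
    · rw [hpair0, hα, hβ, sesq_apply, sesq_apply]
      ring
    · have hd : ∀ {d : ℕ} (p : (Fin d → F) ≃ₗ[F] (Fin d → F)),
          (LinearMap.toMatrix' (p : (Fin d → F) →ₗ[F] (Fin d → F))).det = (LinearEquiv.det p : F) := fun p => by
        rw [LinearMap.det_toMatrix', LinearEquiv.coe_det]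
      let g := Matrix.GeneralLinearGroup.mkOfDetNeZero
        (tensMat e P (LinearMap.toMatrix' (p : (Fin m → F) →ₗ[F] (Fin m → F)))
          (LinearMap.toMatrix' (r : (Fin k → F) →ₗ[F] (Fin k → F))))
        (by rw [det_tensMat, hd, hd]; exact mul_ne_zero (pow_ne_zero _ (Units.ne_zero _)) (pow_ne_zero _ (Units.ne_zero _)))
      refine ⟨G g, fun a x => ?_, ?_⟩
      · rw [hGv, tensMat_tensor e P (g := g) rfl, LinearMap.toMatrix'_mulVec, LinearMap.toMatrix'_mulVec]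
        rfl
      · rw [hdet, finrank_fin_fun, finrank_fin_fun, ← hd, ← hd, ← det_tensMat e P]
        rfl
  have hiff : ∀ g : GL (Fin n) F, G g ∈ Herm.iso (Herm.hB hF n) →
      (g ∈ Cfsg.Geo.tensorProductSubgroup m k e P ↔ IsProd α β (tensor e P) (G g)) := by
    intro g hg
    refine ⟨fun h => ?_, fun ⟨p, _, r, _, h⟩ => ?_⟩
    · obtain ⟨A, D, hAD⟩ := mem_tensorProductSubgroup_iff.1 h
      exact T.isProd_of hg A.val.mulVecLin D.val.mulVecLin fun a x => by
        rw [hGv, tensMat_tensor e P hAD]; rfl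
    · refine mem_of_tensor e P (LinearMap.toMatrix' (p : (Fin m → F) →ₗ[F] (Fin m → F)))
        (LinearMap.toMatrix' (r : (Fin k → F) →ₗ[F] (Fin k → F))) ?_ ?_ fun a x => ?_
      · rw [LinearMap.det_toMatrix', ← LinearEquiv.coe_det]; exact Units.ne_zero _
      · rw [LinearMap.det_toMatrix', ← LinearEquiv.coe_det]; exact Units.ne_zero _
      · rw [LinearMap.toMatrix'_mulVec, LinearMap.toMatrix'_mulVec, ← hGv]
        exact h a x
  have hS : ∀ g : GL (Fin n) F, g ∈ Cfsg.GU n F q ⊓ Cfsg.Geo.specialLinear (Fin n) F ↔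
      G g ∈ Herm.tvGroup (Herm.hB hF n) := fun g => by
    rw [Herm.Big.mem_tv hC, hdet, Subgroup.mem_inf]
    exact and_congr ⟨fun hg u v => hg v u, fun hg u v => hg v u⟩ MonoidHom.mem_ker
  refine ⟨lt_of_le_of_ne inf_le_right fun h => ?_, fun M hM hMS => ?_⟩
  · obtain ⟨t, ht, htn⟩ := T.exists_not_prod
    obtain ⟨g, rfl⟩ := G.surjective t
    have h1 := (h.symm ▸ (hS g).2 ht : g ∈ Cfsg.Geo.tensorProductSubgroup m k e P ⊓
      (Cfsg.GU n F q ⊓ Cfsg.Geo.specialLinear (Fin n) F))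
    exact htn ((hiff g ((Herm.Big.mem_tv hC).1 ht).1).1 h1.1)
  · have hL : Over (Herm.hB hF n) α β (tensor e P) (M.map G.toMonoidHom) := by
      refine ⟨?_, ?_, fun t ht htd => ?_⟩
      · rintro _ ⟨g, hg, rfl⟩
        exact ((Herm.Big.mem_tv hC).1 ((hS g).1 (hMS hg))).1
      · rintro _ ⟨g, hg, rfl⟩
        exact ((Herm.Big.mem_tv hC).1 ((hS g).1 (hMS hg))).2
      · obtain ⟨g, rfl⟩ := G.surjective t
        have hiso := T.mem_iso_of_isProd ht
        exact ⟨g, hM ⟨(hiff g hiso).2 ht, (hS g).2 ((Herm.Big.mem_tv hC).2 ⟨hiso, htd⟩)⟩, rfl⟩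
    rcases hdich T _ hL with h | h
    · refine Or.inl (le_antisymm (fun g hg => ⟨?_, hMS hg⟩) hM)
      exact (hiff g ((Herm.Big.mem_tv hC).1 ((hS g).1 (hMS hg))).1).2 (h _ ⟨g, hg, rfl⟩)
    · refine Or.inr (le_antisymm hMS fun g hg => ?_)
      obtain ⟨g', hg', he⟩ := h ((hS g).1 hg)
      exact G.injective he ▸ hg'

/-- The stabiliser of a tensor decomposition is maximal in the special unitary group. -/
theorem maximal {f₁ : (Fin m → F) → (Fin m → F) → F} {f₂ : (Fin k → F) → (Fin k → F) → F}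
    (hf₁ : Cfsg.Geo.IsUnitaryFormPow q f₁) (hf₂ : Cfsg.Geo.IsUnitaryFormPow q f₂)
    (hT : Cfsg.Geo.IsTensorFormStructure (fun x : F => x ^ q) (Cfsg.hermForm n F q) f₁ f₂ e P)
    (hm : 2 ≤ m) (hmk : m < k) (hk : 4 ≤ k) (hex : ¬ (m = 2 ∧ q = 2)) :
    Cfsg.Geo.IsMaximalIn (Cfsg.GU n F q ⊓ Cfsg.Geo.specialLinear (Fin n) F)
      (Cfsg.Geo.tensorProductSubgroup m k e P ⊓ (Cfsg.GU n F q ⊓ Cfsg.Geo.specialLinear (Fin n) F)) := by
  refine maximal_of hF e P hf₁ hf₂ hT hm (by omega) fun {α β τ} T L hL => ?_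
  have : Fact (4 ≤ finrank F (Fin k → F)) := ⟨by rwa [finrank_fin_fun]⟩
  have hex' : (∃ y z : F, y ≠ 0 ∧ z ≠ 0 ∧ y ≠ z ∧ y + Herm.frob hF y = 0 ∧ z + Herm.frob hF z = 0) ∨
      3 ≤ finrank F (Fin m → F) := by
    by_cases hm3 : 3 ≤ m
    · exact Or.inr (by rwa [finrank_fin_fun])
    · refine Or.inl (exists_two_trace hF ?_)
      by_contra hq
      exact hex ⟨by omega, by have := Herm.two_le_q hF; omega⟩
  exact T.dichotomy hL (by rwa [finrank_fin_fun, finrank_fin_fun]) hex'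

end Cfsg.Lib.Linear.UTensor
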