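import Cfsg.Agent.Lib.Linear.UTensor.Twist

/-!
# An element of the decomposition whose conjugate has small coefficient cannot exist
-/

set_option autoImplicit false
set_option linter.unusedSectionVars false

namespace Cfsg.Lib.Linear.UTensor

open Module MvPolynomial
open Cfsg.Lib.Linear

variable {F V U W : Type*} [Field F] [Finite F]
  [AddCommGroup V] [Module F V] [FiniteDimensional F V]
  [AddCommGroup U] [Module F U] [FiniteDimensional F U]
  [AddCommGroup W] [Module F W] [FiniteDimensional F W]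
  {σ : F →+* F} {B : V →ₛₗ[σ] V →ₗ[F] F} {α : U →ₛₗ[σ] U →ₗ[F] F} {β : W →ₛₗ[σ] W →ₗ[F] F}
  {τ : U →ₗ[F] W →ₗ[F] V}

theorem coe_equiv_pow {R M : Type*} [Semiring R] [AddCommMonoid M] [Module R M] (f : M ≃ₗ[R] M) (j : ℕ) :
    ⇑(f ^ j) = (⇑f)^[j] := by
  induction j with
  | zero => rfl
  | succ j ih => funext v; rw [pow_succ, LinearEquiv.mul_apply, ih, Function.iterate_succ_apply]

/-- A unipotent equivalence has a fixed non-zero vector in the range of `q - 1`, unless it is trivial. -/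
theorem exists_fixed_range {q : W →ₗ[F] W} (hq : IsNilpotent (q - 1)) (h1 : q ≠ 1) :
    ∃ μ w, μ ≠ 0 ∧ q μ = μ ∧ q w - w = μ := by
  classical
  obtain ⟨j, hj⟩ := hq
  have hex : ∃ j, (q - 1) ^ j = 0 := ⟨j, hj⟩
  obtain ⟨k, hk⟩ : ∃ k, Nat.find hex = k + 2 := by
    have h0 : Nat.find hex ≠ 0 := fun h => by
      have := Nat.find_spec hex
      rw [h, pow_zero] at this
      exact h1 (LinearMap.ext fun w => by
        have := LinearMap.congr_fun this (q w - w)
        simpa [sub_eq_zero] using this)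
    have h2 : Nat.find hex ≠ 1 := fun h => by
      have := Nat.find_spec hex
      rw [h, pow_one, sub_eq_zero] at this
      exact h1 this
    exact ⟨Nat.find hex - 2, by omega⟩
  have hz : (q - 1) ^ (k + 1) ≠ 0 := Nat.find_min hex (by omega)
  obtain ⟨v, hv⟩ : ∃ v, ((q - 1) ^ (k + 1)) v ≠ 0 := by
    by_contra h
    push Not at h
    exact hz (LinearMap.ext h)
  refine ⟨_, ((q - 1) ^ k) v, hv, ?_, ?_⟩
  · have h3 : (q - 1) (((q - 1) ^ (k + 1)) v) = 0 := by
      rw [← Module.End.mul_apply, ← pow_succ', show k + 1 + 1 = Nat.find hex by omega, Nat.find_spec hex,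
        LinearMap.zero_apply]
    rwa [LinearMap.sub_apply, Module.End.one_apply, sub_eq_zero] at h3
  · rw [pow_succ', Module.End.mul_apply, LinearMap.sub_apply, Module.End.one_apply]

namespace Ten

variable (T : Ten B α β τ)
include T

/-- Normalisation of a product of prime order into unipotent factors. -/
theorem exists_unipotent (p : ℕ) [Fact p.Prime] [CharP F p] {d : V ≃ₗ[F] V} (hd : IsProd α β τ d)
    (hord : ∀ v, (d ^ p) v = v) :
    ∃ (P : U →ₗ[F] U) (Q : W →ₗ[F] W), IsNilpotent (P - 1) ∧ IsNilpotent (Q - 1) ∧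
      (∀ x y, β (Q x) (Q y) = β x y) ∧ ∀ a x, d (τ a x) = τ (P a) (Q x) := by
  obtain ⟨u, hu, w, hw, hd⟩ := hd
  have hpow : ∀ (j : ℕ) a x, (d ^ j) (τ a x) = τ ((u ^ j) a) ((w ^ j) x) := fun j => by
    induction j with
    | zero => intro a x; rfl
    | succ j ih => intro a x; simp only [pow_succ, LinearEquiv.mul_apply, hd, ih]
  obtain ⟨a₀, ha₀⟩ := T.exists_ne_zero
  obtain ⟨x₀, hx₀⟩ := T.exists_ne_zero'
  obtain ⟨z₀, hz₀⟩ := T.cβ.exists_pairing hx₀
  have h1 : ∀ a x z, β z ((w ^ p) x) • (u ^ p) a = β z x • a := fun a x z => by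
    rw [← T.ctr_tau, ← hpow, hord, T.ctr_tau]
  set l := β z₀ ((w ^ p) x₀) with hl
  have hu1 : ∀ a, l • (u ^ p) a = a := fun a => by rw [hl, h1, T.cβ.swap_one hz₀, one_smul]
  have hl0 : l ≠ 0 := fun e => ha₀ (by rw [← hu1 a₀, e, zero_smul])
  have hw1 : ∀ x, (w ^ p) x = l • x := fun x => T.cβ.ext_right fun z => by
    have := h1 a₀ x z
    conv_rhs at this => rw [← hu1 a₀, smul_smul]
    have h2 := smul_left_injective F (fun e => ha₀ ((LinearEquiv.map_eq_zero_iff _).1 e)) this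
    rw [h2, map_smul, smul_eq_mul, mul_comm]
  obtain ⟨ν, hν⟩ := (PerfectRing.bijective_frobenius (R := F) (p := p)).2 l
  replace hν : ν ^ p = l := hν
  have hν0 : ν ≠ 0 := fun e => hl0 (by rw [← hν, e, zero_pow (Fact.out : p.Prime).ne_zero])
  have hup : ((u : U →ₗ[F] U) ^ p) = l⁻¹ • 1 := LinearMap.ext fun a => by
    rw [show ((u : U →ₗ[F] U) ^ p) a = (u ^ p) a from (by
      rw [Module.End.pow_apply]; exact (congrFun (coe_equiv_pow u p) a).symm)]
    conv_rhs => rw [LinearMap.smul_apply, Module.End.one_apply, ← hu1 a, smul_smul, inv_mul_cancel₀ hl0, one_smul]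
  have hwp : ((w : W →ₗ[F] W) ^ p) = l • 1 := LinearMap.ext fun x => by
    rw [show ((w : W →ₗ[F] W) ^ p) x = (w ^ p) x from (by
      rw [Module.End.pow_apply]; exact (congrFun (coe_equiv_pow w p) x).symm), hw1]
    simp
  have : Nontrivial U := nontrivial_of_ne a₀ 0 ha₀
  have : Nontrivial W := nontrivial_of_ne x₀ 0 hx₀
  refine ⟨ν • (u : U →ₗ[F] U), ν⁻¹ • (w : W →ₗ[F] W), ?_, ?_, fun x y => ?_, fun a x => ?_⟩
  · refine ⟨p, ?_⟩
    have := charP_of_injective_algebraMap (FaithfulSMul.algebraMap_injective F (U →ₗ[F] U)) p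
    rw [sub_pow_char_of_commute (p := p) (Commute.one_right _), smul_pow, hν, hup, smul_smul,
      mul_inv_cancel₀ hl0, one_smul, one_pow, sub_self]
  · refine ⟨p, ?_⟩
    have := charP_of_injective_algebraMap (FaithfulSMul.algebraMap_injective F (W →ₗ[F] W)) p
    rw [sub_pow_char_of_commute (p := p) (Commute.one_right _), smul_pow, inv_pow, hν, hwp, smul_smul,
      inv_mul_cancel₀ hl0, one_smul, one_pow, sub_self]
  · -- the norm of the scalar is one
    have hll : σ l * l = 1 := by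
      have h3 := pow_mem hw p x₀ z₀
      rw [hw1, hw1] at h3
      simpa [hz₀, mul_comm] using h3
    have hνν : σ ν * ν = 1 := by
      refine sub_eq_zero.1 (eq_zero_of_pow_eq_zero (n := p) ?_)
      rw [sub_pow_char, mul_pow, ← map_pow, hν, hll, one_pow, sub_self]
    simp only [LinearMap.smul_apply, LinearEquiv.coe_coe, map_smul, LinearMap.map_smulₛₗ, smul_eq_mul,
      map_inv₀]
    rw [hw, ← mul_assoc, ← mul_inv, mul_comm ν, hνν, inv_one, one_mul]
  · simp [hd, smul_smul, inv_mul_cancel₀ hν0]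

variable {T} {L : Subgroup (V ≃ₗ[F] V)} (hL : Over B α β τ L) (hR : T.Losing L)
include hL hR

omit hR in
/-- The contradiction from a family member with small coefficient. -/
theorem family_false {g : V ≃ₗ[F] V} (hg : g ∈ L) (hgn : ¬ IsProd α β τ g) {x : W} (hx : x ≠ 0)
    {s : ℕ} (hmin : ∀ h ∈ L, ¬ IsProd α β τ h → ∀ y z : W, y ≠ 0 → z ≠ 0 → β y y = 0 → β z z = 0 →
      s ≤ finrank F (LinearMap.range (T.entry (h : V →ₗ[F] V) y z)))
    {I K : Submodule F U} (hIK : IsCompl I K) (hs : finrank F I = s) (hs0 : 0 < s)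
    (hadj : LinearMap.range (T.entry ((g⁻¹ : V ≃ₗ[F] V) : V →ₗ[F] V) x x) = I)
    (hgK : ∀ a ∈ K, g (τ a x) = τ a x)
    {e : V ≃ₗ[F] V} (heL : e ∈ L) {A : V →ₗ[F] V} (heA : ∀ v, e v = v + A v)
    (hA2 : ∀ v, A (A v) = 0) {x₁ : W} (hx₁ : x₁ ≠ 0) (hx₁₁ : β x₁ x₁ = 0) (hxx : β x x = 0)
    (hK : K ≠ ⊥ → x₁ = x ∧ (∀ a, A (τ a x) = 0))
    (hrange : ∀ b, ∃ v, A v = τ b x₁)
    {a₁ : U} (ha₁ : a₁ ∈ I) (ha₁0 : a₁ ≠ 0) (hker : T.ctr x (g⁻¹ (A (g (τ a₁ x)))) = 0) : False := by
  classical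
  set d := g⁻¹ * e * g with hd
  have hdv : ∀ v, d v = v + g⁻¹ (A (g v)) := fun v => by
    rw [hd, LinearEquiv.mul_apply, LinearEquiv.mul_apply, heA, map_add, equiv_inv_apply]
  have hdL : d ∈ L := mul_mem (mul_mem (inv_mem hg) heL) hg
  have hdK : ∀ a ∈ K, d (τ a x) = τ a x := fun a ha => by
    rcases eq_or_ne a 0 with rfl | ha0
    · simp
    rw [hdv, hgK a ha, (hK (fun h => ha0 ((Submodule.eq_bot_iff K).1 h a ha))).2, map_zero, add_zero]
  -- the coefficient of the conjugate has small rank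
  have hdp : IsProd α β τ d := by
    by_contra hdn
    have h1 := hmin d hdL hdn x x hx hx hxx hxx
    have hM : LinearMap.range (T.entry (d : V →ₗ[F] V) x x) ≤
        (Submodule.map (T.entry (d : V →ₗ[F] V) x x) I) := by
      rintro _ ⟨a, rfl⟩
      obtain ⟨i, hi, k, hk, rfl⟩ := Submodule.mem_sup.1 (hIK.sup_eq_top ▸ Submodule.mem_top (x := a))
      refine ⟨i, hi, ?_⟩
      have : T.entry (d : V →ₗ[F] V) x x k = 0 := by
        rw [entry_apply, LinearEquiv.coe_coe, hdK k hk, T.ctr_tau, hxx, zero_smul]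
      rw [map_add, this, add_zero]
    have h2 := Submodule.finrank_mono hM
    have h3 : finrank F (Submodule.map (T.entry (d : V →ₗ[F] V) x x) I) < s := by
      set f := (T.entry (d : V →ₗ[F] V) x x).domRestrict I
      have h4 : Submodule.map (T.entry (d : V →ₗ[F] V) x x) I = LinearMap.range f := by
        rw [LinearMap.range_domRestrict]
      have h5 := f.finrank_range_add_finrank_ker
      have h6 : 0 < finrank F (LinearMap.ker f) := Module.finrank_pos_iff_exists_ne_zero.2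
        ⟨⟨⟨a₁, ha₁⟩, by
          show T.entry (d : V →ₗ[F] V) x x a₁ = 0
          rw [entry_apply, LinearEquiv.coe_coe, hdv, map_add, hker, T.ctr_tau, hxx, zero_smul, add_zero]⟩,
          fun h => ha₁0 (congrArg Subtype.val (congrArg Subtype.val h))⟩
      rw [h4]
      omega
    omega
  obtain ⟨p, hp⟩ := CharP.exists F
  have := Fact.mk (CharP.char_is_prime F p)
  have hord : ∀ v, (d ^ p) v = v := fun v => by
    have h7 : ∀ (j : ℕ) v, (d ^ j) v = v + (j : F) • g⁻¹ (A (g v)) := fun j => by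
      induction j with
      | zero => intro v; simp
      | succ j ih =>
        intro v
        rw [pow_succ, LinearEquiv.mul_apply, ih, hdv]
        simp only [map_add, equiv_apply_inv, hA2, add_zero, Nat.cast_succ, add_smul, one_smul]
        abel
    rw [h7, CharP.cast_eq_zero, zero_smul, add_zero]
  obtain ⟨P, Q, hP, hQ, hQi, hPQ⟩ := T.exists_unipotent p hdp hord
  obtain ⟨a₀, ha₀⟩ := T.exists_ne_zero
  -- an isotropic vector fixed by the second factor
  have hfix : K ≠ ⊥ → Q x = x ∧ ∀ a ∈ K, P a = a := fun hKb => by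
    obtain ⟨a, ha, ha0⟩ := Submodule.exists_mem_ne_zero_of_ne_bot hKb
    obtain ⟨y, hy⟩ := T.cβ.exists_pairing hx
    have h8 : ∀ a ∈ K, ∀ z, β z (Q x) • P a = β z x • a := fun a ha z => by
      rw [← T.ctr_tau, ← hPQ, hdK a ha, T.ctr_tau]
    set κ := β y (Q x) with hκ
    have hPa : ∀ a ∈ K, κ • P a = a := fun a ha => by rw [hκ, h8 a ha, T.cβ.swap_one hy, one_smul]
    have hκ0 : κ ≠ 0 := fun e => ha0 (by rw [← hPa a ha, e, zero_smul])
    have hPa0 : P a ≠ 0 := fun e => ha0 (by rw [← hPa a ha, e, smul_zero])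
    have hQx : Q x = κ • x := T.cβ.ext_right fun z => by
      have h9 := h8 a ha z
      conv_rhs at h9 => rw [← hPa a ha, smul_smul]
      rw [smul_left_injective F hPa0 h9, map_smul, smul_eq_mul, mul_comm]
    have hκ1 : κ = 1 := by
      obtain ⟨j, hj⟩ := hQ
      have h10 : ∀ i, ((Q - 1) ^ i) x = (κ - 1) ^ i • x := fun i => by
        induction i with
        | zero => simp
        | succ i ih => rw [pow_succ', Module.End.mul_apply, ih, map_smul, LinearMap.sub_apply, Module.End.one_apply,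
            hQx, pow_succ, mul_smul, sub_smul κ 1, one_smul]
      have h11 := h10 j
      rw [hj, LinearMap.zero_apply, eq_comm, smul_eq_zero, or_iff_left hx] at h11
      exact sub_eq_zero.1 (eq_zero_of_pow_eq_zero h11)
    refine ⟨by rw [hQx, hκ1, one_smul], fun a ha => ?_⟩
    have := hPa a ha
    rwa [hκ1, one_smul] at this
  obtain ⟨μ, hμ0, hμμ, hQμ, hμx⟩ : ∃ μ, μ ≠ 0 ∧ β μ μ = 0 ∧ Q μ = μ ∧ (K ≠ ⊥ → μ = x) := by
    by_cases hKb : K = ⊥
    · by_cases hQ1 : Q = 1
      · exact ⟨x, hx, hxx, by rw [hQ1]; rfl, fun h => absurd hKb h⟩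
      · obtain ⟨μ, w, h12, h13, h14⟩ := exists_fixed_range hQ hQ1
        refine ⟨μ, h12, ?_, h13, fun h => absurd hKb h⟩
        conv_lhs => rw [show β μ μ = β μ (Q w - w) by rw [h14]]
        rw [map_sub]
        conv_lhs => enter [1]; rw [← h13]
        rw [hQi, sub_self]
    · exact ⟨x, hx, hxx, (hfix hKb).1, fun _ => rfl⟩
  have hctr : ∀ v, T.ctr μ (d v - v) = (P - 1) (T.ctr μ v) := fun v =>
    LinearMap.congr_fun (T.hom_ext (f := T.ctr μ ∘ₗ ((d : V →ₗ[F] V) - LinearMap.id))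
      (g := (P - 1) ∘ₗ T.ctr μ) fun a z => by
        simp only [LinearMap.comp_apply, LinearMap.sub_apply, LinearEquiv.coe_coe, LinearMap.id_apply,
          Module.End.one_apply, hPQ, map_sub, T.ctr_tau, map_smul]
        conv_lhs => enter [1, 1]; rw [← hQμ]
        rw [hQi, smul_sub]) v
  have hle : LinearMap.range (T.entry ((g⁻¹ : V ≃ₗ[F] V) : V →ₗ[F] V) μ x₁) ≤ LinearMap.range (P - 1) := by
    rintro _ ⟨b, rfl⟩
    obtain ⟨v, hv⟩ := hrange b
    refine ⟨T.ctr μ (g⁻¹ v), ?_⟩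
    rw [← hctr, hdv, add_sub_cancel_left, equiv_apply_inv, hv, entry_apply]
    rfl
  have hI : I ≤ LinearMap.range ((P - 1).domRestrict I) := by
    by_cases hKb : K = ⊥
    · have hIt : I = ⊤ := by rw [← hIK.sup_eq_top, hKb, sup_bot_eq]
      have hgn' : ¬ IsProd α β τ g⁻¹ := fun h => hgn (inv_inv g ▸ h.inv)
      have h15 := hmin _ (inv_mem hg) hgn' μ x₁ hμ0 hx₁ hμμ hx₁₁
      have h16 : LinearMap.range (T.entry ((g⁻¹ : V ≃ₗ[F] V) : V →ₗ[F] V) μ x₁) = ⊤ :=
        Submodule.eq_top_of_finrank_eq (le_antisymm (Submodule.finrank_le _)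
          (by rw [← hs, hIt, finrank_top] at h15; exact h15))
      intro a _
      obtain ⟨b, hb⟩ := hle (h16 ▸ Submodule.mem_top (x := a))
      exact ⟨⟨b, hIt ▸ Submodule.mem_top⟩, hb⟩
    · intro a ha
      rw [hμx hKb, (hK hKb).1, hadj] at hle
      obtain ⟨b, hb⟩ := hle ha
      obtain ⟨i, hi, k, hk, rfl⟩ := Submodule.mem_sup.1 (hIK.sup_eq_top ▸ Submodule.mem_top (x := b))
      refine ⟨⟨i, hi⟩, ?_⟩
      rw [← hb, map_add, LinearMap.domRestrict_apply, LinearMap.sub_apply _ _ k, Module.End.one_apply,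
        (hfix hKb).2 k hk, sub_self, add_zero]
  -- a nilpotent map onto a non-zero space
  have hpow : ∀ j, I ≤ LinearMap.range ((P - 1) ^ j) := fun j => by
    suffices H : ∀ a ∈ I, ∃ b ∈ I, ((P - 1) ^ j) b = a from fun a ha => (H a ha).imp fun b hb => hb.2
    induction j with
    | zero => exact fun a ha => ⟨a, ha, rfl⟩
    | succ j ih =>
      intro a ha
      obtain ⟨b, hb, rfl⟩ := ih a ha
      have : I ≤ Submodule.map (P - 1) I := by rwa [LinearMap.range_domRestrict] at hI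
      obtain ⟨c, hc, rfl⟩ := this hb
      exact ⟨c, hc, by rw [pow_succ, Module.End.mul_apply]⟩
  obtain ⟨j, hj⟩ := hP
  have hI0 := hpow j
  rw [hj, LinearMap.range_zero, le_bot_iff] at hI0
  rw [hI0, finrank_bot] at hs
  omega

end Ten

end Cfsg.Lib.Linear.UTensor
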