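import Cfsg.Agent.Lib.Linear.UTensor.SixLose
import Cfsg.Agent.Lib.Linear.HermParabolic

/-!
# Two times three over the field with nine elements

The norm of the determinant of the coefficient is one at every isotropic vector, which a degree argument forbids.
-/

set_option autoImplicit false
set_option linter.unusedSectionVars false

namespace Cfsg.Lib.Linear.UTensor

open Module MvPolynomial
open Cfsg.Lib.Linear

variable {F V U W : Type*} [Field F] [Finite F]
  [AddCommGroup V] [Module F V] [FiniteDimensional F V]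
  [AddCommGroup U] [Module F U] [FiniteDimensional F U]
  [AddCommGroup W] [Module F W] [FiniteDimensional F W]
  {σ : F →+* F} {B : V →ₛₗ[σ] V →ₗ[F] F} {α : U →ₛₗ[σ] U →ₗ[F] F} {β : W →ₛₗ[σ] W →ₗ[F] F}
  {τ : U →ₗ[F] W →ₗ[F] V}

namespace Ten

variable {T : Ten B α β τ} {L : Subgroup (V ≃ₗ[F] V)} (hL : Over B α β τ L) (hR : T.Losing L)
  (hU : finrank F U = 2) (hW : finrank F W = 3)
  (ha : ∃ a : F, σ a = a ∧ a ≠ 0 ∧ a ≠ 1) (hsq : ∀ r : F, σ r = r → r ≠ 0 → r * r = 1)
include hL hR hU hW ha hsq

/-- The norm of the determinant of a coefficient at isotropic vectors. -/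
theorem det_norm_one {g : V ≃ₗ[F] V} (hg : g ∈ L) (hgn : ¬ IsProd α β τ g) {y z : W} (hy : y ≠ 0) (hz : z ≠ 0)
    (hyy : β y y = 0) (hzz : β z z = 0) {e f : U} (hee : α e e = 0) (hff : α f f = 0) (hef : α e f = 1) :
    let E := T.entry (g : V →ₗ[F] V) z y
    σ (α f (E e) * α e (E f) - α f (E f) * α e (E e)) * (α f (E e) * α e (E f) - α f (E f) * α e (E e)) = 1 := by
  intro E
  have hfe := T.cα.swap_one hef
  have hmk : finrank F U < finrank F W := by omega
  obtain ⟨hi, hi'⟩ := entry_bij hL hR hU hmk ha hg hgn hy hz hyy hzz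
  change Function.Injective E at hi
  have hdec : ∀ v, v = α f v • e + α e v • f := fun v => by
    have hli : LinearIndependent F ![e, f] := LinearIndependent.pair_iff.2 fun s t h => by
      have h1 := congrArg (α e) h
      have h2 := congrArg (α f) h
      simp [hee, hff, hef, hfe] at h1 h2
      exact ⟨h2, h1⟩
    have hspan := hli.span_eq_top_of_card_eq_finrank (by rw [Fintype.card_fin, hU])
    have h := LinearMap.congr_fun (LinearMap.ext_on (f := (α f).smulRight e + (α e).smulRight f)
      (g := LinearMap.id) hspan (by rintro _ ⟨j, rfl⟩; fin_cases j <;> simp [hee, hff, hef, hfe])) v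
    simpa using h.symm
  obtain ⟨K, hK⟩ : ∃ K : U →ₗ[F] U, ∀ a, K a = T.adj E (E a) := ⟨T.adj E ∘ₗ E, fun a => rfl⟩
  have hKE : ∀ a b, α (E a) (E b) = α a (K b) := fun a b => by rw [hK, T.α_adj']
  -- the Gram determinant
  have hG : α e (K e) * α f (K f) - α e (K f) * α f (K e) = -1 := by
    rcases sq_cases hL hR hU hmk ha hg hgn hy hz hyy hzz E rfl with
      ⟨m, hmσ, hm0, hm⟩ | ⟨hns, d, hdσ, hd0, hdsq, hd⟩
    · have hKm : ∀ a, K a = m • a := fun a => hi (by rw [hK, hm, map_smul])
      simp only [hKm, map_smul, hee, hff, hef, hfe, smul_eq_mul]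
      linear_combination -(hsq m hmσ hm0)
    · have hd1 : d = -1 := by
        have h1 := hdsq 1 (map_one σ)
        have h2 : (d - 1) * (d + 1) = 0 := by linear_combination hsq d hdσ hd0
        rcases mul_eq_zero.1 h2 with h3 | h3
        · exact absurd (by linear_combination -h3) h1
        · exact eq_neg_of_add_eq_zero_left h3
      have hKK : ∀ a, K (K a) = -a := fun a => hi (by
        rw [hK, hK, hd (E a), hd1, map_neg, neg_one_smul])
      obtain ⟨p, hp⟩ : ∃ p, α f (K e) = p := ⟨_, rfl⟩
      obtain ⟨r, hr⟩ : ∃ r, α e (K e) = r := ⟨_, rfl⟩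
      obtain ⟨s, hs⟩ : ∃ s, α f (K f) = s := ⟨_, rfl⟩
      obtain ⟨u, hu⟩ : ∃ u, α e (K f) = u := ⟨_, rfl⟩
      have hKe : K e = p • e + r • f := by rw [← hp, ← hr]; exact hdec _
      have hKf : K f = s • e + u • f := by rw [← hs, ← hu]; exact hdec _
      have h1 := hKK e
      have h2 := hKK f
      rw [hKe, map_add, map_smul, map_smul, hKe, hKf] at h1
      rw [hKf, map_add, map_smul, map_smul, hKe, hKf] at h2
      have e1 := congrArg (α f) h1
      have e2 := congrArg (α e) h1
      have e3 := congrArg (α f) h2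
      have e4 := congrArg (α e) h2
      simp only [map_add, map_smul, map_neg, hee, hff, hef, hfe, smul_eq_mul] at e1 e2 e3 e4
      rw [hr, hs, hu, hp]
      have hpu : p + u = 0 := by
        by_contra hne
        have hr0 : r = 0 := (mul_eq_zero.1 (show r * (p + u) = 0 by linear_combination e2)).resolve_right hne
        have hs0 : s = 0 := (mul_eq_zero.1 (show s * (p + u) = 0 by linear_combination e3)).resolve_right hne
        have hpu' : (p - u) * (p + u) = 0 := by linear_combination e1 - e4
        have hpe : p = u := sub_eq_zero.1 ((mul_eq_zero.1 hpu').resolve_right hne)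
        refine hns p fun a => ?_
        obtain ⟨b, rfl⟩ := LinearMap.surjective_of_injective hi a
        rw [← hK, ← map_smul]
        congr 1
        conv_lhs => rw [hdec b, map_add, map_smul, map_smul, hKe, hKf, hr0, hs0, ← hpe]
        conv_rhs => rw [hdec b]
        module
      linear_combination e1 - p * hpu
  have h1 := hG
  simp only [← hKE] at h1
  have hE : ∀ a b, α (E a) (E b) =
      σ (α f (E a)) * α e (E b) + σ (α e (E a)) * α f (E b) := fun a b => by
    conv_lhs => rw [hdec (E a), hdec (E b)]
    simp only [map_add, map_smul, LinearMap.map_smulₛₗ, LinearMap.add_apply, LinearMap.smul_apply, smul_eq_mul,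
      hee, hff, hef, hfe]
    ring
  simp only [hE] at h1
  simp only [map_sub, map_mul]
  linear_combination -h1

/-- There is no element outside. -/
theorem prod_of_sq_one {g : V ≃ₗ[F] V} (hg : g ∈ L) : IsProd α β τ g := by
  classical
  by_contra hgn
  have := Fintype.ofFinite F
  obtain ⟨q, hF, hσ⟩ := Herm.exists_eq_frob T.cB.ne_id T.invol
  obtain ⟨a₁, ha₁, ha₁0, ha₁1⟩ := id ha
  have h20 : (2 : F) ≠ 0 := fun h2 => ha₁1 (by
    have h4 : (a₁ - 1) * (a₁ - 1) = 0 := by linear_combination hsq a₁ ha₁ ha₁0 - (a₁ - 1) * h2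
    simpa [sub_eq_zero] using h4)
  have hq : q = 3 := by
    have hfix : ∀ b : F, b ^ q = b ↔ b ∈ ({0, 1, -1} : Finset F) := fun b => by
      simp only [Finset.mem_insert, Finset.mem_singleton]
      constructor
      · intro hb
        rcases eq_or_ne b 0 with h | h
        · exact Or.inl h
        · have h2 : (b - 1) * (b + 1) = 0 := by
            linear_combination hsq b (by rw [hσ, hb]) h
          rcases mul_eq_zero.1 h2 with h3 | h3
          · exact Or.inr (Or.inl (sub_eq_zero.1 h3))
          · exact Or.inr (Or.inr (eq_neg_of_add_eq_zero_left h3))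
      · intro hb
        rw [← hσ]
        rcases hb with rfl | rfl | rfl <;> simp
    have h1 := Herm.card_fixed hF
    rw [Nat.card_eq_fintype_card, Fintype.card_of_subtype ({0, 1, -1} : Finset F) fun b => (hfix b).symm] at h1
    rw [← h1]
    have h1n : (1 : F) ≠ -1 := fun h => h20 (by linear_combination h)
    simp [h1n]
  subst hq
  have hσ3 : ∀ b : F, σ b = b ^ 3 := hσ
  obtain ⟨y, -, hy, hyy⟩ := Herm.exists_iso_ne_zero T.cβ.ne_id T.cβ.invol T.cβ.symm ⊤
    (by rw [finrank_top]; omega)
  obtain ⟨e, -, he0, hee⟩ := Herm.exists_iso_ne_zero T.cα.ne_id T.cα.invol T.cα.symm ⊤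
    (by rw [finrank_top]; omega)
  obtain ⟨f, hff, hef⟩ := T.cα.exists_partner he0 hee
  set b := Module.finBasisOfFinrankEq F W hW
  let w : (Fin 3 → F) → W := fun c => ∑ i, σ (c i) • b i
  let cf : U → U → Fin 3 → F := fun u v i => α u (T.entry (g : V →ₗ[F] V) (b i) y v)
  have hlin : ∀ c u v, α u (T.entry (g : V →ₗ[F] V) (w c) y v) = eval c (linPoly (cf u v)) := fun c u v => by
    rw [eval_linPoly, entry_apply]
    simp only [w, cf, entry_apply, map_sum, LinearMap.sum_apply, LinearMap.map_smulₛₗ, LinearMap.smul_apply,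
      T.invol, map_smul, smul_eq_mul]
    exact Finset.sum_congr rfl fun i _ => mul_comm _ _
  set P : MvPolynomial (Fin 3) F :=
    linPoly (cf f e) * linPoly (cf e f) - linPoly (cf f f) * linPoly (cf e e) with hP
  set Q : MvPolynomial (Fin 3) F := ∑ i, ∑ j, C (β (b i) (b j)) * X i * X j ^ 3 with hQ
  have hQw : ∀ c, eval c Q = β (w c) (w c) := fun c => by
    simp only [hQ, w, map_sum, map_mul, map_pow, eval_C, eval_X, LinearMap.sum_apply, LinearMap.map_smulₛₗ,
      LinearMap.smul_apply, T.invol, smul_eq_mul, map_smul]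
    simp only [Finset.mul_sum]
    rw [Finset.sum_comm]
    exact Finset.sum_congr rfl fun i _ => Finset.sum_congr rfl fun j _ => by rw [hσ3]; ring
  have hPd : P.totalDegree ≤ 2 := by
    refine (totalDegree_sub _ _).trans (max_le ?_ ?_) <;>
    · refine (totalDegree_mul _ _).trans ?_
      exact add_le_add (totalDegree_linPoly _) (totalDegree_linPoly _)
  have hQd : Q.totalDegree ≤ 4 := by
    refine (totalDegree_finsetSum _ _).trans (Finset.sup_le fun i _ =>
      (totalDegree_finsetSum _ _).trans (Finset.sup_le fun j _ => ?_))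
    refine (totalDegree_mul _ _).trans ?_
    refine (add_le_add ((totalDegree_mul _ _).trans (add_le_add (le_of_eq (totalDegree_C _))
      (le_of_eq (totalDegree_X _)))) ((totalDegree_pow _ _).trans (Nat.mul_le_mul le_rfl
      (le_of_eq (totalDegree_X _))))).trans ?_
    norm_num
  have h1Q : (1 - Q * Q).totalDegree ≤ 8 := by
    refine (totalDegree_sub _ _).trans (max_le (by rw [totalDegree_one]; omega) ?_)
    exact (totalDegree_mul _ _).trans (by omega)
  have hcard : Fintype.card F = 9 := by rw [hF]; norm_num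
  have hdeg1 : (P ^ 4 * (1 - Q * Q)).totalDegree < (Fintype.card F - 1) * Fintype.card (Fin 3) := by
    rw [hcard, Fintype.card_fin]
    have h1 := totalDegree_mul (P ^ 4) (1 - Q * Q)
    have h2 := totalDegree_pow P 4
    omega
  have hdeg2 : (1 - Q * Q).totalDegree < (Fintype.card F - 1) * Fintype.card (Fin 3) := by
    rw [hcard, Fintype.card_fin]; omega
  have s1 := MvPolynomial.sum_eval_eq_zero _ hdeg1
  have s2 := MvPolynomial.sum_eval_eq_zero _ hdeg2
  have key : ∀ c : Fin 3 → F,
      eval c (1 - Q * Q) - eval c (P ^ 4 * (1 - Q * Q)) = if c = 0 then 1 else 0 := fun c => by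
    simp only [map_mul, map_pow, map_sub, map_one, hQw]
    by_cases hc : c = 0
    · subst hc
      have h0 : w 0 = 0 := by simp [w]
      rw [if_pos rfl, h0, hP]
      rw [map_sub, map_mul, map_mul, eval_linPoly, eval_linPoly, eval_linPoly, eval_linPoly]
      simp
    rw [if_neg hc]
    by_cases hww : β (w c) (w c) = 0
    · have hw0 : w c ≠ 0 := fun h => hc (funext fun i => by
        have h1 := Fintype.linearIndependent_iff.1 b.linearIndependent (fun i => σ (c i)) h i
        simpa using h1)
      have h2 := det_norm_one hL hR hU hW ha hsq hg hgn hy hw0 hyy hww hee hff hef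
      simp only [hlin, hσ3] at h2
      rw [hww, hP, map_sub, map_mul, map_mul]
      linear_combination -h2
    · linear_combination (-1 + (eval c P) ^ 4) * hsq _ (T.cβ.self_fixed _) hww
  have s3 := Finset.sum_congr rfl fun c (_ : c ∈ (Finset.univ : Finset (Fin 3 → F))) => key c
  rw [Finset.sum_sub_distrib, s1, s2, sub_zero, Finset.sum_ite_eq', if_pos (Finset.mem_univ _)] at s3
  exact zero_ne_one s3

end Ten

end Cfsg.Lib.Linear.UTensor
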