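import Cfsg.Agent.Lib.Linear.UTensor.SixRank

/-!
# Two times three: a group with only scalar coefficients respects the decomposition

The square of the coefficient of an element outside is a scalar, which is impossible.
-/

set_option autoImplicit false
set_option linter.unusedSectionVars false

namespace Cfsg.Lib.Linear.UTensor

open Module
open Cfsg.Lib.Linear

variable {F V U W : Type*} [Field F] [Finite F]
  [AddCommGroup V] [Module F V] [FiniteDimensional F V]
  [AddCommGroup U] [Module F U] [FiniteDimensional F U]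
  [AddCommGroup W] [Module F W] [FiniteDimensional F W]
  {σ : F →+* F} {B : V →ₛₗ[σ] V →ₗ[F] F} {α : U →ₛₗ[σ] U →ₗ[F] F} {β : W →ₛₗ[σ] W →ₗ[F] F}
  {τ : U →ₗ[F] W →ₗ[F] V}

namespace Ten

variable {T : Ten B α β τ} {L : Subgroup (V ≃ₗ[F] V)} (hL : Over B α β τ L) (hR : T.Losing L)
  (hU : finrank F U = 2) (hmk : finrank F U < finrank F W)
  (ha : ∃ a : F, σ a = a ∧ a ≠ 0 ∧ a ≠ 1)
include hL hR hU hmk ha

variable {g : V ≃ₗ[F] V} (hg : g ∈ L) (hgn : ¬ IsProd α β τ g) {y z : W} (hy : y ≠ 0) (hz : z ≠ 0)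
  (hyy : β y y = 0) (hzz : β z z = 0)
include hg hgn hy hz hyy hzz

/-- The coefficient. -/
theorem entry_bij : Function.Injective (T.entry (g : V →ₗ[F] V) z y) ∧
    Function.Injective (T.adj (T.entry (g : V →ₗ[F] V) z y)) := by
  have h1 : Function.Injective (T.entry (g : V →ₗ[F] V) z y) := by
    rw [← LinearMap.ker_eq_bot, LinearMap.ker_eq_bot']
    exact fun a h => entry_injective hL hR hU hmk ha hg hgn hz hy hzz hyy h
  refine ⟨h1, ?_⟩
  rw [← LinearMap.ker_eq_bot, LinearMap.ker_eq_bot']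
  intro a h
  refine T.cα.ndeg.1 a fun b => ?_
  obtain ⟨c, rfl⟩ := LinearMap.surjective_of_injective h1 b
  rw [← T.α_adj, h, map_zero, LinearMap.zero_apply]

omit hR hU hmk ha hgn hy hz in
/-- The two root groups acting on `U ⊗ z` modulo the image of `U ⊗ y`. -/
theorem exists_steps (E : U →ₗ[F] U) (hE : E = T.entry (g : V →ₗ[F] V) z y) {s : F} (hs : s + σ s = 0) :
    (∃ h ∈ L, ∀ P R, h (τ P z + g (τ (T.adj E R) y)) = τ P z + g (τ (T.adj E (R + s • P)) y)) ∧
    (∃ h ∈ L, ∀ P R, h (τ P z + g (τ (T.adj E R) y)) = τ (P + s • E (T.adj E R)) z + g (τ (T.adj E R) y)) := by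
  obtain ⟨t, ht, htv⟩ := T.inA_long hL hyy hs
  obtain ⟨t', ht', htv'⟩ := T.inA_long hL hzz hs
  constructor
  · refine ⟨g * t * g⁻¹, mul_mem (mul_mem hg ht) (inv_mem hg), fun P R => ?_⟩
    have e1 : T.ctr y (g⁻¹ (τ P z)) = T.adj E P := by
      rw [hE, T.adj_entry (hL.iso hg), entry_apply]; rfl
    rw [LinearEquiv.mul_apply, LinearEquiv.mul_apply, htv, map_add, equiv_apply_inv, LinearMap.smul_apply,
      lin_apply, LinearMap.id_apply, map_add, equiv_inv_apply, map_add, T.ctr_tau, hyy, zero_smul, add_zero, e1]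
    simp only [map_smul, map_add, LinearMap.add_apply, LinearMap.smul_apply]
    module
  · refine ⟨t', ht', fun P R => ?_⟩
    have e1 : T.ctr z (g (τ (T.adj E R) y)) = E (T.adj E R) := by rw [hE]; rfl
    rw [htv', LinearMap.smul_apply, lin_apply, LinearMap.id_apply, map_add, T.ctr_tau, hzz, zero_smul, zero_add, e1]
    simp only [map_add, map_smul, LinearMap.add_apply, LinearMap.smul_apply]
    module

/-- The coefficient times its adjoint is a scalar or the square root of a non-square. -/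
theorem sq_cases (E : U →ₗ[F] U) (hE : E = T.entry (g : V →ₗ[F] V) z y) :
    (∃ m : F, σ m = m ∧ m ≠ 0 ∧ ∀ a, E (T.adj E a) = m • a) ∨
    ((∀ m : F, ¬ ∀ a, E (T.adj E a) = m • a) ∧ ∃ d : F, σ d = d ∧ d ≠ 0 ∧ (∀ l, σ l = l → l * l ≠ d) ∧
      ∀ a, E (T.adj E (E (T.adj E a))) = d • a) := by
  obtain ⟨hi, hi'⟩ := entry_bij hL hR hU hmk ha hg hgn hy hz hyy hzz
  rw [← hE] at hi hi'
  obtain ⟨K, hK⟩ : ∃ K : U →ₗ[F] U, ∀ a, K a = E (T.adj E a) := ⟨E ∘ₗ T.adj E, fun a => rfl⟩
  simp only [← hK]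
  have hK0 : ∀ a, K a = 0 → a = 0 := fun a h => by
    rw [hK] at h
    exact hi' (by rw [map_zero]; exact hi (by rw [map_zero]; exact h))
  have hKα : ∀ a b, α (K a) b = α a (K b) := fun a b => by
    rw [hK, hK, ← T.α_adj', T.α_adj]
  obtain ⟨a₀, ha₀⟩ := T.exists_ne_zero
  by_cases hns : ∃ m : F, ∀ a, K a = m • a
  · obtain ⟨m, hm⟩ := hns
    refine Or.inl ⟨m, ?_, fun e => ha₀ (hK0 _ (by rw [hm, e, zero_smul])), hm⟩
    obtain ⟨b₀, hb₀⟩ := T.cα.exists_pairing ha₀
    have h1 := hKα a₀ b₀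
    simp only [hm, LinearMap.map_smulₛₗ, LinearMap.smul_apply, map_smul, smul_eq_mul, hb₀, mul_one] at h1
    exact h1
  refine Or.inr ⟨fun m hm => hns ⟨m, hm⟩, ?_⟩
  push Not at hns
  -- a basis moved by the map
  obtain ⟨e, he⟩ : ∃ e, LinearIndependent F ![e, K e] := by
    by_contra hc
    push Not at hc
    obtain ⟨m, hm⟩ := K.exists_eq_smul_id_of_forall_notLinearIndependent hc
    obtain ⟨a, ha⟩ := hns m
    exact ha (by rw [hm]; rfl)
  let b := basisOfLinearIndependentOfCardEqFinrank he (by rw [Fintype.card_fin, hU])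
  have hb : ⇑b = ![e, K e] := coe_basisOfLinearIndependentOfCardEqFinrank _ _
  obtain ⟨d, c, hcd⟩ : ∃ d c : F, K (K e) = d • e + c • K e := by
    refine ⟨b.repr (K (K e)) 0, b.repr (K (K e)) 1, ?_⟩
    conv_lhs => rw [← b.sum_repr (K (K e))]
    rw [Fin.sum_univ_two, hb]
    rfl
  have hsq : ∀ a, K (K a) = d • a + c • K a := fun a => by
    refine LinearMap.congr_fun (b.ext (f₁ := K ∘ₗ K) (f₂ := d • LinearMap.id + c • K) fun i => ?_) a
    rw [hb]
    fin_cases i
    · simpa using hcd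
    · simp only [LinearMap.comp_apply, LinearMap.add_apply, LinearMap.smul_apply, LinearMap.id_apply]
      show K (K (K e)) = d • K e + c • K (K e)
      conv_lhs => rw [hcd, map_add, map_smul, map_smul]
  have hindep : ∀ p q : F, (∀ a, p • a + q • K a = 0) → p = 0 ∧ q = 0 := fun p q h =>
    LinearIndependent.pair_iff.1 he p q (h e)
  have hfix : σ d = d ∧ σ c = c := by
    have h := hindep (σ d - d) (σ c - c) fun a => T.cα.ext_left fun v => by
      have h1 : α (K (K a)) v = α a (K (K v)) := by rw [hKα, hKα]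
      rw [hsq, hsq] at h1
      simp only [map_add, map_smul, LinearMap.map_smulₛₗ, LinearMap.add_apply, LinearMap.smul_apply, smul_eq_mul,
        map_sub, T.invol, map_zero, LinearMap.zero_apply, hKα] at h1 ⊢
      linear_combination -h1
    exact ⟨sub_eq_zero.1 h.1, sub_eq_zero.1 h.2⟩
  have hd0 : d ≠ 0 := fun e0 => by
    have h := hindep (-c) 1 fun a => hK0 _ (by
      rw [map_add, map_smul, map_smul, one_smul, hsq, e0]; module)
    exact one_ne_zero h.2
  obtain ⟨ε, hε0, hε⟩ := Herm.exists_trace_zero T.cB.ne_id T.invol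
  have hεσ := eq_neg_of_add_eq_zero_right hε
  obtain ⟨a₁, ha₁, ha₁0, ha₁1⟩ := ha
  set k := -a₁ with hk
  have hkσ : σ k = k := by rw [hk, map_neg, ha₁]
  have hk0 : k ≠ 0 := neg_ne_zero.2 ha₁0
  have hk1 : 1 + k ≠ 0 := fun h => ha₁1 (by rw [hk] at h; linear_combination -h)
  have hkε : k * ε + σ (k * ε) = 0 := by rw [map_mul, hkσ, ← mul_add, hε, mul_zero]
  have start : ∀ a : U, τ a z = τ a z + g (τ (T.adj E 0) y) := fun a => by simp
  have hEz : ∀ P R, T.ctr z (τ P z + g (τ (T.adj E R) y)) = K R := fun P R => by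
    rw [map_add, T.ctr_tau, hzz, zero_smul, zero_add, hK, hE]; rfl
  -- no eigenvalue in the fixed field
  have hroot : ∀ l v, σ l = l → K v = l • v → v = 0 := by
    intro l v hl hv
    by_contra hv0
    have hl0 : l ≠ 0 := fun e => hv0 (hK0 v (by rw [hv, e, zero_smul]))
    set t := -(1 + k) / (l * k * ε) with ht
    have htt : t + σ t = 0 := by
      rw [ht, map_div₀, map_neg, map_add, map_one, map_mul, map_mul, hl, hkσ, hεσ]; field_simp; ring
    obtain ⟨⟨h₁, m₁, e₁⟩, -⟩ := exists_steps hL hg hyy hzz E hE hε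
    obtain ⟨-, ⟨h₂, m₂, e₂⟩⟩ := exists_steps hL hg hyy hzz E hE htt
    obtain ⟨⟨h₃, m₃, e₃⟩, -⟩ := exists_steps hL hg hyy hzz E hE hkε
    set h := h₃ * h₂ * h₁ with hh
    have hm : h ∈ L := mul_mem (mul_mem m₃ m₂) m₁
    have hent : ∀ a, T.ctr z (h (τ a z)) = (ε * (1 + k)) • (K a - l⁻¹ • K (K a)) := fun a => by
      rw [hh, LinearEquiv.mul_apply, LinearEquiv.mul_apply, start a, e₁, e₂, e₃, hEz]
      simp only [zero_add, map_add, map_smul, ← hK, smul_add, smul_sub, smul_smul, ht]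
      match_scalars <;> field_simp
    have hv1 : T.ctr z (h (τ v z)) = 0 := by
      rw [hent, hv, map_smul, hv, smul_smul, smul_smul, inv_mul_cancel₀ hl0, one_mul, sub_self, smul_zero]
    have hne : ¬ IsProd α β τ h := by
      rintro ⟨p, -, q, -, hpq⟩
      rw [hpq, T.ctr_tau, smul_eq_zero, LinearEquiv.map_eq_zero_iff, or_iff_left hv0] at hv1
      have h2 := hindep 1 (-l⁻¹) fun a => hK0 _ (by
        have h3 := hent a
        rw [hpq, T.ctr_tau, hv1, zero_smul, eq_comm, smul_eq_zero, or_iff_right (mul_ne_zero hε0 hk1)] at h3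
        rw [map_add, map_smul, map_smul, one_smul, neg_smul, ← sub_eq_add_neg, h3])
      exact one_ne_zero h2.1
    exact hv0 (entry_injective hL hR hU hmk ⟨a₁, ha₁, ha₁0, ha₁1⟩ hm hne hz hz hzz hzz hv1)
  -- no linear term
  have hc : c = 0 := by
    by_contra hc0
    set t₁ := -(1 + k) / (k * ε * c) with ht₁
    set t₂ := 1 / (ε * ε * t₁ * d) with ht₂
    have htt₁ : t₁ + σ t₁ = 0 := by
      rw [ht₁, map_div₀, map_neg, map_add, map_one, map_mul, map_mul, hfix.2, hkσ, hεσ]; field_simp; ring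
    have ht₁0 : t₁ ≠ 0 := div_ne_zero (neg_ne_zero.2 hk1) (mul_ne_zero (mul_ne_zero hk0 hε0) hc0)
    have htt₂ : t₂ + σ t₂ = 0 := by
      rw [ht₂, map_div₀, map_one, map_mul, map_mul, map_mul, hεσ, eq_neg_of_add_eq_zero_right htt₁, hfix.1]
      field_simp; ring
    have hne : -ε + σ (-ε) = 0 := by rw [map_neg, hεσ]; ring
    obtain ⟨⟨h₁, m₁, e₁⟩, -⟩ := exists_steps hL hg hyy hzz E hE hkε
    obtain ⟨-, ⟨h₂, m₂, e₂⟩⟩ := exists_steps hL hg hyy hzz E hE htt₁
    obtain ⟨⟨h₃, m₃, e₃⟩, -⟩ := exists_steps hL hg hyy hzz E hE hε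
    obtain ⟨-, ⟨h₄, m₄, e₄⟩⟩ := exists_steps hL hg hyy hzz E hE htt₂
    obtain ⟨⟨h₅, m₅, e₅⟩, -⟩ := exists_steps hL hg hyy hzz E hE hne
    set h := h₅ * h₄ * h₃ * h₂ * h₁ with hh
    set γ := (1 + k) / c with hγ
    have hh' : ∀ a, h (τ a z) = τ (γ • (c • a - K a)) z := fun a => by
      simp only [hh, LinearEquiv.mul_apply]
      rw [start a, e₁, e₂, e₃, e₄, e₅]
      simp only [zero_add, ← hK, map_add, map_smul, hsq, smul_add, smul_sub, smul_smul, LinearMap.add_apply,
        LinearMap.smul_apply, map_sub, LinearMap.sub_apply]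
      rw [hγ, ht₂, ht₁]
      match_scalars <;> field_simp <;> ring
    obtain ⟨p, hp, c₀, hc₀, hpa, -⟩ := line_factor hL hR
      (mul_mem (mul_mem (mul_mem (mul_mem m₅ m₄) m₃) m₂) m₁) hz hzz fun a => ⟨_, hh' a⟩
    have hψ : ∀ a, γ • (c • a - K a) = c₀ • p a := fun a => T.tau_inj hz (by
      rw [← hh' a, hpa a, map_smul, LinearMap.smul_apply])
    have hγ0 : γ ≠ 0 := div_ne_zero hk1 hc0
    have hγσ : σ γ = γ := by rw [hγ, map_div₀, map_add, map_one, hkσ, hfix.2]
    have h := hindep (c * c + d - σ c₀ * c₀ / (γ * γ)) (-c) fun a => T.cα.ext_right fun v => by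
      have h1 : α (c₀ • p v) (c₀ • p a) = σ c₀ * c₀ * α v a := by
        simp only [LinearMap.map_smulₛₗ, LinearMap.smul_apply, map_smul, smul_eq_mul, hp v a]; ring
      rw [← hψ, ← hψ] at h1
      simp only [map_sub, map_smul, LinearMap.map_smulₛₗ, LinearMap.sub_apply, LinearMap.smul_apply, smul_eq_mul,
        hγσ, hfix.2, hKα, hsq, map_add] at h1
      simp only [map_add, map_smul, map_zero, smul_eq_mul]
      field_simp
      linear_combination h1
    exact hc0 (neg_eq_zero.1 h.2)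
  refine ⟨d, hfix.1, hd0, fun l hl hl2 => ?_, fun a => by rw [hsq, hc, zero_smul, add_zero]⟩
  have h1 : ∀ a, K a + l • a = 0 := fun a => hroot l _ hl (by
    rw [map_add, map_smul, hsq, hc, zero_smul, add_zero, ← hl2]; module)
  exact hns (-l) |>.elim fun a h2 => h2 (by rw [eq_neg_of_add_eq_zero_left (h1 a), neg_smul])

/-- Over a fixed field with an element other than `0` and `±1`, the coefficient is a similitude. -/
theorem sq_scalar (E : U →ₗ[F] U) (hE : E = T.entry (g : V →ₗ[F] V) z y) {r : F} (hr : σ r = r) (hr0 : r ≠ 0)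
    (hr1 : r * r ≠ 1) : ∃ m : F, σ m = m ∧ m ≠ 0 ∧ ∀ a, E (T.adj E a) = m • a := by
  rcases sq_cases hL hR hU hmk ha hg hgn hy hz hyy hzz E hE with h | ⟨hns, d, hdσ, hd0, hdsq, hd⟩
  · exact h
  exfalso
  have h20 : (2 : F) ≠ 0 := fun h2 => by
    obtain ⟨l, hl⟩ := FiniteField.isSquare_of_char_two (CharP.ringChar_of_prime_eq_zero Nat.prime_two
      (by exact_mod_cast h2)) d
    refine hdsq l ?_ hl.symm
    have h3 : (σ l - l) * (σ l - l) = 0 := by
      have h4 : σ l * σ l = l * l := by rw [← map_mul, ← hl, hdσ]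
      linear_combination h4 + (l * l - σ l * l) * h2
    simpa [sub_eq_zero] using h3
  obtain ⟨ε, hε0, hε⟩ := Herm.exists_trace_zero T.cB.ne_id T.invol
  have hεσ := eq_neg_of_add_eq_zero_right hε
  obtain ⟨w, hwσ, hw0, hw⟩ : ∃ w : F, σ w = w ∧ w ≠ 0 ∧ w * w * d + 4 ≠ 0 := by
    by_cases h : (1 : F) * 1 * d + 4 = 0
    · refine ⟨r, hr, hr0, fun h' => hr1 ?_⟩
      exact sub_eq_zero.1 ((mul_eq_zero.1 (show (r * r - 1) * d = 0 by linear_combination h' - h)).resolve_right hd0)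
    · exact ⟨1, map_one σ, one_ne_zero, h⟩
  set t := w / ε with ht
  have htt : t + σ t = 0 := by rw [ht, map_div₀, hwσ, hεσ]; field_simp; ring
  obtain ⟨⟨h₁, m₁, e₁⟩, -⟩ := exists_steps hL hg hyy hzz E hE hε
  obtain ⟨-, ⟨h₂, m₂, e₂⟩⟩ := exists_steps hL hg hyy hzz E hE htt
  set h := h₁ * h₂ * h₁ with hh
  have hm : h ∈ L := mul_mem (mul_mem m₁ m₂) m₁
  obtain ⟨K, hK⟩ : ∃ K : U →ₗ[F] U, ∀ a, K a = E (T.adj E a) := ⟨E ∘ₗ T.adj E, fun a => rfl⟩
  simp only [← hK] at hd hns
  have hKα : ∀ a b, α (K a) b = α a (K b) := fun a b => by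
    rw [hK, hK, ← T.α_adj', T.α_adj]
  set A := ε * w * d with hA
  set B' := 2 * ε with hB
  have hAσ : σ A = -A := by rw [hA, map_mul, map_mul, hεσ, hwσ, hdσ]; ring
  have hBσ : σ B' = -B' := by rw [hB, map_mul, map_ofNat, hεσ]; ring
  have hent : ∀ a, T.entry (h : V →ₗ[F] V) z z a = A • a + B' • K a := fun a => by
    have hEz : ∀ P R, T.ctr z (τ P z + g (τ (T.adj E R) y)) = K R := fun P R => by
      rw [map_add, T.ctr_tau, hzz, zero_smul, zero_add, hK, hE]; rfl
    rw [entry_apply, LinearEquiv.coe_coe]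
    simp only [hh, LinearEquiv.mul_apply]
    rw [show τ a z = τ a z + g (τ (T.adj E 0) y) by simp, e₁, e₂, e₁, hEz]
    simp only [zero_add, map_add, map_smul, ← hK, hd, hA, hB, ht, smul_add, smul_smul]
    match_scalars <;> field_simp
    ring
  have hindep : ∀ p q : F, (∀ a, p • a + q • K a = 0) → q = 0 := fun p q h0 => by
    by_contra hq
    refine hns (-p / q) fun a => ?_
    have h1 := congrArg (fun v => q⁻¹ • v) (eq_neg_of_add_eq_zero_right (h0 a))
    simp only [smul_neg, smul_smul, inv_mul_cancel₀ hq, one_smul] at h1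
    rw [h1, neg_div, neg_smul, div_eq_inv_mul]
  set A' := -(A * A + B' * B' * d) with hA'
  set B'' := -(2 * A * B') with hB''
  have hA'0 : A' ≠ 0 := by
    rw [hA', hA, hB, show ε * w * d * (ε * w * d) + 2 * ε * (2 * ε) * d = ε * ε * d * (w * w * d + 4) by ring]
    exact neg_ne_zero.2 (mul_ne_zero (mul_ne_zero (mul_ne_zero hε0 hε0) hd0) hw)
  have hB''0 : B'' ≠ 0 := neg_ne_zero.2 (mul_ne_zero (mul_ne_zero h20 (by
    rw [hA]; exact mul_ne_zero (mul_ne_zero hε0 hw0) hd0)) (by rw [hB]; exact mul_ne_zero h20 hε0))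
  set E' := T.entry (h : V →ₗ[F] V) z z with hE'
  have hadj : ∀ a, T.adj E' a = -(A • a + B' • K a) := fun a => T.cα.ext_left fun b => by
    rw [T.α_adj, hent]
    simp only [map_neg, LinearMap.neg_apply, map_add, map_smul, LinearMap.map_smulₛₗ, LinearMap.add_apply,
      LinearMap.smul_apply, smul_eq_mul, hAσ, hBσ, hKα]
    ring
  have hKK : ∀ a, E' (T.adj E' a) = A' • a + B'' • K a := fun a => by
    rw [hadj, hent]
    simp only [map_neg, map_add, map_smul, hd, hA', hB'', smul_add, smul_neg, smul_smul]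
    module
  have hne : ¬ IsProd α β τ h := by
    rintro ⟨p, hp, q, -, hpq⟩
    set μ := β z (q z) with hμ
    have hEp : ∀ a, E' a = μ • p a := fun a => by
      rw [hE', entry_apply, LinearEquiv.coe_coe, hpq, T.ctr_tau]
    refine hB''0 (hindep (A' - σ μ * μ) B'' fun a => T.cα.ext_right fun v => ?_)
    have h1 : α v (A' • a + B'' • K a) = σ μ * μ * α v a := by
      rw [← hKK]
      obtain ⟨a', rfl⟩ := p.surjective a
      have h2 : T.adj E' (p a') = σ μ • a' := T.cα.ext_left fun b => by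
        rw [T.α_adj, hEp, map_smul, LinearMap.map_smulₛₗ, LinearMap.smul_apply, T.invol, hp a' b]
      rw [h2, hEp, map_smul, map_smul, map_smul, smul_eq_mul, smul_eq_mul]
      ring
    simp only [map_add, map_smul, smul_eq_mul, map_zero] at h1 ⊢
    linear_combination h1
  rcases sq_cases hL hR hU hmk ha hm hne hz hz hzz hzz E' hE' with ⟨m, -, -, hm'⟩ | ⟨-, d', -, -, -, hd'⟩
  · refine hB''0 (hindep (A' - m) B'' fun a => ?_)
    have h1 := hm' a
    rw [hKK] at h1
    linear_combination (norm := module) h1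
  · have h1 := hindep (A' * A' + B'' * B'' * d - d') (2 * A' * B'') fun a => by
      have h2 := hd' a
      rw [hKK, hKK] at h2
      simp only [map_add, map_smul, hd] at h2
      linear_combination (norm := module) h2
    exact mul_ne_zero (mul_ne_zero h20 hA'0) hB''0 h1

end Ten

end Cfsg.Lib.Linear.UTensor
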