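import Cfsg.Agent.Lib.Linear.UTensor.SixWin
import Cfsg.Agent.Lib.Linear.UTensor.SixDet
import Cfsg.Agent.Lib.Linear.UTensor.Max

/-!
# The stabiliser of a decomposition two times three is maximal
-/

set_option autoImplicit false
set_option linter.unusedSectionVars false

namespace Cfsg.Lib.Linear.UTensor

open Module
open Cfsg.Lib.Linear

section

variable {F V U W : Type*} [Field F] [Finite F]
  [AddCommGroup V] [Module F V] [FiniteDimensional F V]
  [AddCommGroup U] [Module F U] [FiniteDimensional F U]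
  [AddCommGroup W] [Module F W] [FiniteDimensional F W]
  {σ : F →+* F} {B : V →ₛₗ[σ] V →ₗ[F] F} {α : U →ₛₗ[σ] U →ₗ[F] F} {β : W →ₛₗ[σ] W →ₗ[F] F}
  {τ : U →ₗ[F] W →ₗ[F] V}

namespace Ten

variable {T : Ten B α β τ} {L : Subgroup (V ≃ₗ[F] V)} (hL : Over B α β τ L) (hR : T.Losing L)
  (hU : finrank F U = 2) (hW : finrank F W = 3)
  (ha : ∃ a : F, σ a = a ∧ a ≠ 0 ∧ a ≠ 1)
  (hk : ∃ k : F, k ≠ 0 ∧ σ k * σ k ≠ k * k ∧ σ k * σ k * σ k ≠ k * k * k)
include hL hR hU hW ha hk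

/-- With only scalar coefficients every element respects the decomposition. -/
theorem all_prod_six : ∀ g ∈ L, IsProd α β τ g := by
  intro g hg
  by_contra hgn
  have hmk : finrank F U < finrank F W := by omega
  by_cases hex : ∃ r : F, σ r = r ∧ r ≠ 0 ∧ r * r ≠ 1
  swap
  · push Not at hex
    exact hgn (prod_of_sq_one hL hR hU hW ha hex hg)
  obtain ⟨r, hr, hr0, hr1⟩ := hex
  obtain ⟨x, -, hx0, hxx⟩ := Herm.exists_iso_ne_zero T.cβ.ne_id T.cβ.invol T.cβ.symm ⊤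
    (by rw [finrank_top]; omega)
  obtain ⟨x', hx'', hxx'⟩ := T.cβ.exists_partner hx0 hxx
  have hx'x := T.cβ.swap_one hxx'
  obtain ⟨p, hxp, hx'p, hpp, hdec⟩ := T.cβ.exists_mid hW hxx hx'' hxx'
  have hpx := T.cβ.swap_zero hxp
  have hpx' := T.cβ.swap_zero hx'p
  set Ax := T.entry (g : V →ₗ[F] V) x x with hAx
  obtain ⟨m₀, hm₀σ, hm₀0, hm₀⟩ := sq_scalar hL hR hU hmk ha hg hgn hx0 hx0 hxx hxx Ax hAx hr hr0 hr1
  obtain ⟨hi, -⟩ := entry_bij hL hR hU hmk ha hg hgn hx0 hx0 hxx hxx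
  rw [← hAx] at hi
  have hm₀' : ∀ a, T.adj Ax (Ax a) = m₀ • a := fun a => hi (by rw [hm₀, map_smul])
  -- normalised coefficients
  obtain ⟨M, hM⟩ : ∃ M : W → (U →ₗ[F] U), ∀ z,
      M z = m₀⁻¹ • (T.adj Ax ∘ₗ T.entry (g : V →ₗ[F] V) z x) := ⟨_, fun z => rfl⟩
  have hMadd : ∀ z z', M (z + z') = M z + M z' := fun z z' => by
    simp only [hM]
    refine LinearMap.ext fun a => ?_
    simp [entry_apply]
  have hMsmul : ∀ (c : F) z, M (c • z) = σ c • M z := fun c z => by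
    simp only [hM]
    refine LinearMap.ext fun a => ?_
    simp [entry_apply, smul_smul, mul_comm]
  have hMx : M x = 1 := LinearMap.ext fun a => by
    rw [hM, ← hAx, LinearMap.smul_apply, LinearMap.comp_apply, hm₀', smul_smul, inv_mul_cancel₀ hm₀0, one_smul]
    rfl
  have hMz : ∀ z, z ≠ 0 → β z z = 0 → ∃ m : F, M z * T.adj (M z) = m • 1 := fun z hz hzz => by
    obtain ⟨m, -, -, hm⟩ := sq_scalar hL hR hU hmk ha hg hgn hx0 hz hxx hzz _ rfl hr hr0 hr1
    refine ⟨m₀⁻¹ * m₀⁻¹ * m * m₀, LinearMap.ext fun a => ?_⟩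
    simp only [hM, T.adj_smul, T.adj_comp, T.adj_adj, Module.End.mul_apply, LinearMap.smul_apply,
      LinearMap.comp_apply, Module.End.one_apply, map_smul, hm, hm₀', map_inv₀, hm₀σ, smul_smul]
    congr 1
    ring
  set M1 := M x' with hM1
  set Mp := M p with hMp
  set N1 := T.adj M1
  set Np := T.adj Mp
  set Q := β p p with hQ
  -- a general isotropic vector
  have hgen : ∀ w c : F, c + σ c = -(σ w * w * Q) → ∃ m : F,
      M1 * N1 + c • M1 + σ c • N1 + (σ w • (Mp * N1 + c • Mp) + w • (M1 * Np + σ c • Np)) +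
        (σ w * w) • (Mp * Np) = m • 1 := by
    intro w c hc
    have hz0 : x' + w • p + c • x ≠ 0 := fun e => by
      have := congrArg (β x) e
      simp [hxx', hxp, hxx] at this
    obtain ⟨m, hm⟩ := hMz _ hz0 (by
      simp only [map_add, LinearMap.add_apply, LinearMap.map_smulₛₗ, LinearMap.smul_apply, map_smul, smul_eq_mul,
        hxx, hx'', hxx', hx'x, hxp, hpx, hx'p, hpx', ← hQ]
      linear_combination hc)
    refine ⟨m - σ c * c, ?_⟩
    rw [hMadd, hMadd, hMsmul, hMsmul, hMx, ← hM1, ← hMp, T.adj_add, T.adj_add, T.adj_smul, T.adj_smul, T.invol,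
      T.invol, show T.adj (1 : U →ₗ[F] U) = 1 from T.adj_id] at hm
    rw [sub_smul, ← hm]
    simp only [mul_add, add_mul, smul_mul_assoc, mul_smul_comm, one_mul, mul_one, smul_smul, smul_add]
    module
  obtain ⟨k, hk0, hk2, hk3⟩ := hk
  have hσk : σ k ≠ 0 := by simpa using hk0
  set ν := σ k / k with hν
  have hνν : σ ν * ν = 1 := by rw [hν, map_div₀, T.invol]; field_simp
  have hν0 : ν ≠ 0 := div_ne_zero hσk hk0
  have hν2 : ν * ν ≠ 1 := fun e => hk2 (by rw [hν] at e; field_simp at e; linear_combination e)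
  have hν1 : ν ≠ 1 := fun e => hν2 (by rw [e, one_mul])
  have hσν : σ ν = ν⁻¹ := eq_inv_of_mul_eq_one_left hνν
  -- rotation of the middle component
  have hX : ∀ w c : F, w ≠ 0 → c + σ c = -(σ w * w * Q) → ∃ m : F, Mp * N1 + c • Mp = m • 1 := by
    intro w c hw hc
    have hl : ∀ l : F, σ l * l = 1 → σ (l * w) * (l * w) = σ w * w := fun l hl => by
      rw [map_mul]; linear_combination (σ w * w) * hl
    obtain ⟨m1, h1⟩ := hgen w c hc
    obtain ⟨m2, h2⟩ := hgen (ν * w) c (by rw [hl ν hνν]; exact hc)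
    obtain ⟨m3, h3⟩ := hgen (ν * ν * w) c (by rw [hl (ν * ν) (by rw [map_mul]; linear_combination (σ ν * ν + 1) * hνν)]; exact hc)
    simp only [map_mul, hσν] at h1 h2 h3
    set X := Mp * N1 + c • Mp
    set Y := M1 * Np + σ c • Np
    set R := M1 * N1 + c • M1 + σ c • N1
    have hm2 : (ν⁻¹ - 1) • σ w • X + (ν - 1) • w • Y = (m2 - m1) • (1 : U →ₗ[F] U) := by
      rw [sub_smul m2, ← h2, ← h1]
      match_scalars <;> field_simp <;> ring
    have hm3 : (ν⁻¹ * ν⁻¹ - 1) • σ w • X + (ν * ν - 1) • w • Y = (m3 - m1) • (1 : U →ₗ[F] U) := by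
      rw [sub_smul m3, ← h3, ← h1]
      match_scalars <;> field_simp <;> ring
    set D := (ν⁻¹ * ν⁻¹ - 1 - (ν + 1) * (ν⁻¹ - 1)) * σ w with hD
    have hD0 : D ≠ 0 := by
      refine mul_ne_zero (fun e => ?_) (by simpa using hw)
      have e2 : (1 - ν) * (1 - ν * ν) = 0 := by field_simp at e; linear_combination e
      rcases mul_eq_zero.1 e2 with e3 | e3
      · exact hν1 (sub_eq_zero.1 e3).symm
      · exact hν2 (sub_eq_zero.1 e3).symm
    refine ⟨(m3 - m1 - (ν + 1) * (m2 - m1)) / D, ?_⟩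
    have h4 : D • X = (m3 - m1 - (ν + 1) * (m2 - m1)) • (1 : U →ₗ[F] U) := by
      rw [sub_smul (m3 - m1), mul_smul, mul_smul, ← hm2, ← hm3]
      module
    rw [div_eq_inv_mul, ← smul_smul, ← h4, smul_smul, inv_mul_cancel₀ hD0, one_smul]
  obtain ⟨ε, hε0, hε⟩ := Herm.exists_trace_zero T.cB.ne_id T.invol
  have hεσ := eq_neg_of_add_eq_zero_right hε
  have hQσ : σ Q = Q := T.cβ.self_fixed p
  obtain ⟨c₁, hc₁⟩ := Herm.exists_trace_eq T.cB.ne_id T.invol (a := -(σ (1 : F) * 1 * Q)) (by simp [hQσ])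
  obtain ⟨μ, hμ⟩ : ∃ μ : F, Mp = μ • 1 := by
    obtain ⟨m1, h1⟩ := hX 1 c₁ one_ne_zero hc₁
    obtain ⟨m2, h2⟩ := hX 1 (c₁ + ε) one_ne_zero (by
      rw [map_add, hεσ]; linear_combination hc₁)
    refine ⟨(m2 - m1) / ε, ?_⟩
    have h3 : ε • Mp = (m2 - m1) • (1 : U →ₗ[F] U) := by rw [sub_smul, ← h1, ← h2]; module
    rw [div_eq_inv_mul, ← smul_smul, ← h3, smul_smul, inv_mul_cancel₀ hε0, one_smul]
  obtain ⟨n, hn⟩ : ∃ n : F, N1 = n • 1 := by
    by_cases hμ0 : μ = 0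
    · obtain ⟨m0, h0⟩ := hgen 0 0 (by simp)
      obtain ⟨m1, h1⟩ := hgen 0 ε (by rw [hε]; simp)
      obtain ⟨v, hv⟩ := Herm.exists_norm_fixed T.cB.ne_id T.invol (a := -Q⁻¹) (by simpa using hpp)
        (by rw [map_neg, map_inv₀, hQσ])
      obtain ⟨c, hc⟩ := Herm.exists_trace_eq T.cB.ne_id T.invol (a := (1 : F)) (map_one σ)
      obtain ⟨m2, h2⟩ := hgen v c (by rw [hc, hv, neg_mul, inv_mul_cancel₀ hpp, neg_neg])
      have hp0 : Mp = 0 := by rw [hμ, hμ0, zero_smul]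
      have hnp0 : Np = 0 := by show T.adj Mp = 0; rw [hp0, T.adj_zero]
      simp only [hp0, hnp0, zero_mul, mul_zero, smul_zero, add_zero, map_zero, zero_smul, hεσ] at h0 h1 h2
      refine ⟨(m2 - m0) - c * ((m1 - m0) / ε), ?_⟩
      have hσc : σ c = 1 - c := eq_sub_of_add_eq' hc
      rw [sub_smul, sub_smul m2, ← smul_smul, div_eq_inv_mul, ← smul_smul, sub_smul m1, ← h0, ← h1, ← h2, hσc]
      match_scalars <;> field_simp <;> ring
    · obtain ⟨m1, h1⟩ := hX 1 c₁ one_ne_zero hc₁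
      refine ⟨m1 / μ - c₁, ?_⟩
      rw [hμ, smul_mul_assoc, one_mul, smul_smul] at h1
      rw [sub_smul, div_eq_inv_mul, ← smul_smul, ← h1]
      match_scalars <;> field_simp <;> ring
  -- the image of `U ⊗ x` is pure
  have hM1s : M1 = σ n • 1 := by
    rw [← T.adj_adj M1, show T.adj M1 = n • 1 from hn, T.adj_smul, show T.adj (1 : U →ₗ[F] U) = 1 from T.adj_id]
  have hA : ∀ z a, T.ctr z (g (τ a x)) = Ax (M z a) := fun z a => by
    rw [hM, LinearMap.smul_apply, LinearMap.comp_apply, map_smul, hm₀, smul_smul, inv_mul_cancel₀ hm₀0,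
      one_smul]
    rfl
  set Z := x' + σ n • x + (μ / Q) • p with hZ
  have hZ0 : Z ≠ 0 := fun e => by
    have := congrArg (β x) e
    simp [hZ, hxx', hxp, hxx] at this
  refine hgn (prod_of_line hL hR hg hx0 hZ0 hxx fun a => ⟨Ax a, T.ctr_ext fun z => ?_⟩)
  have e1 : T.ctr x (g (τ a x)) = Ax a := rfl
  have e2 : T.ctr x' (g (τ a x)) = σ n • Ax a := by
    rw [hA, ← hM1, hM1s, LinearMap.smul_apply, Module.End.one_apply, map_smul]
  have e3 : T.ctr p (g (τ a x)) = μ • Ax a := by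
    rw [hA, ← hMp, hμ, LinearMap.smul_apply, Module.End.one_apply, map_smul]
  conv_lhs => rw [hdec z]
  conv_rhs => rw [hdec z]
  simp only [map_add, LinearMap.add_apply, LinearMap.map_smulₛₗ, LinearMap.smul_apply, T.ctr_tau, e1, e2, e3,
    hZ, map_smul, hxx, hxx', hx'', hx'x, hxp, hpx, hx'p, hpx', smul_eq_mul, ← hQ]
  match_scalars
  field_simp
  ring

end Ten

/-- An overgroup respects the decomposition or contains all transvections. -/
theorem Ten.dichotomy_six {T : Ten B α β τ} {L : Subgroup (V ≃ₗ[F] V)} (hL : Over B α β τ L)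
    (hU : finrank F U = 2) (hW : finrank F W = 3) (ha : ∃ a : F, σ a = a ∧ a ≠ 0 ∧ a ≠ 1)
    (hk : ∃ k : F, k ≠ 0 ∧ σ k * σ k ≠ k * k ∧ σ k * σ k * σ k ≠ k * k * k) :
    (∀ g ∈ L, IsProd α β τ g) ∨ Herm.tvGroup B ≤ L := by
  by_cases hR : T.Losing L
  · exact Or.inl (Ten.all_prod_six hL hR hU hW ha hk)
  · exact Or.inr (Ten.tvGroup_le hL hU ha hW (hk.imp fun k h => ⟨h.1, h.2.2⟩) hR)

end

variable {F : Type*} [Field F] [Fintype F] {q : ℕ} (hF : Fintype.card F = q ^ 2)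
include hF

/-- A field element whose ratio to its conjugate has order more than three. -/
theorem exists_ratio (hq : 3 ≤ q) :
    ∃ k : F, k ≠ 0 ∧ Herm.frob hF k * Herm.frob hF k ≠ k * k ∧
      Herm.frob hF k * Herm.frob hF k * Herm.frob hF k ≠ k * k * k := by
  obtain ⟨g, hg⟩ := IsCyclic.exists_ofOrder_eq_natCard (α := Fˣ)
  have hord : orderOf g = q ^ 2 - 1 := by
    rw [hg, Nat.card_units, Nat.card_eq_fintype_card, hF]
  have hne : ∀ j, 0 < j → j ≤ 3 → ((g : F) ^ q) ^ j ≠ (g : F) ^ j := fun j hj0 hj e => by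
    have h1 : g ^ (j * q) = g ^ j := Units.ext (by rw [Units.val_pow_eq_pow_val, Units.val_pow_eq_pow_val, mul_comm, pow_mul, e])
    have h2 : g ^ (j * q - j) = 1 := by
      rw [pow_sub g (Nat.le_mul_of_pos_right j (by omega)), h1, mul_inv_cancel]
    have h3 := Nat.le_of_dvd (Nat.sub_pos_of_lt (by nlinarith)) (orderOf_dvd_of_pow_eq_one h2)
    rw [hord] at h3
    have h4 : j * q ≤ 3 * q := Nat.mul_le_mul_right q hj
    have h5 : q ^ 2 = q * q := sq q
    rw [h5] at h3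
    by_cases hq4 : 4 ≤ q
    · have h6 : 4 * q ≤ q * q := Nat.mul_le_mul_right q hq4
      omega
    · have h6 : q = 3 := by omega
      subst h6
      omega
  refine ⟨g, g.ne_zero, fun e => hne 2 (by norm_num) (by norm_num) ?_, fun e => hne 3 (by norm_num) le_rfl ?_⟩
  · rw [Herm.frob_apply hF] at e; simpa [pow_two] using e
  · rw [Herm.frob_apply hF] at e; simpa [pow_succ, pow_zero] using e

variable {n : ℕ} (e : Fin n ≃ Fin 2 × Fin 3) (P : GL (Fin n) F)

/-- The stabiliser of a decomposition two times three is maximal. -/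
theorem maximal_six {f₁ : (Fin 2 → F) → (Fin 2 → F) → F} {f₂ : (Fin 3 → F) → (Fin 3 → F) → F}
    (hf₁ : Cfsg.Geo.IsUnitaryFormPow q f₁) (hf₂ : Cfsg.Geo.IsUnitaryFormPow q f₂)
    (hT : Cfsg.Geo.IsTensorFormStructure (fun x : F => x ^ q) (Cfsg.hermForm n F q) f₁ f₂ e P) (hq : 3 ≤ q) :
    Cfsg.Geo.IsMaximalIn (Cfsg.GU n F q ⊓ Cfsg.Geo.specialLinear (Fin n) F)
      (Cfsg.Geo.tensorProductSubgroup 2 3 e P ⊓ (Cfsg.GU n F q ⊓ Cfsg.Geo.specialLinear (Fin n) F)) := by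
  refine maximal_of hF e P hf₁ hf₂ hT le_rfl le_rfl fun {α β τ} T L hL => ?_
  obtain ⟨y, z, hy0, hz0, hyz, hy, hz⟩ := exists_two_trace hF hq
  refine Ten.dichotomy_six (T := T) hL (finrank_fin_fun F) (finrank_fin_fun F) ⟨z / y, ?_, div_ne_zero hz0 hy0,
    fun h => hyz ((div_eq_one_iff_eq hy0).1 h).symm⟩ (exists_ratio hF hq)
  rw [map_div₀, eq_neg_of_add_eq_zero_right hy, eq_neg_of_add_eq_zero_right hz, neg_div_neg_eq]

end Cfsg.Lib.Linear.UTensor
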