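import Cfsg.Agent.Lib.Linear.UTensor.Twist
import Cfsg.Agent.Lib.Linear.UTensor.Alg

/-!
# Two times three: coefficients of rank one

In a group with only scalar coefficients on long roots, the coefficient of an element outside the decomposition at
two isotropic vectors is bijective.
-/

set_option autoImplicit false
set_option linter.unusedSectionVars false

namespace Cfsg.Lib.Linear.UTensor

open Module
open Cfsg.Lib.Linear

variable {F V U W : Type*} [Field F] [Finite F]
  [AddCommGroup V] [Module F V] [FiniteDimensional F V]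
  [AddCommGroup U] [Module F U] [FiniteDimensional F U]
  [AddCommGroup W] [Module F W] [FiniteDimensional F W]
  {σ : F →+* F} {B : V →ₛₗ[σ] V →ₗ[F] F} {α : U →ₛₗ[σ] U →ₗ[F] F} {β : W →ₛₗ[σ] W →ₗ[F] F}
  {τ : U →ₗ[F] W →ₗ[F] V}

namespace Ten

variable {T : Ten B α β τ} {L : Subgroup (V ≃ₗ[F] V)} (hL : Over B α β τ L) (hR : T.Losing L)
  (hU : finrank F U = 2) (hmk : finrank F U < finrank F W)
  (ha : ∃ a : F, σ a = a ∧ a ≠ 0 ∧ a ≠ 1)
include hL hR hU hmk ha

omit hL hR hmk ha in
theorem dec2 (T : Ten B α β τ) {i k : U} (hi : α i i ≠ 0) (hk : α k k ≠ 0) (hik : α i k = 0) (a : U) :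
    (α i a / α i i) • i + (α k a / α k k) • k = a := by
  have hki := T.cα.swap_zero hik
  have hli : LinearIndependent F ![i, k] := LinearIndependent.pair_iff.2 fun s t h => by
    have h1 := congrArg (α i) h
    have h2 := congrArg (α k) h
    simp [hi, hk, hik, hki] at h1 h2
    exact ⟨h1, h2⟩
  have hspan := hli.span_eq_top_of_card_eq_finrank (by rw [Fintype.card_fin, hU])
  have h := LinearMap.congr_fun
    (LinearMap.ext_on (f := ((α i i)⁻¹ • α i).smulRight i + ((α k k)⁻¹ • α k).smulRight k)
      (g := LinearMap.id) hspan (by rintro _ ⟨j, rfl⟩; fin_cases j <;> simp [hi, hk, hik, hki])) a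
  simpa [div_eq_inv_mul] using h

/-- The coefficient of an element outside is injective. -/
theorem entry_injective {g₀ : V ≃ₗ[F] V} (hg₀ : g₀ ∈ L) (hg₀n : ¬ IsProd α β τ g₀) {x y : W} (hx : x ≠ 0)
    (hy : y ≠ 0) (hxx : β x x = 0) (hyy : β y y = 0) {a : U} (h : T.ctr x (g₀ (τ a y)) = 0) : a = 0 := by
  by_contra ha0
  set E := T.entry (g₀ : V →ₗ[F] V) x y with hE
  have hEa : E a = 0 := h
  obtain ⟨e, he0, he⟩ := Herm.exists_trace_zero T.cB.ne_id T.invol
  obtain ⟨t, ht, htv⟩ := T.inA_long hL hyy he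
  have htv' : ∀ v, t v = v + e • τ (T.ctr y v) y := fun v => htv v
  set g := g₀ * t * g₀⁻¹ with hgdef
  have hg : g ∈ L := mul_mem (mul_mem hg₀ ht) (inv_mem hg₀)
  have hgn : ¬ IsProd α β τ g := conj_not_prod hL hR hmk hg₀ hg₀n hy hyy he0 htv'
  have hgv : ∀ v, g v = v + e • g₀ (τ (T.ctr y (g₀⁻¹ v)) y) := fun v => by
    rw [hgdef, LinearEquiv.mul_apply, LinearEquiv.mul_apply, htv', map_add, equiv_apply_inv, map_smul]
  have hE' : T.adj E = T.entry ((g₀⁻¹ : V ≃ₗ[F] V) : V →ₗ[F] V) y x := T.adj_entry (hL.iso hg₀) x y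
  set H := T.entry (g : V →ₗ[F] V) x x with hH
  have hHE : H = e • (E ∘ₗ T.adj E) := LinearMap.ext fun a => by
    rw [hH, hE', entry_apply, LinearEquiv.coe_coe, hgv, map_add, T.ctr_tau, hxx, zero_smul, zero_add, map_smul]
    rfl
  have hH0 : H ≠ 0 := fun h0 => hgn (prod_of_entry hL hR hg hx hx hxx hxx fun a => LinearMap.congr_fun h0 a)
  have hHadj : T.adj H = -H := by
    rw [hHE, T.adj_smul, T.adj_comp, T.adj_adj, show σ e = -e from eq_neg_of_add_eq_zero_right he, neg_smul]
  have hrE : finrank F (LinearMap.range E) ≤ 1 := by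
    have h1 := E.finrank_range_add_finrank_ker
    have h2 : 0 < finrank F (LinearMap.ker E) :=
      Module.finrank_pos_iff_exists_ne_zero.2 ⟨⟨a, hEa⟩, fun h => ha0 (congrArg Subtype.val h)⟩
    omega
  have hrH : LinearMap.range H ≤ LinearMap.range E := by
    rintro _ ⟨c, rfl⟩
    exact ⟨e • T.adj E c, by rw [hHE]; simp⟩
  obtain ⟨i, hiH, hi0⟩ := Submodule.exists_mem_ne_zero_of_ne_bot (fun h => hH0 (LinearMap.range_eq_bot.1 h))
  have hEi : LinearMap.range E = Submodule.span F {i} :=
    (Submodule.eq_of_le_of_finrank_le ((Submodule.span_singleton_le_iff_mem _ _).2 (hrH hiH))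
      (by rw [finrank_span_singleton hi0]; exact hrE)).symm
  have hHm : ∀ c, ∃ d : F, H c = d • i := fun c => by
    obtain ⟨d, hd⟩ := Submodule.mem_span_singleton.1 (hEi ▸ hrH (LinearMap.mem_range_self H c))
    exact ⟨d, hd.symm⟩
  -- the line is anisotropic
  have hP : α i i ≠ 0 := fun hii => by
    obtain ⟨t₂, ht₂, ht₂v⟩ := T.inA_long hL hxx he
    refine conj_not_prod hL hR hmk hg hgn hx hxx he0 (fun v => ht₂v v)
      (prod_of_entry hL hR (mul_mem (mul_mem hg ht₂) (inv_mem hg)) hx hx hxx hxx fun c => ?_)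
    have h3 : T.ctr x (g⁻¹ (τ c x)) = -H c := by
      rw [show -H c = T.adj H c by rw [hHadj]; rfl, hH, T.adj_entry (hL.iso hg), entry_apply]
      rfl
    have h5 : H (H c) = 0 := by
      obtain ⟨d, hd⟩ := hHm c
      rw [hd, map_smul, show H i = 0 from ?_, smul_zero]
      obtain ⟨d', hd'⟩ := hHm i
      obtain ⟨c', hc'⟩ := hiH
      have h6 : α c' (H i) = 0 := by
        rw [← T.α_adj, hHadj, LinearMap.neg_apply, hc', map_neg, LinearMap.neg_apply, hii, neg_zero]
      have h7 : ∀ b, α b (H i) = 0 := fun b => by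
        obtain ⟨db, hdb⟩ := hHm b
        rw [← T.α_adj, hHadj, LinearMap.neg_apply, hdb, map_neg, LinearMap.neg_apply, LinearMap.map_smulₛₗ,
          LinearMap.smul_apply, hii, smul_zero, neg_zero]
      exact T.cα.ext_right fun b => by rw [h7, map_zero]
    have h4 : T.ctr x (g (τ (H c) x)) = 0 := h5
    rw [LinearEquiv.mul_apply, LinearEquiv.mul_apply, ht₂v, map_add, equiv_apply_inv, map_add,
      LinearMap.smul_apply, lin_apply, LinearMap.id_apply, h3, T.ctr_tau, hxx, zero_smul, zero_add]
    simp [h4]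
  obtain ⟨k, hik, hk0⟩ : ∃ k, α i k = 0 ∧ k ≠ 0 := by
    have h1 := LinearMap.finrank_range_add_finrank_ker (α i)
    have h2 := Submodule.finrank_le (LinearMap.range (α i))
    rw [Module.finrank_self] at h2
    obtain ⟨k, hk, hk0⟩ := Submodule.exists_mem_ne_zero_of_ne_bot (p := LinearMap.ker (α i))
      (fun h => by rw [h, finrank_bot] at h1; omega)
    exact ⟨k, hk, hk0⟩
  have hki := T.cα.swap_zero hik
  have hPk : α k k ≠ 0 := fun hkk => hk0 (T.cα.ndeg.1 k fun b => by
    obtain ⟨v, hv⟩ := T.cα.exists_pairing hk0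
    by_contra hb
    have hli : LinearIndependent F ![i, k] := LinearIndependent.pair_iff.2 fun s t h => by
      have h1 := congrArg (α i) h
      simp [hP, hik] at h1
      subst h1
      simp at h
      exact ⟨rfl, h.resolve_right hk0⟩
    have hspan := hli.span_eq_top_of_card_eq_finrank (by rw [Fintype.card_fin, hU])
    have h0 : α k = 0 := LinearMap.ext_on hspan (by rintro _ ⟨j, rfl⟩; fin_cases j <;> simp [hki, hkk])
    exact hb (LinearMap.congr_fun h0 b))
  have hdec := dec2 hU T hP hPk hik
  have hEk : T.adj E k = 0 := T.cα.ext_left fun c => by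
    rw [T.α_adj, map_zero, LinearMap.zero_apply]
    obtain ⟨d, hd⟩ := Submodule.mem_span_singleton.1 (hEi ▸ LinearMap.mem_range_self E c)
    rw [← hd, map_smul, hki, smul_zero]
  have hgp : g (τ k x) = τ k x := by
    rw [hE', entry_apply, LinearEquiv.coe_coe] at hEk
    rw [hgv, hEk]; simp
  have hHi : H i ≠ 0 := fun h0 => hH0 (LinearMap.ext fun b => by
    have h1 : H k = 0 := by rw [hH, entry_apply, LinearEquiv.coe_coe, hgp, T.ctr_tau, hxx, zero_smul]
    rw [← hdec b, map_add, map_smul, map_smul, h0, h1, smul_zero, smul_zero, add_zero, LinearMap.zero_apply])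
  -- the three transvections
  set P := α i i with hPdef
  set Q := α k k with hQdef
  have hPσ : σ P = P := T.cα.self_fixed i
  set u := τ i x with hu
  set r := g u with hr
  set p := τ k x with hp
  set π := B r u with hπ
  have huu : B u u = 0 := by rw [hu, T.pair, hxx, mul_zero]
  have hrr : B r r = 0 := by rw [hr, hL.iso hg, huu]
  have hpp : B p p = 0 := by rw [hp, T.pair, hxx, mul_zero]
  have hup : B u p = 0 := by rw [hu, hp, T.pair, hxx, mul_zero]
  have hpu := T.cB.swap_zero hup
  have hrp : B r p = 0 := by rw [hr, ← hgp, hL.iso hg, hup]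
  have hpr := T.cB.swap_zero hrp
  have hur : B u r = σ π := T.cB.flip_apply r u
  obtain ⟨di, hdi⟩ := hHm i
  have hdi0 : di ≠ 0 := fun e => hHi (by rw [hdi, e, zero_smul])
  have hπ0 : π ≠ 0 := by
    rw [hπ, T.cB.flip_apply u r, hr, hu, ← T.α_ctr]
    have e1 : T.ctr x (g (τ i x)) = di • i := hdi
    rw [e1, map_smul, smul_eq_mul]
    simp [hdi0, hP, ← hPdef]
  let Xm : F → (V →ₗ[F] V) := fun s => (s / P) • (B r).smulRight r + (s / Q) • (B p).smulRight p
  let Ym : F → (V →ₗ[F] V) := fun s => (s / P) • (B u).smulRight u + (s / Q) • (B p).smulRight p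
  have hY : ∀ s, s + σ s = 0 → InA L (Ym s) := fun s hs => (T.inA_long hL hxx hs).congr fun v => by
    simp only [Ym, LinearMap.smul_apply, lin_apply, LinearMap.id_apply, LinearMap.add_apply,
      LinearMap.smulRight_apply, smul_smul]
    conv_lhs => rw [← hdec (T.ctr x v)]
    simp only [map_add, map_smul, LinearMap.add_apply, LinearMap.smul_apply, T.α_ctr, smul_add, smul_smul]
    match_scalars <;> ring
  have hX : ∀ s, s + σ s = 0 → InA L (Xm s) := fun s hs => (hY s hs).conj hg fun v => by
    simp only [Xm, Ym, LinearMap.add_apply, LinearMap.smul_apply, LinearMap.smulRight_apply, map_add, map_smul]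
    rw [show B r (g v) = B u v by rw [hr, hL.iso hg], show B p (g v) = B p v by
      have := hL.iso hg p v
      rwa [show g p = p from hgp] at this, show g u = r from rfl, show g p = p from hgp]
  -- the short word
  have hσπ : σ π ≠ 0 := by simpa using hπ0
  have word : ∀ s, s + σ s = 0 → s ≠ 0 → ∀ t, t = -(P * P) / (s * (σ π * π)) → ∃ w ∈ L,
      w u = (s / P * π) • r ∧ w r = (t / P * σ π) • u ∧ w p = p ∧
      ∀ v, B u v = 0 → B r v = 0 → w v = v + ((2 * s + t) / Q * B p v) • p := by
    intro s hs hs0 t ht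
    have hsσ := eq_neg_of_add_eq_zero_right hs
    have htt : t + σ t = 0 := by
      rw [ht, map_div₀, map_neg, map_mul, map_mul, map_mul, hPσ, T.invol, hsσ]
      field_simp
      ring
    obtain ⟨a, ha', hav⟩ := hX s hs
    obtain ⟨b, hb', hbv⟩ := hY t htt
    have key : s / P * π * (t / P * σ π) = -1 := by rw [ht]; field_simp
    have ev : ∀ (c : F) v, B u v = 0 → B r v = 0 → (a (v + (c * B p v) • p) = v + ((c + s / Q) * B p v) • p) ∧
        (b (v + (c * B p v) • p) = v + ((c + t / Q) * B p v) • p) := fun c v h1 h2 => by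
      refine ⟨?_, ?_⟩
      · rw [hav]
        simp only [Xm, LinearMap.add_apply, LinearMap.smul_apply, LinearMap.smulRight_apply, map_add, map_smul, h2,
          hrp, hpp, smul_eq_mul]
        module
      · rw [hbv]
        simp only [Ym, LinearMap.add_apply, LinearMap.smul_apply, LinearMap.smulRight_apply, map_add, map_smul, h1,
          hup, hpp, smul_eq_mul]
        module
    refine ⟨a * b * a, mul_mem (mul_mem ha' hb') ha', ?_, ?_, ?_, fun v h1 h2 => ?_⟩
    · simp only [LinearEquiv.mul_apply, hav, hbv, Xm, Ym, LinearMap.add_apply, LinearMap.smul_apply,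
        LinearMap.smulRight_apply, map_add, map_smul, smul_eq_mul, huu, hrr, hpp, hup, hpu, hrp, hpr, hur, ← hπ]
      match_scalars <;> first | ring1 | linear_combination key | linear_combination (s / P * π) * key
    · simp only [LinearEquiv.mul_apply, hav, hbv, Xm, Ym, LinearMap.add_apply, LinearMap.smul_apply,
        LinearMap.smulRight_apply, map_add, map_smul, smul_eq_mul, huu, hrr, hpp, hup, hpu, hrp, hpr, hur, ← hπ]
      match_scalars <;> first | ring1 | linear_combination key
    · simp only [LinearEquiv.mul_apply, hav, hbv, Xm, Ym, LinearMap.add_apply, LinearMap.smul_apply,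
        LinearMap.smulRight_apply, hup, hrp, hpp, zero_smul, smul_zero, add_zero]
    · have e0 := (ev 0 v h1 h2).1
      rw [zero_mul, zero_smul, add_zero, zero_add] at e0
      rw [LinearEquiv.mul_apply, LinearEquiv.mul_apply, e0, (ev _ v h1 h2).2, (ev _ v h1 h2).1]
      congr 2
      ring
  by_cases hgood : ∃ s, s + σ s = 0 ∧ s ≠ 0 ∧ s * s * (σ π * π) ≠ -(P * P)
  · obtain ⟨s, hs, hs0, hne⟩ := hgood
    obtain ⟨w, hwL, hwu, -, hwp, -⟩ := word s hs hs0 _ rfl
    set m := -(s * s * (σ π * π)) / (P * P) with hm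
    have hsσ := eq_neg_of_add_eq_zero_right hs
    have hm1 : m ≠ 1 := fun e => by
      rw [hm, div_eq_iff (mul_ne_zero hP hP), one_mul] at e
      exact hne (by linear_combination -e)
    have hmσ : σ m = m := by
      rw [hm, map_div₀, map_neg, map_mul, map_mul, map_mul, map_mul, hPσ, hsσ, T.invol]; ring
    obtain ⟨c, hc0, hc⟩ := Herm.exists_trace_zero T.cB.ne_id T.invol
    have hdd : c - c * m + σ (c - c * m) = 0 := by
      rw [map_sub, map_mul, hmσ, eq_neg_of_add_eq_zero_right hc]; ring
    have hcm : -(c * m) + σ (-(c * m)) = 0 := by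
      rw [map_neg, map_mul, hmσ, eq_neg_of_add_eq_zero_right hc]; ring
    -- a transvection at `k ⊗ x`
    have h1 : InA L (((c - c * m) / Q) • (B p).smulRight p) := by
      have h2 : InA L ((c * m / P) • (B r).smulRight r + (c / Q) • (B p).smulRight p) :=
        (hY c hc).conj hwL fun v => by
          have e1 : B r (w v) = (σ (s / P * π))⁻¹ * B u v := by
            have e2 := hL.iso hwL u v
            rw [hwu, LinearMap.map_smulₛₗ, LinearMap.smul_apply, smul_eq_mul] at e2
            rw [← e2, inv_mul_cancel_left₀]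
            simp [hs0, hP, hπ0, hsσ]
          have e3 : B p (w v) = B p v := by conv_lhs => rw [← hwp, hL.iso hwL]
          simp only [Ym, LinearMap.add_apply, LinearMap.smul_apply, LinearMap.smulRight_apply, map_add, map_smul,
            hwu, hwp, e1, e3]
          match_scalars
          · rw [hm, map_mul, map_div₀, hsσ, hPσ]
            field_simp
          · ring
      refine (InA.add (hX _ hcm) h2 fun v => ?_).congr fun v => ?_
      · simp only [Xm, LinearMap.add_apply, LinearMap.smul_apply, LinearMap.smulRight_apply, map_add, map_smul,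
          hrr, hpp, hrp, hpr, smul_eq_mul]
        simp
      · simp only [Xm, LinearMap.add_apply, LinearMap.smul_apply, LinearMap.smulRight_apply]
        module
    set κ := (c - c * m) / Q with hκ
    obtain ⟨d, hd⟩ := hR x (κ • rk α k k) hx hxx (h1.congr fun v => by
      simp [lin_apply, rk_apply, T.α_ctr, hp, smul_smul])
    have h3 := LinearMap.congr_fun hd i
    simp only [LinearMap.smul_apply, rk_apply, hki, zero_smul, smul_zero, LinearMap.id_apply] at h3
    have hd0 : d = 0 := (smul_eq_zero.1 h3.symm).resolve_right hi0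
    have h4 := LinearMap.congr_fun hd k
    simp only [LinearMap.smul_apply, rk_apply, hd0, zero_smul, LinearMap.zero_apply, ← hQdef, smul_smul,
      smul_eq_zero, or_iff_left hk0, mul_eq_zero, or_iff_left hPk, hκ, div_eq_zero_iff] at h4
    refine hm1 (mul_left_cancel₀ hc0 ?_)
    linear_combination -h4
  -- the field with nine elements
  push Not at hgood
  obtain ⟨a₁, ha₁, ha₁0, ha₁1⟩ := ha
  have hsq : ∀ b, σ b = b → b ≠ 0 → b * b = 1 := fun b hb hb0 => by
    have h1 := hgood e he he0
    have h2 := hgood (b * e) (by rw [map_mul, hb, ← mul_add, he, mul_zero]) (mul_ne_zero hb0 he0)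
    have h3 : (b * b - 1) * (P * P) = 0 := by linear_combination (b * b) * h1 - h2
    exact sub_eq_zero.1 ((mul_eq_zero.1 h3).resolve_right (mul_ne_zero hP hP))
  have h20 : (2 : F) ≠ 0 := fun h2 => ha₁1 (by
    have h3 := hsq a₁ ha₁ ha₁0
    have h4 : (a₁ - 1) * (a₁ - 1) = 0 := by linear_combination h3 - (a₁ - 1) * h2
    simpa [sub_eq_zero] using h4)
  have h30 : (3 : F) = 0 := by linear_combination hsq 2 (map_ofNat σ 2) h20
  obtain ⟨w, hwL, hwu, hwr, hwp, hwv⟩ := word e he he0 _ rfl
  have het : -(P * P) / (e * (σ π * π)) = e := by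
    rw [← hgood e he he0]; field_simp
  rw [het] at hwr hwv
  set D := w * w with hD
  have key : e / P * π * (e / P * σ π) = -1 := by
    have := hgood e he he0
    field_simp
    linear_combination this
  have hDu : D u = -u := by
    rw [hD, LinearEquiv.mul_apply, hwu, map_smul, hwr, smul_smul, key, neg_one_smul]
  have hDr : D r = -r := by
    rw [hD, LinearEquiv.mul_apply, hwr, map_smul, hwu, smul_smul,
      show e / P * σ π * (e / P * π) = -1 by linear_combination key, neg_one_smul]
  have hDp : D p = p := by rw [hD, LinearEquiv.mul_apply, hwp, hwp]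
  have hDv : ∀ v, B u v = 0 → B r v = 0 → D v = v := fun v h1 h2 => by
    have e1 := hwv v h1 h2
    have e2 : (2 * e + e) / Q = 0 := by rw [show 2 * e + e = 3 * e by ring, h30, zero_mul, zero_div]
    rw [e2, zero_mul, zero_smul, add_zero] at e1
    rw [hD, LinearEquiv.mul_apply, e1, e1]
  have hrange : ∀ v, ∃ c d : F, D v = v + c • u + d • r := fun v => by
    set v' := v - (B r v / π) • u - (B u v / σ π) • r with hv'
    have h1 : B u v' = 0 := by simp [hv', huu, hur, div_mul_cancel₀ _ hσπ]
    have h2 : B r v' = 0 := by simp [hv', hrr, ← hπ, div_mul_cancel₀ _ hπ0]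
    refine ⟨-2 * (B r v / π), -2 * (B u v / σ π), ?_⟩
    have e : v = v' + (B r v / π) • u + (B u v / σ π) • r := by rw [hv']; abel
    conv_lhs => rw [e, map_add, map_add, map_smul, map_smul, hDu, hDr, hDv v' h1 h2, hv']
    module
  have hset : ∀ b, ∃ c, D (τ b x) = τ c x := fun b => by
    refine ⟨-((α i b / α i i) • i) + (α k b / α k k) • k, ?_⟩
    conv_lhs => rw [← hdec b]
    simp only [map_add, map_smul, LinearMap.add_apply, LinearMap.smul_apply, map_neg, LinearMap.neg_apply]
    rw [← hu, ← hp, hDu, hDp, smul_neg]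
  obtain ⟨P', -, q', -, hpq⟩ := stab hL hR (mul_mem hwL hwL) hx hxx hset
  -- the two eigenspaces
  obtain ⟨x', hx'', hxx'⟩ := T.cβ.exists_partner hx hxx
  obtain ⟨z₀, hz₀, hz₀0⟩ : ∃ z ∈ T.cβ.perp2 x x', z ≠ 0 := by
    refine Submodule.exists_mem_ne_zero_of_ne_bot fun h => ?_
    have := T.cβ.finrank_perp2 x x'
    rw [h, finrank_bot] at this
    omega
  obtain ⟨z, hz, hzz⟩ : ∃ z ∈ T.cβ.perp2 x x', β z z ≠ 0 := by
    obtain ⟨v, hv, hzv⟩ : ∃ v ∈ T.cβ.perp2 x x', β z₀ v ≠ 0 := by
      by_contra h
      push Not at h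
      exact hz₀0 (T.cβ.perp2_nondeg hxx hx'' hxx' hz₀ h)
    exact T.cβ.exists_aniso _ hz₀ hv hzv
  obtain ⟨hxz, hx'z⟩ := T.cβ.mem_perp2.1 hz
  -- the first factor, read on `U ⊗ x`
  set κ₁ := β x' (q' x)
  have hPi : κ₁ • P' i = -i := by
    have h1 := congrArg (T.ctr x') ((hpq i x).symm.trans hDu)
    rwa [T.ctr_tau, map_neg, hu, T.ctr_tau, T.cβ.swap_one hxx', one_smul] at h1
  have hPk' : κ₁ • P' k = k := by
    have h1 := congrArg (T.ctr x') ((hpq k x).symm.trans hDp)
    rwa [T.ctr_tau, hp, T.ctr_tau, T.cβ.swap_one hxx', one_smul] at h1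
  have hκ : κ₁ ≠ 0 := fun e => hk0 (by rw [← hPk', e, zero_smul])
  have hPk2 : P' k = κ₁⁻¹ • k := (eq_inv_smul_iff₀ hκ).2 hPk'
  have hxr : T.ctr x r = di • i := hdi
  have hxu : T.ctr x u = 0 := by rw [hu, T.ctr_tau, hxx, zero_smul]
  have onk : ∀ z, q' z = κ₁ • z := fun z => by
    obtain ⟨c, d, hcd⟩ := hrange (τ k z)
    rw [hpq] at hcd
    have hd : d = 0 := by
      have h1 := congrArg (α i) (congrArg (T.ctr x) hcd)
      simp only [map_add, map_smul, hxr, hxu, T.ctr_tau, smul_zero, add_zero, hik, smul_eq_mul, mul_zero,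
        zero_add, ← hPdef] at h1
      rw [hPk2, map_smul, hik, smul_zero,
        mul_zero] at h1
      simpa [hdi0, hP] using h1.symm
    refine T.cβ.ext_right fun z' => ?_
    have h2 := congrArg (α k) (congrArg (T.ctr z') hcd)
    rw [hd, zero_smul, add_zero] at h2
    simp only [map_add, map_smul, hu, T.ctr_tau, hki, smul_eq_mul, mul_zero, add_zero, ← hQdef] at h2
    rw [hPk2, map_smul, smul_eq_mul,
      ← hQdef] at h2
    rw [map_smul, smul_eq_mul]
    field_simp at h2
    linear_combination h2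
  obtain ⟨c, d, hcd⟩ := hrange (τ i z)
  rw [hpq, onk, map_smul, ← LinearMap.smul_apply, ← map_smul, hPi] at hcd
  have hd : d = 0 := by
    have h1 := congrArg (T.ctr x) hcd
    simp only [map_add, map_smul, hxr, hxu, T.ctr_tau, hxz, zero_smul, smul_zero, add_zero, zero_add, smul_smul] at h1
    simpa [hdi0, hi0] using h1.symm
  have h2 := congrArg (fun v => T.ctr z v) hcd
  simp only [hd, zero_smul, add_zero, map_add, map_smul, hu, T.ctr_tau, T.cβ.swap_zero hxz, smul_zero,
    smul_neg] at h2
  have h3 : (2 * β z z) • i = 0 := by linear_combination (norm := module) -h2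
  exact hi0 ((smul_eq_zero.1 h3).resolve_left (mul_ne_zero h20 hzz))

end Ten

end Cfsg.Lib.Linear.UTensor
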