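import Cfsg.Agent.Lib.Linear.UTensor.Coeff

/-!
# Two times three: an overgroup with a coefficient which is not a scalar

For factors of dimensions two and three, a group containing the stabiliser of the decomposition and a long root
element whose coefficient is not a scalar contains every transvection.
-/

set_option autoImplicit false
set_option linter.unusedSectionVars false

namespace Cfsg.Lib.Linear.UTensor

open Module
open Cfsg.Lib.Linear

variable {F V U W : Type*} [Field F] [Finite F]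
  [AddCommGroup V] [Module F V] [FiniteDimensional F V]
  [AddCommGroup U] [Module F U] [FiniteDimensional F U]
  [AddCommGroup W] [Module F W] [FiniteDimensional F W]
  {σ : F →+* F} {B : V →ₛₗ[σ] V →ₗ[F] F} {α : U →ₛₗ[σ] U →ₗ[F] F} {β : W →ₛₗ[σ] W →ₗ[F] F}
  {τ : U →ₗ[F] W →ₗ[F] V}

namespace Form

variable (C : Form β)
include C

theorem finrank_perp2_eq {x x' : W} (hx : β x x = 0) (hx' : β x' x' = 0) (h : β x x' = 1) :
    finrank F (C.perp2 x x') + 2 = finrank F W := by
  have hs : LinearMap.range ((β x).prod (β x')) = ⊤ := by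
    refine LinearMap.range_eq_top.2 fun ⟨a, b⟩ => ⟨a • x' + b • x, ?_⟩
    simp [hx, hx', h, C.swap_one h]
  have h4 := LinearMap.finrank_range_add_finrank_ker ((β x).prod (β x'))
  rw [hs, finrank_top, Module.finrank_prod, Module.finrank_self, LinearMap.ker_prod] at h4
  unfold perp2
  omega

/-- In dimension three a hyperbolic pair has an anisotropic vector orthogonal to it, spanning the orthogonal. -/
theorem exists_mid (h3 : finrank F W = 3) {x x' : W} (hx : β x x = 0) (hx' : β x' x' = 0) (h : β x x' = 1) :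
    ∃ p, β x p = 0 ∧ β x' p = 0 ∧ β p p ≠ 0 ∧
      ∀ z, z = β x' z • x + β x z • x' + (β p z / β p p) • p := by
  have hd := C.finrank_perp2_eq hx hx' h
  obtain ⟨p, hp, hp0⟩ : ∃ p ∈ C.perp2 x x', p ≠ 0 := by
    refine Submodule.exists_mem_ne_zero_of_ne_bot fun e => ?_
    rw [e, finrank_bot] at hd
    omega
  have hspan : C.perp2 x x' = Submodule.span F {p} := by
    refine (Submodule.eq_of_le_of_finrank_le ((Submodule.span_singleton_le_iff_mem _ _).2 hp) ?_).symm
    rw [finrank_span_singleton hp0]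
    omega
  have hpp : β p p ≠ 0 := fun e => hp0 (C.perp2_nondeg hx hx' h hp fun v hv => by
    rw [hspan, Submodule.mem_span_singleton] at hv
    obtain ⟨c, rfl⟩ := hv
    rw [map_smul, e, smul_zero])
  obtain ⟨h1, h2⟩ := C.mem_perp2.1 hp
  refine ⟨p, h1, h2, hpp, fun z => ?_⟩
  have hz := C.sub_mem_perp2 hx hx' h z
  rw [hspan, Submodule.mem_span_singleton] at hz
  obtain ⟨c, hc⟩ := hz
  have e1 : β p z = c * β p p := by
    have e2 := congrArg (β p) hc
    rw [map_smul, map_sub, map_sub, map_smul, map_smul, C.swap_zero h1, C.swap_zero h2] at e2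
    simpa using e2.symm
  rw [e1, mul_div_cancel_right₀ _ hpp]
  linear_combination (norm := module) -hc

/-- Vectors of equal pairing with a non-zero one under a skew map. -/
theorem exists_skew {u w : W} (hw : w ≠ 0) (h : β u w + β w u = 0) :
    ∃ ω : W →ₗ[F] W, (∀ a b, β (ω a) b = -β a (ω b)) ∧ ω w = u := by
  obtain ⟨d, hd⟩ := C.exists_pairing hw
  have hd1 : β d w = 1 := C.swap_one hd
  refine ⟨(β d).smulRight u - (β u).smulRight d + β u w • (β d).smulRight d, fun a b => ?_,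
    by simp [hd1]⟩
  simp only [LinearMap.add_apply, LinearMap.sub_apply, LinearMap.smul_apply, LinearMap.smulRight_apply,
    map_add, map_sub, map_smul, LinearMap.map_smulₛₗ, smul_eq_mul, ← C.flip_apply]
  linear_combination β a d * β d b * h

/-- A diagonal element of the second factor. -/
theorem exists_diag (hW : finrank F W = 3) {x z w : W} (hxx : β x x = 0) (hzz : β z z = 0) (hxz : β x z = 1)
    (hxw : β x w = 0) (hzw : β z w = 0) (hww : β w w ≠ 0) {k : F} (hk : k ≠ 0) :
    ∃ q ∈ Herm.iso β, LinearEquiv.det q = 1 ∧ q x = k • x ∧ q w = (σ k / k) • w := by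
  have hσk : σ k ≠ 0 := by simpa using hk
  have hzx := C.swap_one hxz
  have hwx := C.swap_zero hxw
  have hwz := C.swap_zero hzw
  have hli : LinearIndependent F ![x, z, w] := Fintype.linearIndependent_iff.2 fun g hg => by
    simp only [Fin.sum_univ_three, Matrix.cons_val_zero, Matrix.cons_val_one, Matrix.cons_val_two,
      Matrix.tail_cons, Matrix.head_cons] at hg
    have h1 := congrArg (β z) hg
    have h2 := congrArg (β x) hg
    have h3 := congrArg (β w) hg
    simp [hxx, hzz, hxz, hzx, hxw, hzw, hwx, hwz, hww] at h1 h2 h3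
    intro i; fin_cases i <;> simp [h1, h2, h3]
  let b := basisOfLinearIndependentOfCardEqFinrank hli (by rw [Fintype.card_fin, hW])
  let c : Fin 3 → F := ![k, (σ k)⁻¹, σ k / k]
  let q' : W →ₗ[F] W := b.constr F fun i => c i • b i
  have hb : ⇑b = ![x, z, w] := coe_basisOfLinearIndependentOfCardEqFinrank _ _
  have hq' : ∀ i, q' (b i) = c i • b i := fun i => b.constr_basis F _ i
  obtain ⟨q, hq, hqq⟩ := C.exists_equiv q' fun u v => by
    have h0 : ∀ i j, β (q' (b i)) (q' (b j)) = β (b i) (b j) := fun i j => by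
      rw [hq', hq', hb]
      fin_cases i <;> fin_cases j <;>
        simp [c, hxx, hzz, hxz, hzx, hxw, hzw, hwx, hwz, C.invol, hk, hσk]
      field_simp
    conv_lhs => rw [← b.sum_repr u, ← b.sum_repr v]
    conv_rhs => rw [← b.sum_repr u, ← b.sum_repr v]
    simp only [map_sum, LinearMap.sum_apply, map_smul, LinearMap.map_smulₛₗ, LinearMap.smul_apply, h0]
  refine ⟨q, hq, Units.ext ?_, ?_, ?_⟩
  · rw [LinearEquiv.coe_det, show (q : W →ₗ[F] W) = q' from LinearMap.ext hqq, ← LinearMap.det_toMatrix b,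
      show LinearMap.toMatrix b b q' = Matrix.diagonal c from Matrix.ext fun i j => by
        rw [LinearMap.toMatrix_apply, hq', map_smul, Basis.repr_self, Matrix.diagonal_apply]
        rcases eq_or_ne i j with rfl | hij
        · simp
        · simp [hij, Ne.symm hij],
      Matrix.det_diagonal, Fin.prod_univ_three, Units.val_one]
    simp [c]
    field_simp
  · have := hq' 0
    rw [hb] at this
    rw [hqq]
    exact this
  · have := hq' 2
    rw [hb] at this
    rw [hqq]
    exact this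

/-- In dimension two an isotropic line is its own orthogonal. -/
theorem mem_line_of_perp (h2 : finrank F W = 2) {e r : W} (he0 : e ≠ 0) (hee : β e e = 0) (h : β e r = 0) :
    ∃ t : F, r = t • e := by
  have hk : LinearMap.ker (β e) = Submodule.span F {e} := by
    refine (Submodule.eq_of_le_of_finrank_le
      ((Submodule.span_singleton_le_iff_mem _ _).2 (LinearMap.mem_ker.2 hee)) ?_).symm
    have h4 := LinearMap.finrank_range_add_finrank_ker (β e)
    have h5 : LinearMap.range (β e) = ⊤ := by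
      obtain ⟨f, hf⟩ := C.exists_pairing he0
      exact LinearMap.range_eq_top.2 fun c => ⟨c • f, by simp [hf]⟩
    rw [h5, finrank_top, Module.finrank_self] at h4
    rw [finrank_span_singleton he0]
    omega
  obtain ⟨t, ht⟩ := Submodule.mem_span_singleton.1 (hk ▸ (LinearMap.mem_ker.2 h : r ∈ LinearMap.ker (β e)))
  exact ⟨t, ht.symm⟩

end Form

namespace Ten

/-- Every transvection with this centre lies in the group. -/
def Ctr (_T : Ten B α β τ) (L : Subgroup (V ≃ₗ[F] V)) (v : V) : Prop := ∀ l : F, l + σ l = 0 → InA L (l • (B v).smulRight v)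

variable {T : Ten B α β τ} {L : Subgroup (V ≃ₗ[F] V)} (hL : Over B α β τ L)
include hL

theorem Ctr.conj {v : V} (h : T.Ctr L v) {g : V ≃ₗ[F] V} (hg : g ∈ L) : T.Ctr L (g v) := fun l hl =>
  (h l hl).conj hg fun z => by
    simp [hL.iso hg v z]

theorem Ctr.of_image {v : V} {g : V ≃ₗ[F] V} (hg : g ∈ L) (h : T.Ctr L (g v)) : T.Ctr L v := by
  have := h.conj hL (inv_mem hg)
  rwa [equiv_inv_apply] at this

theorem InJ.add {ω ω' : U →ₗ[F] U} (h : T.InJ L ω) (h' : T.InJ L ω') : T.InJ L (ω + ω') := fun x hx =>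
  (InA.add (h x hx) (h' x hx) fun v => by rw [T.lin_lin, hx, zero_smul]).congr fun v => by
    simp [lin_apply]

theorem InJ.neg {ω : U →ₗ[F] U} (h : T.InJ L ω) : T.InJ L (-ω) := fun x hx =>
  ((h x hx).neg fun v => by rw [T.lin_lin, hx, zero_smul]).congr fun v => by simp [lin_apply]

theorem InJ.sub {ω ω' : U →ₗ[F] U} (h : T.InJ L ω) (h' : T.InJ L ω') : T.InJ L (ω - ω') := by
  rw [sub_eq_add_neg]; exact h.add hL (h'.neg hL)

theorem InJ.smul {ω : U →ₗ[F] U} (h : T.InJ L ω) {a : F} (ha : σ a = a) : T.InJ L (a • ω) := fun x hx => by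
  by_cases ha0 : a = 0
  · exact InA.zero.congr fun v => by simp [ha0, lin_apply]
  obtain ⟨c, hc⟩ := Herm.exists_norm_fixed T.cB.ne_id T.invol ha0 ha
  refine (h (c • x) (by simp [hx])).congr fun v => ?_
  simp [lin_apply, smul_smul, ← hc, mul_comm c]

theorem InJ.conj {ω : U →ₗ[F] U} (h : T.InJ L ω) {p : U ≃ₗ[F] U} (hp : p ∈ Herm.iso α)
    (hd : LinearEquiv.det p = 1) :
    T.InJ L ((p : U →ₗ[F] U) * ω * ((p⁻¹ : U ≃ₗ[F] U) : U →ₗ[F] U)) := by
  intro x hx
  obtain ⟨k, hk, hkd, hkv⟩ := T.exists_left hp hd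
  have hkc : ∀ z v, T.ctr z (k v) = p (T.ctr z v) := fun z v =>
    LinearMap.congr_fun (T.hom_ext (f := T.ctr z ∘ₗ (k : V →ₗ[F] V)) (g := (p : U →ₗ[F] U) ∘ₗ T.ctr z) fun a w => by
      simp [hkv, T.ctr_tau]) v
  refine (h x hx).conj (hL.pure k hk hkd) fun v => ?_
  simp only [lin_apply, Module.End.mul_apply, LinearEquiv.coe_coe, hkc, equiv_inv_apply, hkv]

variable (hU : finrank F U = 2) (ha : ∃ a : F, σ a = a ∧ a ≠ 0 ∧ a ≠ 1)
include ha

/-- A coefficient of an isotropic line. -/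
theorem exists_inJ_rk {ω : U →ₗ[F] U} (h : T.InJ L ω) (hns : ∀ c : F, ω ≠ c • LinearMap.id) :
    ∃ e, e ≠ 0 ∧ α e e = 0 ∧ ∀ l : F, l + σ l = 0 → T.InJ L (l • rk α e e) := by
  obtain ⟨e, he0, hee, hd⟩ := T.cα.exists_iso_moved T.hU hns
  refine ⟨e, he0, hee, ?_⟩
  obtain ⟨a, haσ, ha0, ha1⟩ := ha
  obtain ⟨y, hy0, hy⟩ := Herm.exists_trace_zero T.cB.ne_id T.invol
  have hX : ∀ c : F, c + σ c = 0 →
      T.InJ L (c • (rk α e e * ω - ω * rk α e e) - (c * c) • (α e (ω e) • rk α e e)) := fun c hc => by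
    obtain ⟨p, hp, hpd, hpv⟩ := T.cα.exists_transv hee hc
    have e1 : c • (rk α e e * ω - ω * rk α e e) - (c * c) • (α e (ω e) • rk α e e) =
        (p : U →ₗ[F] U) * ω * ((p⁻¹ : U ≃ₗ[F] U) : U →ₗ[F] U) - ω := LinearMap.ext fun v => by
      obtain ⟨w, rfl⟩ : ∃ w, p w = v := ⟨p⁻¹ v, equiv_apply_inv p v⟩
      rw [LinearMap.sub_apply, LinearMap.sub_apply, Module.End.mul_apply, Module.End.mul_apply,
        LinearEquiv.coe_coe, LinearEquiv.coe_coe, equiv_inv_apply, hpv, hpv]
      simp only [LinearMap.smul_apply, LinearMap.sub_apply, Module.End.mul_apply, rk_apply, map_add, map_smul, hee]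
      module
    rw [e1]
    exact (h.conj hL hp hpd).sub hL h
  have h1 := (hX (a * y) (by rw [map_mul, haσ, ← mul_add, hy, mul_zero])).sub hL ((hX y hy).smul hL haσ)
  set C := (a - a * a) * (y * y) * α e (ω e) with hC
  have e2 : (a * y) • (rk α e e * ω - ω * rk α e e) - (a * y * (a * y)) • (α e (ω e) • rk α e e) -
      a • (y • (rk α e e * ω - ω * rk α e e) - (y * y) • (α e (ω e) • rk α e e)) = C • rk α e e := by
    rw [hC]; module
  rw [e2] at h1
  have haa : a - a * a ≠ 0 := fun e => by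
    rcases mul_eq_zero.1 (show a * (1 - a) = 0 by linear_combination e) with e | e
    · exact ha0 e
    · exact ha1 (by linear_combination -e)
  have hC0 : C ≠ 0 := mul_ne_zero (mul_ne_zero haa (mul_ne_zero hy0 hy0)) hd
  have hCσ : σ C = -C := by
    obtain ⟨x, -, hx0, hxx⟩ := Herm.exists_iso_ne_zero T.cβ.ne_id T.cβ.invol T.cβ.symm ⊤
      (by rw [finrank_top]; have := T.hW; omega)
    have h2 := adj_long hL hx0 hxx (h1 x hxx)
    have h4 : T.adj (C • rk α e e) = σ C • rk α e e := T.adj_eq fun u v => by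
      simp only [LinearMap.smul_apply, rk_apply, map_smul, LinearMap.map_smulₛₗ, smul_eq_mul, T.invol,
        ← T.cα.flip_apply]
      ring
    rw [h4, ← neg_smul] at h2
    obtain ⟨f, hf⟩ := T.cα.exists_pairing he0
    have h3 := LinearMap.congr_fun h2 f
    simp only [LinearMap.smul_apply, rk_apply, hf, one_smul] at h3
    exact smul_left_injective F he0 h3
  intro l hl
  have h5 := h1.smul hL (a := l / C) (by
    rw [map_div₀, hCσ, eq_neg_of_add_eq_zero_right hl, neg_div_neg_eq])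
  rwa [smul_smul, div_mul_cancel₀ _ hC0] at h5

omit ha in
include hU in
/-- Every isotropic line gives coefficients. -/
theorem inJ_rk {e : U} (he0 : e ≠ 0) (hee : α e e = 0) (h : ∀ l : F, l + σ l = 0 → T.InJ L (l • rk α e e))
    {r : U} (hr : α r r = 0) {l : F} (hl : l + σ l = 0) : T.InJ L (l • rk α r r) := by
  have hlσ := eq_neg_of_add_eq_zero_right hl
  by_cases her : α e r = 0
  · obtain ⟨t, rfl⟩ := T.cα.mem_line_of_perp hU he0 hee her
    have e1 : l • rk α (t • e) (t • e) = (σ t * t * l) • rk α e e := LinearMap.ext fun v => by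
      simp [rk_apply, smul_smul]; ring_nf
    rw [e1]
    exact h _ (by simp only [map_mul, T.invol, hlσ]; ring)
  obtain ⟨ε, hε0, hε⟩ := Herm.exists_trace_zero T.cB.ne_id T.invol
  set k := ε / α e r with hk
  have hk0 : k ≠ 0 := div_ne_zero hε0 her
  have hke : α e (k • r) = ε := by rw [map_smul, smul_eq_mul, hk, div_mul_cancel₀ _ her]
  have hrk : α (k • r) (k • r) = 0 := by simp [hr]
  have hre : α (k • r) e = -ε := by
    rw [T.cα.flip_apply e, hke]; exact eq_neg_of_add_eq_zero_right hε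
  have hw : α (k • r - e) (k • r - e) = 0 := by
    rw [map_sub α (k • r), LinearMap.sub_apply, map_sub (α (k • r)), map_sub (α e), hrk, hre, hke, hee]
    ring
  have hl' : (-ε)⁻¹ + σ (-ε)⁻¹ = 0 := by
    rw [map_inv₀, map_neg, eq_neg_of_add_eq_zero_right hε, neg_neg, inv_neg, neg_add_cancel]
  obtain ⟨p, hp, hd, hpv⟩ := T.cα.exists_transv hw hl'
  have hpe : p e = k • r := by
    rw [hpv, map_sub α (k • r), LinearMap.sub_apply, hre, hee, sub_zero, inv_mul_cancel₀ (neg_ne_zero.2 hε0),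
      one_smul, add_sub_cancel]
  set m := l / (σ k * k) with hm
  have hkk : σ k * k ≠ 0 := mul_ne_zero (by simpa using hk0) hk0
  have h1 := (h m (by
    have e3 : σ (σ k * k) = σ k * k := by rw [map_mul, T.invol, mul_comm]
    rw [map_div₀, e3, hlσ, neg_div]; ring)).conj hL hp hd
  have e1 : (p : U →ₗ[F] U) * (m • rk α e e) * ((p⁻¹ : U ≃ₗ[F] U) : U →ₗ[F] U) = l • rk α r r :=
    LinearMap.ext fun v => by
      obtain ⟨v, rfl⟩ : ∃ w, p w = v := ⟨p⁻¹ v, equiv_apply_inv p v⟩
      simp only [Module.End.mul_apply, LinearEquiv.coe_coe, equiv_inv_apply, LinearMap.smul_apply, rk_apply,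
        map_smul, hpe, smul_smul]
      rw [show α r (p v) = (σ k)⁻¹ * α (k • r) (p v) by
        simp [inv_mul_cancel_left₀ (show σ k ≠ 0 by simpa using hk0)]]
      rw [← hpe, hp e v]
      congr 1
      rw [hm]
      field_simp
  exact e1 ▸ h1

omit ha in
include hU in
/-- Pure isotropic centres with isotropic factors. -/
theorem ctr_pure_iso {e : U} (he0 : e ≠ 0) (hee : α e e = 0) (h : ∀ l : F, l + σ l = 0 → T.InJ L (l • rk α e e))
    {r : U} (hr : α r r = 0) {x : W} (hx : β x x = 0) : T.Ctr L (τ r x) := fun l hl =>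
  (inJ_rk hL hU he0 hee h hr hl x hx).congr fun v => by
    simp [lin_apply, rk_apply, T.α_ctr, smul_smul]

omit ha in
theorem ctr_diag (hW : finrank F W = 3) {x z w : W} (hxx : β x x = 0) (hzz : β z z = 0) (hxz : β x z = 1)
    (hxw : β x w = 0) (hzw : β z w = 0) (hww : β w w ≠ 0) {k : F} (hk : k ≠ 0) {m u : U}
    (h : T.Ctr L (τ m w + τ u x)) : T.Ctr L (τ ((σ k / k) • m) w + τ (k • u) x) := by
  obtain ⟨q, hq, hd, hqx, hqw⟩ := T.cβ.exists_diag hW hxx hzz hxz hxw hzw hww hk
  obtain ⟨g, hg, hgd, hgv⟩ := T.exists_right hq hd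
  have := h.conj hL (hL.pure g hg hgd)
  rw [map_add, hgv, hgv, hqx, hqw] at this
  simpa using this

omit ha in
/-- The product of two commuting transvections. -/
theorem inA_pair {P R : V} {l : F} (hl : l + σ l = 0) (h : T.Ctr L P) (h' : T.Ctr L R) (hPR : B P R = 0) :
    InA L (l • ((B P).smulRight P - (B R).smulRight R)) :=
  (InA.add (h l hl) (h' (-l) (by rw [map_neg]; linear_combination -hl)) fun v => by simp [hPR]).congr fun v => by
    simp
    module

omit ha in
/-- The commutator of products of two commuting transvections. -/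
theorem inJ_comm {x w : W} (hx : x ≠ 0) (hxx : β x x = 0) (hxw : β x w = 0) {m m' u u' : U} {a l : F}
    (hmm : α m m = 0) (hmm' : α m' m' = 0) (hl : l + σ l = 0) (h1 : T.Ctr L (τ m w + τ u x))
    (h2 : T.Ctr L (τ m w + τ (a • u) x)) (h3 : T.Ctr L (τ m' w + τ u' x))
    (h4 : T.Ctr L (τ m' w + τ (a • u') x)) :
    T.InJ L ((l * l * (α m m' * β w w)) • ((1 - σ a) * (1 - a)) • rk α u u' -
      (l * l * (α m' m * β w w)) • ((1 - σ a) * (1 - a)) • rk α u' u) := by
  have hwx := T.cβ.swap_zero hxw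
  have hB : ∀ n n' b b' : U, B (τ n w + τ b x) (τ n' w + τ b' x) = α n n' * β w w := fun n n' b b' => by
    simp [T.pair, hxx, hxw, hwx]
  have hBx : ∀ n b c : U, B (τ n w + τ b x) (τ c x) = 0 := fun n b c => by simp [T.pair, hxx, hwx]
  generalize hP1 : τ m w + τ u x = P₁ at h1
  generalize hP2 : τ m w + τ (a • u) x = P₂ at h2
  generalize hP3 : τ m' w + τ u' x = P₃ at h3
  generalize hP4 : τ m' w + τ (a • u') x = P₄ at h4
  have b11 : B P₁ P₁ = 0 := by rw [← hP1, hB, hmm, zero_mul]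
  have b12 : B P₁ P₂ = 0 := by rw [← hP1, ← hP2, hB, hmm, zero_mul]
  have b21 : B P₂ P₁ = 0 := by rw [← hP1, ← hP2, hB, hmm, zero_mul]
  have b22 : B P₂ P₂ = 0 := by rw [← hP2, hB, hmm, zero_mul]
  have b33 : B P₃ P₃ = 0 := by rw [← hP3, hB, hmm', zero_mul]
  have b34 : B P₃ P₄ = 0 := by rw [← hP3, ← hP4, hB, hmm', zero_mul]
  have b43 : B P₄ P₃ = 0 := by rw [← hP3, ← hP4, hB, hmm', zero_mul]
  have b44 : B P₄ P₄ = 0 := by rw [← hP4, hB, hmm', zero_mul]
  set π := α m m' * β w w
  set π' := α m' m * β w w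
  have b13 : B P₁ P₃ = π := by rw [← hP1, ← hP3, hB]
  have b14 : B P₁ P₄ = π := by rw [← hP1, ← hP4, hB]
  have b23 : B P₂ P₃ = π := by rw [← hP2, ← hP3, hB]
  have b24 : B P₂ P₄ = π := by rw [← hP2, ← hP4, hB]
  have b31 : B P₃ P₁ = π' := by rw [← hP1, ← hP3, hB]
  have b41 : B P₄ P₁ = π' := by rw [← hP1, ← hP4, hB]
  have b32 : B P₃ P₂ = π' := by rw [← hP2, ← hP3, hB]
  have b42 : B P₄ P₂ = π' := by rw [← hP2, ← hP4, hB]
  refine inJ_of_inA hL hx hxx (InA.comm (inA_pair hL hl h1 h2 b12) (inA_pair hL hl h3 h4 b34) ?_ ?_ fun v => ?_)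
  · intro v
    simp [b11, b12, b21, b22]
  · intro v
    simp [b33, b34, b43, b44]
  have d12 : P₁ - P₂ = τ ((1 - a) • u) x := by rw [← hP1, ← hP2]; simp [sub_smul]
  have d34 : P₃ - P₄ = τ ((1 - a) • u') x := by rw [← hP3, ← hP4]; simp [sub_smul]
  have e12 : B P₁ v - B P₂ v = σ (1 - a) * α u (T.ctr x v) := by
    rw [← LinearMap.sub_apply, ← map_sub, d12, ← T.α_ctr]; simp
  have e34 : B P₃ v - B P₄ v = σ (1 - a) * α u' (T.ctr x v) := by
    rw [← LinearMap.sub_apply, ← map_sub, d34, ← T.α_ctr]; simp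
  rw [map_sub, map_one] at e12 e34
  set f := l • ((B P₁).smulRight P₁ - (B P₂).smulRight P₂) with hf
  set h := l • ((B P₃).smulRight P₃ - (B P₄).smulRight P₄) with hh
  have f3 : f P₃ = (l * π * (1 - a)) • τ u x ∧ f P₄ = (l * π * (1 - a)) • τ u x := by
    constructor <;>
    · simp only [hf, LinearMap.smul_apply, LinearMap.sub_apply, LinearMap.smulRight_apply, b13, b14, b23, b24]
      rw [← smul_sub, d12, map_smul, LinearMap.smul_apply, smul_smul, smul_smul, mul_assoc]
  have h1' : h P₁ = (l * π' * (1 - a)) • τ u' x ∧ h P₂ = (l * π' * (1 - a)) • τ u' x := by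
    constructor <;>
    · simp only [hh, LinearMap.smul_apply, LinearMap.sub_apply, LinearMap.smulRight_apply, b31, b32, b41, b42]
      rw [← smul_sub, d34, map_smul, LinearMap.smul_apply, smul_smul, smul_smul, mul_assoc]
  have fh : f (h v) = (l * l * π * (1 - a) * (B P₃ v - B P₄ v)) • τ u x := by
    rw [hh]
    simp only [LinearMap.smul_apply, LinearMap.sub_apply, LinearMap.smulRight_apply, map_smul, map_sub, f3.1, f3.2]
    module
  have hf' : h (f v) = (l * l * π' * (1 - a) * (B P₁ v - B P₂ v)) • τ u' x := by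
    rw [hf]
    simp only [LinearMap.smul_apply, LinearMap.sub_apply, LinearMap.smulRight_apply, map_smul, map_sub, h1'.1, h1'.2]
    module
  have k1 : ∀ b, f (τ b x) = 0 := fun b => by
    simp [hf, ← hP1, ← hP2, T.pair, hxx, hwx]
  have k2 : ∀ b, h (τ b x) = 0 := fun b => by
    simp [hh, ← hP3, ← hP4, T.pair, hxx, hwx]
  rw [fh, hf']
  simp only [map_smul, k1, k2, smul_zero, sub_zero, add_zero, map_zero, e12, e34]
  simp only [lin_apply, LinearMap.sub_apply, LinearMap.smul_apply, rk_apply, map_sub, map_smul, smul_smul]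
  module

variable (hW : finrank F W = 3) (hk3 : ∃ k : F, k ≠ 0 ∧ σ k * σ k * σ k ≠ k * k * k)
include hU hW hk3

/-- A coefficient whose trace does not vanish. -/
theorem exists_inJ_trace {e f : U} (hee : α e e = 0) (hff : α f f = 0) (hef : α e f = 1)
    (hc : ∀ {r : U}, α r r = 0 → ∀ {x : W}, β x x = 0 → T.Ctr L (τ r x)) :
    ∃ ω, T.InJ L ω ∧ α f (ω e) + α e (ω f) ≠ 0 := by
  have hfe := T.cα.swap_one hef
  obtain ⟨ε, hε0, hε⟩ := Herm.exists_trace_zero T.cB.ne_id T.invol
  have hεσ := eq_neg_of_add_eq_zero_right hε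
  obtain ⟨a, haσ, ha0, ha1⟩ := ha
  obtain ⟨x, -, hx0, hxx⟩ := Herm.exists_iso_ne_zero T.cβ.ne_id T.cβ.invol T.cβ.symm ⊤
    (by rw [finrank_top]; omega)
  obtain ⟨z, hzz, hxz⟩ := T.cβ.exists_partner hx0 hxx
  have hzx := T.cβ.swap_one hxz
  obtain ⟨w, hxw, hzw, hww, -⟩ := T.cβ.exists_mid hW hxx hzz hxz
  have hwx := T.cβ.swap_zero hxw
  have hwz := T.cβ.swap_zero hzw
  obtain ⟨d, hd⟩ := Herm.exists_trace_eq T.cB.ne_id T.invol (a := -β w w) (by rw [map_neg, T.cβ.self_fixed])
  set y := z + w + d • x with hy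
  have hyy : β y y = 0 := by
    simp [hy, hzz, hzw, hzx, hwz, hwx, hxz, hxw, hxx]; linear_combination hd
  have hxy : β x y = 1 := by simp [hy, hxz, hxw, hxx]
  -- a centre of mixed type
  have hv0 : T.Ctr L (τ f z + ε • τ e x) := by
    obtain ⟨t, ht, htv⟩ := hc hee hxx ε hε
    have := (hc hff hzz).conj hL ht
    rwa [htv, LinearMap.smul_apply, LinearMap.smulRight_apply, T.pair, hef, hxz, one_mul, one_smul] at this
  set u := ε • e - d • f with hu
  have hv1 : T.Ctr L (τ (-f) w + τ u x) := by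
    have hl : -ε⁻¹ + σ (-ε⁻¹) = 0 := by rw [map_neg, map_inv₀, hεσ, inv_neg, neg_neg, neg_add_cancel]
    obtain ⟨t, ht, htv⟩ := hc hff hyy _ hl
    have h2 := hv0.conj hL ht
    rw [htv] at h2
    convert h2 using 1
    have e1 : β y x = 1 := T.cβ.swap_one hxy
    simp only [LinearMap.smul_apply, LinearMap.smulRight_apply, map_add, map_smul, T.pair, hff, hfe, zero_mul,
      e1, zero_add, one_mul, smul_eq_mul, mul_one, smul_smul, neg_mul, inv_mul_cancel₀ hε0, neg_smul, one_smul,
      hu, map_neg, LinearMap.neg_apply, map_sub, LinearMap.sub_apply]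
    rw [hy]
    simp only [map_add, map_smul]
    match_scalars <;> first | ring1 | (field_simp; ring1)
  have hmm : α (-f) (-f) = 0 := by simp [hff]
  have hv2 : T.Ctr L (τ (-f) w + τ (a • u) x) := by
    have := ctr_diag hL hW hxx hzz hxz hxw hzw hww ha0 hv1
    rwa [haσ, div_self ha0, one_smul] at this
  -- the second pair
  have hd0 : d ≠ 0 := fun e => hww (by rw [e] at hd; simpa using hd)
  have hNd : σ d * d ≠ 0 := mul_ne_zero (by simpa using hd0) hd0
  obtain ⟨l, hl, hl0, hA⟩ : ∃ l, l + σ l = 0 ∧ l ≠ 0 ∧ ε * (d - σ d) - l * (σ d * d) ≠ 0 := by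
    by_cases h : ε * (d - σ d) - ε * (σ d * d) = 0
    · refine ⟨a * ε, by rw [map_mul, haσ, ← mul_add, hε, mul_zero], mul_ne_zero ha0 hε0, fun h' => ha1 ?_⟩
      have h3 : (1 - a) * (ε * (σ d * d)) = 0 := by linear_combination h' - h
      exact (sub_eq_zero.1 ((mul_eq_zero.1 h3).resolve_right (mul_ne_zero hε0 hNd))).symm
    · exact ⟨ε, hε, hε0, h⟩
  obtain ⟨p, hp, hpd, hpv⟩ := T.cα.exists_transv hee hl
  obtain ⟨g, hg, hgd, hgv⟩ := T.exists_left hp hpd
  have left : ∀ n b : U, T.Ctr L (τ n w + τ b x) → T.Ctr L (τ (p n) w + τ (p b) x) := fun n b h => by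
    have := h.conj hL (hL.pure g hg hgd)
    rwa [map_add, hgv, hgv] at this
  have hpa : p (a • u) = a • p u := map_smul p a u
  have second : ∀ k : F, k ≠ 0 → T.InJ L ((ε * ε * (α (-f) ((σ k / k) • p (-f)) * β w w)) •
      ((1 - σ a) * (1 - a)) • rk α u (k • p u) -
      (ε * ε * (α ((σ k / k) • p (-f)) (-f) * β w w)) • ((1 - σ a) * (1 - a)) • rk α (k • p u) u) := by
    intro k hk
    have h3 := ctr_diag hL hW hxx hzz hxz hxw hzw hww hk (left _ _ hv1)
    have h4 := ctr_diag hL hW hxx hzz hxz hxw hzw hww hk (left _ _ hv2)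
    rw [hpa, smul_comm k a] at h4
    refine inJ_comm hL hx0 hxx hxw hmm ?_ hε hv1 hv2 h3 h4
    rw [map_smul, LinearMap.map_smulₛₗ, LinearMap.smul_apply, hp, hmm, smul_zero, smul_zero]
  by_contra hcon
  push Not at hcon
  set Z : F := ε * ε * (l * β w w) * ((1 - a) * (1 - a)) * (ε * (d - σ d) - l * (σ d * d)) with hZ
  have hZ0 : Z ≠ 0 :=
    mul_ne_zero (mul_ne_zero (mul_ne_zero (mul_ne_zero hε0 hε0) (mul_ne_zero hl0 hww))
      (mul_ne_zero (sub_ne_zero.2 (Ne.symm ha1)) (sub_ne_zero.2 (Ne.symm ha1)))) hA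
  have hlσ := eq_neg_of_add_eq_zero_right hl
  have hY : ∀ k : F, k ≠ 0 → Z * (σ k * σ k / k) = σ (Z * (σ k * σ k / k)) := fun k hk => by
    have h := hcon _ (second k hk)
    simp only [LinearMap.sub_apply, LinearMap.smul_apply, rk_apply, map_sub, map_smul, smul_eq_mul, map_neg,
      LinearMap.neg_apply, LinearMap.map_smulₛₗ, LinearMap.smul_apply, hpv, map_add, LinearMap.add_apply, hu,
      hee, hff, hef, hfe, haσ, map_one] at h
    simp only [map_mul, map_sub, map_add, map_neg, map_zero, map_one, map_div₀, hεσ, hlσ, haσ, T.invol] at h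
    simp only [hZ, map_mul, map_div₀, map_sub, map_one, haσ, hεσ, hlσ, T.invol, T.cβ.self_fixed]
    linear_combination h
  obtain ⟨k, hk, hk'⟩ := hk3
  have h1 := hY 1 one_ne_zero
  have h2 := hY k hk
  simp only [map_one, mul_one, div_one] at h1
  rw [map_mul, ← h1, map_div₀, map_mul, T.invol] at h2
  have h3 := mul_left_cancel₀ hZ0 h2
  rw [div_eq_div_iff hk (by simpa using hk)] at h3
  exact hk' (by linear_combination h3)

variable (hR : ¬ T.Losing L)
include hR

/-- Every skew map is a coefficient. -/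
theorem inJ_all {ω : U →ₗ[F] U} (hω : ∀ a b, α (ω a) b = -α a (ω b)) : T.InJ L ω := by
  simp only [Losing] at hR
  push Not at hR
  obtain ⟨x₀, ω₀, hx₀, hx₀0, hω₀, hns⟩ := hR
  obtain ⟨e, he0, hee, hE⟩ := exists_inJ_rk hL ha (inJ_of_inA hL hx₀ hx₀0 hω₀) hns
  obtain ⟨f, hff, hef⟩ := T.cα.exists_partner he0 hee
  have hfe := T.cα.swap_one hef
  obtain ⟨ω₁, hω₁, ht⟩ := exists_inJ_trace hL hU ha hW hk3 hee hff hef fun {_} hr {_} hx =>
    ctr_pure_iso hL hU he0 hee hE hr hx
  have hskew : ∀ {φ : U →ₗ[F] U}, T.InJ L φ → ∀ a b, α (φ a) b = -α a (φ b) := fun {φ} h a b => by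
    rw [← T.α_adj' φ a b, adj_long hL hx₀ hx₀0 (h x₀ hx₀0), LinearMap.neg_apply, map_neg]
  have key : ∀ φ : U →ₗ[F] U, (∀ a b, α (φ a) b = -α a (φ b)) → α f (φ e) + α e (φ f) = 0 → T.InJ L φ := by
    intro φ hφ h0
    obtain ⟨ε, hε0, hε⟩ := Herm.exists_trace_zero T.cB.ne_id T.invol
    have hεσ := eq_neg_of_add_eq_zero_right hε
    have hAσ : σ (α e (φ e)) = -α e (φ e) := by rw [← T.cα.flip_apply, hφ]
    have hCσ : σ (α f (φ f)) = -α f (φ f) := by rw [← T.cα.flip_apply, hφ]
    have hBσ : σ (α f (φ e)) = α f (φ e) := by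
      rw [← T.cα.flip_apply, hφ]; linear_combination -h0
    have hg : α (e + ε • f) (e + ε • f) = 0 := by
      simp [hee, hff, hef, hfe, hεσ]
    set g := e + ε • f with hgdef
    set A := α e (φ e)
    set C := α f (φ f)
    set z := α f (φ e)
    set s := z / (-(ε * ε)) with hs
    have hsσ : σ s = s := by rw [hs, map_div₀, map_neg, map_mul, hBσ, hεσ, neg_mul_neg]
    have h1 : T.InJ L ((C - s * ε) • rk α e e + (A + s * (ε * ε * ε)) • rk α f f + (s * ε) • rk α g g) := by
      refine ((inJ_rk hL hU he0 hee hE hee ?_).add hL (inJ_rk hL hU he0 hee hE hff ?_)).add hL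
        (inJ_rk hL hU he0 hee hE hg ?_)
      · simp only [map_sub, map_mul, hCσ, hsσ, hεσ]; ring
      · simp only [map_add, map_mul, hAσ, hsσ, hεσ]; ring
      · simp only [map_mul, hsσ, hεσ]; ring
    have hz : z = -(ε * ε) * s := by
      rw [hs, mul_div_cancel₀ _ (neg_ne_zero.2 (mul_ne_zero hε0 hε0))]
    have hee' : φ = (C - s * ε) • rk α e e + (A + s * (ε * ε * ε)) • rk α f f + (s * ε) • rk α g g := by
      refine LinearMap.ext_on (T.cα.span_iso he0 hee) ?_
      have hdec : ∀ v, v = α f v • e + α e v • f := fun v => by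
        by_contra hne
        obtain ⟨t, ht⟩ := T.cα.mem_line_of_perp hU he0 hee (r := v - (α f v • e + α e v • f))
          (by simp [hee, hef])
        have := congrArg (α f) ht
        simp [hff, hfe] at this
        exact hne (sub_eq_zero.1 (by rw [ht, ← this, zero_smul]))
      intro v _
      conv_lhs => rw [hdec v, map_add, map_smul, map_smul, hdec (φ e), hdec (φ f)]
      conv_rhs => rw [hdec v]
      simp only [LinearMap.add_apply, LinearMap.smul_apply, rk_apply, map_add, map_smul, hee, hff, hef, hfe, hgdef,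
        LinearMap.map_smulₛₗ, hεσ, smul_eq_mul]
      have h2 : α e (φ f) = -z := by linear_combination h0
      rw [h2, show α f (φ e) = z from rfl, show α f (φ f) = C from rfl, show α e (φ e) = A from rfl, hz]
      match_scalars <;> ring
    exact hee' ▸ h1
  set t := α f (ω e) + α e (ω f) with htdef
  set t₁ := α f (ω₁ e) + α e (ω₁ f) with ht₁
  have hskσ : ∀ {φ : U →ₗ[F] U}, (∀ a b, α (φ a) b = -α a (φ b)) →
      σ (α f (φ e) + α e (φ f)) = -(α f (φ e) + α e (φ f)) := fun {φ} hφ => by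
    rw [map_add, ← T.cα.flip_apply, ← T.cα.flip_apply, hφ, hφ]; ring
  have hsσ : σ (t / t₁) = t / t₁ := by
    rw [map_div₀, hskσ hω, hskσ (hskew hω₁), neg_div_neg_eq]
  have h2 := (key (ω - (t / t₁) • ω₁) (fun a b => by
      simp only [LinearMap.sub_apply, LinearMap.smul_apply, map_sub, map_smul, LinearMap.map_smulₛₗ,
        smul_eq_mul, hsσ, hω, hskew hω₁]
      ring) (by
      simp only [LinearMap.sub_apply, LinearMap.smul_apply, map_sub, map_smul, smul_eq_mul]
      linear_combination -(div_mul_cancel₀ t ht))).add hL (hω₁.smul hL hsσ)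
  rwa [sub_add_cancel] at h2

/-- Pure isotropic centres. -/
theorem ctr_pure {a : U} {x : W} (hx : β x x = 0) : T.Ctr L (τ a x) := fun l hl =>
  (inJ_all hL hU ha hW hk3 hR (ω := l • rk α a a) (fun u v => by
    simp only [LinearMap.smul_apply, rk_apply, map_smul, LinearMap.map_smulₛₗ, smul_eq_mul,
      eq_neg_of_add_eq_zero_right hl, ← T.cα.flip_apply]
    ring) x hx).congr fun v => by simp [lin_apply, rk_apply, T.α_ctr, smul_smul]

/-- Isotropic vectors with contractions killed by an anisotropic vector. -/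
theorem ctr_of_aniso {v : V} (hv : B v v = 0) {ζ : W} (hζ : β ζ ζ ≠ 0) (hζv : T.ctr ζ v = 0) : T.Ctr L v := by
  obtain ⟨x, hx, hx0, hxx⟩ := Herm.exists_iso_ne_zero T.cβ.ne_id T.cβ.invol T.cβ.symm (LinearMap.ker (β ζ))
    (by
      have h4 := LinearMap.finrank_range_add_finrank_ker (β ζ)
      have h5 := Submodule.finrank_le (LinearMap.range (β ζ))
      rw [Module.finrank_self] at h5
      omega)
  have hζx : β ζ x = 0 := hx
  obtain ⟨x', hx'', hxx', hζx'⟩ : ∃ x', β x' x' = 0 ∧ β x x' = 1 ∧ β ζ x' = 0 := by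
    obtain ⟨u, hu⟩ := T.cβ.exists_pairing hx0
    set u' := u - (β ζ u / β ζ ζ) • ζ with hu'
    have h1 : β x u' = 1 := by simp [hu', hu, T.cβ.swap_zero hζx]
    obtain ⟨t, ht⟩ := Herm.exists_trace_eq T.cB.ne_id T.invol (a := -(β u' u')) (by rw [map_neg, T.cβ.self_fixed])
    have h2 : β ζ u' = 0 := by simp [hu', div_mul_cancel₀ _ hζ]
    refine ⟨u' + t • x, ?_, ?_, ?_⟩
    · simp only [map_add, LinearMap.add_apply, LinearMap.map_smulₛₗ, LinearMap.smul_apply, map_smul, smul_eq_mul,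
        hxx, h1, T.cβ.swap_one h1]
      linear_combination ht
    · simp [h1, hxx]
    · simp [h2, hζx]
  obtain ⟨p, hxp, hx'p, hpp, hdec⟩ := T.cβ.exists_mid hW hxx hx'' hxx'
  have hx'x := T.cβ.swap_one hxx'
  set u := T.ctr x' v
  set w := T.ctr x v
  have hp : T.ctr p v = 0 := by
    have h1 := hdec ζ
    rw [T.cβ.swap_zero hζx, T.cβ.swap_zero hζx', zero_smul, zero_smul, zero_add, zero_add] at h1
    have h2 := hζv
    rw [h1, LinearMap.map_smulₛₗ, LinearMap.smul_apply, smul_eq_zero, map_eq_zero, div_eq_zero_iff,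
      or_iff_left hpp] at h2
    refine h2.resolve_left fun e => hζ ?_
    rw [h1, e, zero_div, zero_smul, map_zero]
  have hvd : v = τ u x + τ w x' := T.ctr_ext fun z => by
    conv_lhs => rw [hdec z]
    simp only [map_add, LinearMap.add_apply, LinearMap.map_smulₛₗ, LinearMap.smul_apply, hp, smul_zero, add_zero,
      T.ctr_tau, ← T.cβ.flip_apply]
    rw [show u = T.ctr x' v from rfl, show w = T.ctr x v from rfl]
    module
  by_cases hw : w = 0
  · rw [hvd, hw, map_zero, LinearMap.zero_apply, add_zero]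
    exact ctr_pure hL hU ha hW hk3 hR hxx
  obtain ⟨ω, hω, hωw⟩ := T.cα.exists_skew hw (u := u) (by
    rw [hvd] at hv
    simp only [map_add, LinearMap.add_apply, T.pair, hxx, hx'', hxx', hx'x] at hv
    linear_combination hv)
  obtain ⟨k, hk, hkv⟩ := inJ_all hL hU ha hW hk3 hR hω x hxx
  have h2 := (ctr_pure hL hU ha hW hk3 hR (a := w) hx'').conj hL hk
  rw [hkv, lin_apply, T.ctr_tau, hxx', one_smul, hωw, add_comm, ← hvd] at h2
  exact h2

/-- Every isotropic vector is the centre of transvections in the group. -/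
theorem ctr_all {v : V} (hv : B v v = 0) : T.Ctr L v := by
  obtain ⟨x, -, hx0, hxx⟩ := Herm.exists_iso_ne_zero T.cβ.ne_id T.cβ.invol T.cβ.symm ⊤
    (by rw [finrank_top]; omega)
  obtain ⟨z₀, hz₀, hxz₀⟩ := T.cβ.exists_partner hx0 hxx
  obtain ⟨p₀, hxp₀, hzp₀, hpp₀, -⟩ := T.cβ.exists_mid hW hxx hz₀ hxz₀
  let c : Fin 3 → W := ![x, z₀, p₀]
  have hdep : ¬ LinearIndependent F fun i => T.ctr (c i) v := fun h => by
    have := h.fintype_card_le_finrank
    rw [Fintype.card_fin, hU] at this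
    omega
  obtain ⟨g, hg, i, hi⟩ := Fintype.not_linearIndependent_iff.1 hdep
  set ξ := ∑ j, σ (g j) • c j with hξ
  have hξv : T.ctr ξ v = 0 := by simpa [hξ, T.invol, map_sum] using hg
  have hξ0 : ξ ≠ 0 := fun e => by
    have h1 := congrArg (β x) e
    have h2 := congrArg (β z₀) e
    have h3 := congrArg (β p₀) e
    simp [hξ, c, Fin.sum_univ_three, hxx, hxz₀, T.cβ.swap_one hxz₀, hz₀, hxp₀, hzp₀,
      T.cβ.swap_zero hxp₀, T.cβ.swap_zero hzp₀, hpp₀] at h1 h2 h3
    fin_cases i <;> simp_all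
  by_cases hξξ : β ξ ξ ≠ 0
  · exact ctr_of_aniso hL hU ha hW hk3 hR hv hξξ hξv
  push Not at hξξ
  obtain ⟨z', hz'', hzz'⟩ := T.cβ.exists_partner hξ0 hξξ
  obtain ⟨p, hzp, hz'p, hpp, hdec⟩ := T.cβ.exists_mid hW hξξ hz'' hzz'
  have hz'z := T.cβ.swap_one hzz'
  have hpz := T.cβ.swap_zero hzp
  have hpz' := T.cβ.swap_zero hz'p
  set u := T.ctr z' v
  obtain ⟨m, hm⟩ : ∃ m, m = (β p p)⁻¹ • T.ctr p v := ⟨_, rfl⟩
  have hvd : v = τ u ξ + τ m p := T.ctr_ext fun z => by
    conv_lhs => rw [hdec z]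
    simp only [map_add, LinearMap.add_apply, LinearMap.map_smulₛₗ, LinearMap.smul_apply, hξv, smul_zero, add_zero,
      T.ctr_tau, ← T.cβ.flip_apply, hm, smul_smul, map_div₀, T.cβ.self_fixed, div_eq_mul_inv, map_mul, map_inv₀, RingHom.id_apply]
    rw [show u = T.ctr z' v from rfl]
    module
  by_cases hm0 : m = 0
  · rw [hvd, hm0, map_zero, LinearMap.zero_apply, add_zero]
    exact ctr_pure hL hU ha hW hk3 hR hξξ
  have hmm : α m m = 0 := by
    have h1 := hv
    rw [hvd] at h1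
    simp only [map_add, LinearMap.add_apply, T.pair, hξξ, hzp, hpz, mul_zero, zero_add, add_zero] at h1
    exact (mul_eq_zero.1 h1).resolve_right hpp
  by_cases hmu : α m u = 0
  · obtain ⟨t, ht⟩ := T.cα.mem_line_of_perp hU hm0 hmm hmu
    have hv' : v = τ m (t • ξ + p) := by
      rw [hvd, ht, map_add, map_smul, LinearMap.smul_apply, map_smul]
    obtain ⟨s, hs⟩ := Herm.exists_trace_eq T.cB.ne_id T.invol (a := 1 - σ (σ t / β p p) * (σ t / β p p) * β p p)
      (by simp [T.invol, T.cβ.self_fixed]; field_simp; simp)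
    refine ctr_of_aniso hL hU ha hW hk3 hR hv (ζ := z' - (σ t / β p p) • p + s • ξ) ?_ ?_
    · have e : β (z' - (σ t / β p p) • p + s • ξ) (z' - (σ t / β p p) • p + s • ξ) = 1 := by
        simp only [map_add, map_sub, LinearMap.add_apply, LinearMap.sub_apply, LinearMap.map_smulₛₗ,
          LinearMap.smul_apply, map_smul, smul_eq_mul, hξξ, hz'', hzz', hz'z, hzp, hz'p, hpz, hpz']
        linear_combination hs
      rw [e]; exact one_ne_zero
    · rw [hv', T.ctr_tau]
      simp [hξξ, hz'z, hzp, hz'p, hpz, T.cβ.self_fixed]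
      field_simp
      left; simp [T.invol]
  obtain ⟨ε, hε0, hε⟩ := Herm.exists_trace_zero T.cB.ne_id T.invol
  have hum : α u m ≠ 0 := fun e => hmu (T.cα.swap_zero e)
  set c₀ := ε / α u m with hc₀
  have hu0 : u ≠ 0 := fun e => hum (by rw [e]; simp)
  obtain ⟨ω, hω, hωu⟩ := T.cα.exists_skew hu0 (u := c₀ • m) (by
    rw [LinearMap.map_smulₛₗ, LinearMap.smul_apply, map_smul, smul_eq_mul, smul_eq_mul, hc₀, map_div₀,
      ← T.cα.flip_apply u m, div_mul_cancel₀ _ hmu, div_mul_cancel₀ _ hum]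
    linear_combination hε)
  obtain ⟨k, hk, hkv⟩ := inJ_all hL hU ha hW hk3 hR hω z' hz''
  refine Ctr.of_image hL hk ?_
  set Q := β p p with hQ
  refine ctr_of_aniso hL hU ha hW hk3 hR (by rw [hL.iso hk, hv]) (ζ := Q • ξ - σ c₀ • p) ?_ ?_
  · have e : β (Q • ξ - σ c₀ • p) (Q • ξ - σ c₀ • p) = c₀ * σ c₀ * Q := by
      simp only [map_sub, LinearMap.sub_apply, LinearMap.map_smulₛₗ, LinearMap.smul_apply, map_smul, smul_eq_mul,
        hξξ, hzp, hpz, T.invol, ← hQ]
      ring
    have hc : c₀ ≠ 0 := div_ne_zero hε0 hum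
    rw [e]
    exact mul_ne_zero (mul_ne_zero hc (by simpa using hc)) hpp
  · rw [hkv, lin_apply, hωu]
    have e : T.ctr z' v = u := rfl
    conv_lhs => rw [hvd]
    simp only [map_add, map_smul, LinearMap.smul_apply, T.ctr_tau, map_sub, LinearMap.sub_apply,
      LinearMap.map_smulₛₗ, hξξ, hzz', hzp, hpz, hpz', T.invol, smul_eq_mul, ← hQ,
      (by rw [hQ]; exact T.cβ.self_fixed p : σ Q = Q)]
    module

/-- The group contains all transvections. -/
theorem tvGroup_le : Herm.tvGroup B ≤ L := by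
  rw [Herm.tvGroup, Subgroup.closure_le]
  rintro _ ⟨w, l, h, hw, rfl⟩
  obtain ⟨g, hg, hgv⟩ := ctr_all hL hU ha hW hk3 hR hw l
    (by rw [hw, mul_zero, add_zero] at h; exact h)
  have e : Herm.qrefl w l h = g := LinearEquiv.ext fun z => by
    rw [Herm.qrefl_apply, hgv, LinearMap.smul_apply, LinearMap.smulRight_apply, smul_smul]
  exact e ▸ hg

end Ten

end Cfsg.Lib.Linear.UTensor
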