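import Cfsg.Agent.Lib.Linear.UTensor.Gen

/-!
# The stabiliser of a pure totally isotropic space

In a group with no coefficient but scalars on a long root, an element preserving `U ⊗ x` for an isotropic `x`
respects the decomposition.
-/

set_option autoImplicit false
set_option linter.unusedSectionVars false

namespace Cfsg.Lib.Linear.UTensor

open Module
open Cfsg.Lib.Linear

variable {F V U W : Type*} [Field F] [Finite F]
  [AddCommGroup V] [Module F V] [FiniteDimensional F V]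
  [AddCommGroup U] [Module F U] [FiniteDimensional F U]
  [AddCommGroup W] [Module F W] [FiniteDimensional F W]
  {σ : F →+* F} {B : V →ₛₗ[σ] V →ₗ[F] F} {α : U →ₛₗ[σ] U →ₗ[F] F} {β : W →ₛₗ[σ] W →ₗ[F] F}
  {τ : U →ₗ[F] W →ₗ[F] V}

namespace Ten

variable (T : Ten B α β τ) (L : Subgroup (V ≃ₗ[F] V))
include T

/-- Only scalars occur as coefficients of long root elements. -/
def Losing : Prop :=
  ∀ (x : W) (ω : U →ₗ[F] U), x ≠ 0 → β x x = 0 → InA L (T.lin x x ω) →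
    ∃ d : F, ω = d • LinearMap.id

variable {T L} (hL : Over B α β τ L) (hR : T.Losing L)
include hL hR

omit hR in
theorem ctr_fix {u : V ≃ₗ[F] V} (hu : u ∈ L) {x : W} (h : ∀ a, u (τ a x) = τ a x) (v : V) :
    T.ctr x (u v) = T.ctr x v := by
  have := T.iso_ctr hL hu (p := LinearMap.id) h v
  rwa [T.adj_id] at this

/-- An element inducing a map on `U ⊗ x` induces a multiple of an isometry. -/
theorem line_factor {h : V ≃ₗ[F] V} (hh : h ∈ L) {x : W} (hx : x ≠ 0) (hxx : β x x = 0)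
    (hX : ∀ a, ∃ b, h (τ a x) = τ b x) :
    ∃ p ∈ Herm.iso α, ∃ c : F, c ≠ 0 ∧ (∀ a, h (τ a x) = c • τ (p a) x) ∧
      ∀ v, T.ctr x (h v) = (σ c)⁻¹ • p (T.ctr x v) := by
  obtain ⟨x', -, hxx'⟩ := T.cβ.exists_partner hx hxx
  set ψ : U →ₗ[F] U := T.ctr x' ∘ₗ (h : V →ₗ[F] V) ∘ₗ τ.flip x with hψ
  have hψa : ∀ a, h (τ a x) = τ (ψ a) x := fun a => by
    obtain ⟨b, hb⟩ := hX a
    rw [hb, hψ, LinearMap.comp_apply, LinearMap.comp_apply, LinearMap.flip_apply, LinearEquiv.coe_coe, hb,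
      T.ctr_tau, T.cβ.swap_one hxx', one_smul]
  have hψi : Function.Injective ψ := fun a b hab => T.tau_inj hx (h.injective (by rw [hψa, hψa, hab]))
  have hctr := T.iso_ctr hL hh hψa
  obtain ⟨y, hy0, hy⟩ := Herm.exists_trace_zero T.cB.ne_id T.invol
  obtain ⟨d, hd⟩ := hR x (y • (ψ ∘ₗ T.adj ψ)) hx hxx
    ((T.inA_long hL hxx hy).conj hh fun v => by
      simp only [lin_apply, LinearMap.smul_apply, LinearMap.comp_apply, LinearMap.id_apply, map_smul, hctr, hψa])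
  set l := d / y with hl
  have hψψ : ψ ∘ₗ T.adj ψ = l • LinearMap.id := by
    rw [hl, div_eq_inv_mul, ← smul_smul, ← hd, smul_smul, inv_mul_cancel₀ hy0, one_smul]
  obtain ⟨a₀, ha₀⟩ := T.exists_ne_zero
  have hlσ : σ l = l := by
    have h1 := congrArg (fun φ : U →ₗ[F] U => φ a₀) (congrArg T.adj hψψ)
    simp only [T.adj_comp, T.adj_adj, T.adj_smul, T.adj_id] at h1
    have h2 := congrArg (fun φ : U →ₗ[F] U => φ a₀) hψψ
    simp only [LinearMap.smul_apply, LinearMap.id_apply] at h1 h2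
    exact smul_left_injective F ha₀ (h1.symm.trans h2)
  have hl0 : l ≠ 0 := fun e => by
    obtain ⟨b, hb⟩ : ∃ b, ψ b = a₀ := LinearMap.surjective_of_injective hψi a₀
    obtain ⟨c, hc⟩ := T.cα.exists_pairing ha₀
    have h1 : T.adj ψ c = 0 := hψi (by
      rw [map_zero, ← LinearMap.comp_apply, hψψ, e, zero_smul, LinearMap.zero_apply])
    have h2 := T.α_adj ψ c b
    rw [h1, map_zero, LinearMap.zero_apply, hb, T.cα.swap_one hc] at h2
    exact zero_ne_one h2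
  obtain ⟨c, hc⟩ := Herm.exists_norm_fixed T.cB.ne_id T.invol hl0 hlσ
  have hc0 : c ≠ 0 := fun e => hl0 (by rw [← hc, e]; simp)
  have hσc0 : σ c ≠ 0 := by simpa using hc0
  have h1 : (c⁻¹ • ψ) ∘ₗ T.adj (c⁻¹ • ψ) = LinearMap.id := by
    rw [T.adj_smul, LinearMap.smul_comp, LinearMap.comp_smul, hψψ, smul_smul, smul_smul, map_inv₀, ← hc]
    rw [show c⁻¹ * (σ c)⁻¹ * (σ c * c) = 1 by field_simp, one_smul]
  have h2 : T.adj (c⁻¹ • ψ) ∘ₗ (c⁻¹ • ψ) = LinearMap.id := mul_eq_one_comm.1 (show (c⁻¹ • ψ) * T.adj (c⁻¹ • ψ) = 1 from h1)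
  obtain ⟨p, hp, hpa⟩ := T.cα.exists_equiv (c⁻¹ • ψ) fun a b => by
    rw [← T.α_adj' (c⁻¹ • ψ) a, ← LinearMap.comp_apply (f := T.adj (c⁻¹ • ψ)), h2, LinearMap.id_apply]
  refine ⟨p, hp, c, hc0, fun a => ?_, fun v => ?_⟩
  · rw [hψa, hpa, LinearMap.smul_apply, map_smul, LinearMap.smul_apply, smul_smul, mul_inv_cancel₀ hc0, one_smul]
  · conv_rhs => rw [← hctr v, hpa, LinearMap.smul_apply, ← LinearMap.comp_apply, hψψ, LinearMap.smul_apply,
      LinearMap.id_apply, smul_smul, smul_smul, ← hc]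
    rw [show (σ c)⁻¹ * c⁻¹ * (σ c * c) = 1 by field_simp, one_smul]

/-- An element trivial on `U ⊗ x` and on `(U ⊗ x)⊥` modulo it acts on the second factor. -/
theorem rad_scalar {u : V ≃ₗ[F] V} (hu : u ∈ L) {x : W} (hx : x ≠ 0) (hxx : β x x = 0)
    (hX : ∀ a, u (τ a x) = τ a x) (hperp : ∀ v, T.ctr x v = 0 → ∃ b, u v = v + τ b x) :
    IsProd α β τ u ∧ ∃ Q : W →ₗ[F] W, ∀ a z, u (τ a z) = τ a (Q z) := by
  classical
  obtain ⟨x', -, hxx'⟩ := T.cβ.exists_partner hx hxx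
  have hx'x := T.cβ.swap_one hxx'
  let χ : W → (U →ₗ[F] U) := fun z => T.ctr x' ∘ₗ ((u : V →ₗ[F] V) - LinearMap.id) ∘ₗ τ.flip z
  have hχ : ∀ z, β x z = 0 → ∀ a, u (τ a z) = τ a z + τ (χ z a) x := fun z hz a => by
    obtain ⟨b, hb⟩ := hperp (τ a z) (by rw [T.ctr_tau, hz, zero_smul])
    rw [hb]
    show _ = τ a z + τ (T.ctr x' ((u : V →ₗ[F] V) (τ a z) - τ a z)) x
    rw [LinearEquiv.coe_coe, hb, add_sub_cancel_left, T.ctr_tau, hx'x, one_smul]
  have hfix := T.ctr_fix hL hu hX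
  have hskew : ∀ z, β x z = 0 → ∃ d : F, χ z - T.adj (χ z) = d • LinearMap.id := fun z hz => by
    have hzx := T.cβ.swap_zero hz
    obtain ⟨c, hc⟩ := Herm.exists_trace_eq T.cB.ne_id T.invol (a := -β z z) (by rw [map_neg, T.cβ.self_fixed])
    obtain ⟨E, hE, hEv⟩ := T.inA_eich hL hxx hzx hc
    refine hR x _ hx hxx ⟨u * E * u⁻¹ * E⁻¹, mul_mem (mul_mem (mul_mem hu hE) (inv_mem hu)) (inv_mem hE), fun v => ?_⟩
    obtain ⟨w, rfl⟩ : ∃ w, E (u w) = v :=
      ⟨u⁻¹ (E⁻¹ v), by rw [equiv_apply_inv, equiv_apply_inv]⟩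
    rw [LinearEquiv.mul_apply, equiv_inv_apply, LinearEquiv.mul_apply, equiv_inv_apply, LinearEquiv.mul_apply,
      hEv, hEv]
    have h1 : T.ctr z (u w) = T.ctr z w - T.adj (χ z) (T.ctr x w) := by
      refine T.cα.ext_right fun a => ?_
      rw [T.α_ctr, map_sub, T.α_adj', T.α_ctr, T.α_ctr]
      have h3 := hL.iso hu (τ a z) w
      rw [hχ z hz a, map_add, LinearMap.add_apply, ← T.α_ctr x (u w), hfix, T.α_ctr] at h3
      linear_combination h3
    have hk : T.ctr x (τ (T.ctr x w) z - τ (T.ctr z (u w)) x + c • τ (T.ctr x w) x) = 0 := by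
      simp [T.ctr_tau, hz, hxx]
    simp only [eich_apply, map_add, map_sub, map_smul, hfix, hχ z hz, hX, lin_apply] at hk ⊢
    simp only [h1, map_sub, LinearMap.sub_apply, T.ctr_tau, hz, hxx, zero_smul, map_zero, LinearMap.zero_apply,
      smul_zero, sub_zero, add_zero]
    module
  obtain ⟨t, ht⟩ := T.cB.exists_not_fixed
  have hsc : ∀ z, β x z = 0 → ∃ d : F, χ z = d • LinearMap.id := fun z hz => by
    obtain ⟨d, hd⟩ := hskew z hz
    obtain ⟨e, he⟩ := hskew (t • z) (by rw [map_smul, hz, smul_zero])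
    have hlin : χ (t • z) = t • χ z := LinearMap.ext fun a => by
      simp [χ, LinearMap.flip_apply, map_smul, smul_sub]
    rw [hlin, T.adj_smul] at he
    refine ⟨(e - σ t * d) / (t - σ t), ?_⟩
    have h1 : (t - σ t) • χ z = (e - σ t * d) • LinearMap.id := by
      rw [sub_smul, sub_smul, mul_smul, ← hd, ← he, smul_sub]; abel
    rw [div_eq_inv_mul, mul_smul, ← h1, smul_smul, inv_mul_cancel₀ (sub_ne_zero.2 (Ne.symm ht)), one_smul]
  obtain ⟨a₀, ha₀⟩ := T.exists_ne_zero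
  obtain ⟨b₀, hb₀⟩ := T.cα.exists_pairing ha₀
  let s : W →ₗ[F] F := (α a₀) ∘ₗ T.ctr x' ∘ₗ ((u : V →ₗ[F] V) - LinearMap.id) ∘ₗ τ b₀
  have hs : ∀ z, s z = α a₀ (χ z b₀) := fun z => rfl
  have hus : ∀ z, β x z = 0 → ∀ a, u (τ a z) = τ a z + s z • τ a x := fun z hz a => by
    obtain ⟨d, hd⟩ := hsc z hz
    rw [hχ z hz, hs, hd]
    simp [hb₀]
  obtain ⟨y, hy⟩ := Herm.exists_eq_apply T.cβ.invol T.cβ.ndeg s
  have hyz : ∀ z, β y z = s z := fun z => LinearMap.congr_fun hy z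
  have hyx : β y x = 0 := by
    rw [hyz, hs]
    simp [χ, LinearMap.flip_apply, hX]
  obtain ⟨c, hc⟩ := Herm.exists_trace_eq T.cB.ne_id T.invol (a := -β y y) (by rw [map_neg, T.cβ.self_fixed])
  obtain ⟨E, hEp, hEd, hEv⟩ := T.exists_eich hxx hyx hc
  have hE := hL.pure E hEp hEd
  have hu1 : ∀ z, β x z = 0 → ∀ a, E (u (τ a z)) = τ a z := fun z hz a => by
    rw [hus z hz, hEv, eich_apply]
    simp [T.ctr_tau, hz, hxx, hyx, hyz z]
  have hline : ∀ v, ∃ b, E (u v) - v = τ b x := fun v => by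
    refine T.mem_line hx fun z hz => ?_
    have := T.ctr_fix hL (u := E * u) (mul_mem hE hu) (fun a => hu1 z (T.cβ.swap_zero hz) a) v
    rw [map_sub, ← LinearEquiv.mul_apply, this, sub_self]
  set ω : U →ₗ[F] U := T.ctr x' ∘ₗ (((E * u : V ≃ₗ[F] V) : V →ₗ[F] V) - LinearMap.id) ∘ₗ τ.flip x' with hω
  have hEu : ∀ a z, E (u (τ a z)) = τ a z + β x z • τ (ω a) x := fun a z => by
    have h1 := hu1 (z - β x z • x') (by rw [map_sub, map_smul, hxx', smul_eq_mul, mul_one, sub_self]) a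
    obtain ⟨b, hb⟩ := hline (τ a x')
    have h2 : ω a = b := by
      show T.ctr x' (E (u (τ a x')) - τ a x') = b
      rw [hb, T.ctr_tau, hx'x, one_smul]
    simp only [map_sub, map_smul] at h1
    rw [eq_add_of_sub_eq hb] at h1
    rw [h2]
    linear_combination (norm := module) h1
  obtain ⟨d, hd⟩ := hR x ω hx hxx ⟨E * u, mul_mem hE hu, LinearMap.congr_fun
    (T.hom_ext (f := ((E * u : V ≃ₗ[F] V) : V →ₗ[F] V)) (g := LinearMap.id + T.lin x x ω) fun a z => by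
      rw [LinearEquiv.coe_coe, LinearEquiv.mul_apply, hEu, LinearMap.add_apply, LinearMap.id_apply, T.lin_tau])⟩
  have hQ' : ∀ a z, (E * u) (τ a z) = τ a ((LinearMap.id + (d • β x).smulRight x : W →ₗ[F] W) z) := fun a z => by
    rw [LinearEquiv.mul_apply, hEu, hd]
    simp [smul_smul, mul_comm d]
  have hprod : IsProd α β τ u := by
    have h1 := T.isProd_of (hL.iso (mul_mem hE hu)) LinearMap.id _ hQ'
    have h2 := hEp.inv.mul h1
    rwa [inv_mul_cancel_left] at h2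
  refine ⟨hprod, ?_⟩
  -- an element acting trivially on the first factor at one vector acts trivially at all
  obtain ⟨p, -, q, hq, hpq⟩ := hprod
  have hqx : ∃ e : F, e ≠ 0 ∧ q x = e • x := by
    obtain ⟨f, hf⟩ := T.cα.exists_pairing (show p⁻¹ a₀ ≠ 0 from fun h => ha₀ (by
      rw [← equiv_apply_inv p a₀, h, map_zero]))
    obtain ⟨x₁, hx₁⟩ := T.cβ.exists_pairing hx
    refine ⟨β x₁ (q x), fun h => ?_, ?_⟩
    · have h1 := congrArg (T.ctr x₁) ((hX b₀).symm.trans (hpq b₀ x))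
      rw [T.ctr_tau, T.ctr_tau, T.cβ.swap_one hx₁, h, one_smul, zero_smul] at h1
      rw [h1, map_zero] at hb₀
      exact zero_ne_one hb₀
    · have h1 := hX (p⁻¹ b₀)
      rw [hpq, equiv_apply_inv] at h1
      have h2 : ∀ z, β z (q x) • b₀ = β z x • (p⁻¹ b₀) := fun z => by
        rw [← T.ctr_tau, h1, T.ctr_tau]
      refine T.cβ.ext_right fun z => ?_
      have h3 := h2 x₁
      rw [T.cβ.swap_one hx₁, one_smul] at h3
      have h4 := h2 z
      rw [← h3, smul_smul] at h4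
      rw [map_smul, smul_eq_mul]
      refine smul_left_injective F (fun e : b₀ = 0 => ?_) (h4.trans (by rw [mul_comm]))
      rw [e, map_zero] at hb₀
      exact zero_ne_one hb₀
  obtain ⟨e, he0, he⟩ := hqx
  refine ⟨e⁻¹ • (q : W →ₗ[F] W), fun a z => ?_⟩
  have h1 : p a = e⁻¹ • a := T.tau_inj hx (by
    have := hX a
    rw [hpq, he, map_smul] at this
    rw [map_smul, LinearMap.smul_apply]
    conv_rhs => rw [← this]
    rw [smul_smul, inv_mul_cancel₀ he0, one_smul])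
  rw [hpq, h1]
  simp

end Ten

end Cfsg.Lib.Linear.UTensor
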