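import Cfsg.Agent.Lib.Linear.UTensor.Base

/-!
# A space decomposed as a product of two Hermitian spaces

The contraction against a vector of the second factor, the elementary maps it gives, and the isometries
respecting the decomposition.
-/

set_option autoImplicit false
set_option linter.unusedSectionVars false

namespace Cfsg.Lib.Linear.UTensor

open Module
open Cfsg.Lib.Linear

variable {F V U W : Type*} [Field F] [Finite F]
  [AddCommGroup V] [Module F V] [FiniteDimensional F V]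
  [AddCommGroup U] [Module F U] [FiniteDimensional F U]
  [AddCommGroup W] [Module F W] [FiniteDimensional F W]
  {σ : F →+* F} {B : V →ₛₗ[σ] V →ₗ[F] F} {α : U →ₛₗ[σ] U →ₗ[F] F} {β : W →ₛₗ[σ] W →ₗ[F] F}
  {τ : U →ₗ[F] W →ₗ[F] V}

/-- The space is the product of two Hermitian spaces. -/
structure Ten (B : V →ₛₗ[σ] V →ₗ[F] F) (α : U →ₛₗ[σ] U →ₗ[F] F) (β : W →ₛₗ[σ] W →ₗ[F] F)
    (τ : U →ₗ[F] W →ₗ[F] V) : Prop where
  cB : Form B
  cα : Form α
  cβ : Form β
  pair : ∀ a x b y, B (τ a x) (τ b y) = α a b * β x y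
  span : Submodule.span F (Set.range fun p : U × W => τ p.1 p.2) = ⊤
  hU : 2 ≤ finrank F U
  hW : 3 ≤ finrank F W
  hn : finrank F V = finrank F U * finrank F W
  tens : ∀ (p : U ≃ₗ[F] U) (q : W ≃ₗ[F] W), ∃ g : V ≃ₗ[F] V, (∀ a x, g (τ a x) = τ (p a) (q x)) ∧
    (LinearEquiv.det g : F) = (LinearEquiv.det p : F) ^ finrank F W * (LinearEquiv.det q : F) ^ finrank F U

namespace Ten

variable (T : Ten B α β τ)
include T

theorem invol (a : F) : σ (σ a) = a := T.cB.invol a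

theorem exists_ne_zero : ∃ a : U, a ≠ 0 := by
  have : Nontrivial U := Module.finrank_pos_iff.1 (by have := T.hU; omega : 0 < finrank F U)
  exact exists_ne 0

theorem exists_ne_zero' : ∃ x : W, x ≠ 0 := by
  have : Nontrivial W := Module.finrank_pos_iff.1 (by have := T.hW; omega : 0 < finrank F W)
  exact exists_ne 0

theorem hom_ext {X : Type*} [AddCommGroup X] [Module F X] {f g : V →ₗ[F] X}
    (h : ∀ a x, f (τ a x) = g (τ a x)) : f = g :=
  LinearMap.ext_on T.span (by rintro _ ⟨p, rfl⟩; exact h p.1 p.2)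

theorem equiv_ext {f g : V ≃ₗ[F] V} (h : ∀ a x, f (τ a x) = g (τ a x)) : f = g :=
  LinearEquiv.ext (LinearMap.congr_fun (T.hom_ext (f := (f : V →ₗ[F] V)) (g := (g : V →ₗ[F] V)) h))

/-! ## Contraction -/

theorem exists_ctr (x : W) (v : V) : ∃ u : U, ∀ c, α c u = B (τ c x) v := by
  obtain ⟨u, hu⟩ := Herm.exists_eq_apply T.cα.invol T.cα.ndeg ((B v) ∘ₗ τ.flip x)
  exact ⟨u, fun c => by
    rw [T.cα.flip_apply u c, hu, LinearMap.comp_apply, LinearMap.flip_apply, ← T.cB.flip_apply]⟩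

theorem ctr_unique {x : W} {v : V} {u u' : U} (h : ∀ c, α c u = B (τ c x) v)
    (h' : ∀ c, α c u' = B (τ c x) v) : u = u' :=
  T.cα.ext_right fun c => (h c).trans (h' c).symm

/-- The contraction against a vector of the second factor. -/
noncomputable def ctr : W →ₛₗ[σ] V →ₗ[F] U :=
  LinearMap.mk₂'ₛₗ σ (RingHom.id F) (fun x v => Classical.choose (T.exists_ctr x v))
    (fun x x' v => T.ctr_unique (Classical.choose_spec (T.exists_ctr (x + x') v)) fun c => by
      rw [map_add, map_add, map_add, LinearMap.add_apply, Classical.choose_spec (T.exists_ctr x v),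
        Classical.choose_spec (T.exists_ctr x' v)])
    (fun t x v => T.ctr_unique (Classical.choose_spec (T.exists_ctr (t • x) v)) fun c => by
      rw [map_smul, map_smul, LinearMap.map_smulₛₗ, LinearMap.smul_apply,
        Classical.choose_spec (T.exists_ctr x v)])
    (fun x v v' => T.ctr_unique (Classical.choose_spec (T.exists_ctr x (v + v'))) fun c => by
      rw [map_add, map_add, Classical.choose_spec (T.exists_ctr x v),
        Classical.choose_spec (T.exists_ctr x v')])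
    (fun t x v => T.ctr_unique (Classical.choose_spec (T.exists_ctr x (t • v))) fun c => by
      rw [RingHom.id_apply, map_smul, map_smul, Classical.choose_spec (T.exists_ctr x v)])

theorem α_ctr (x : W) (v : V) (c : U) : α c (T.ctr x v) = B (τ c x) v :=
  Classical.choose_spec (T.exists_ctr x v) c

theorem ctr_α (x : W) (v : V) (c : U) : α (T.ctr x v) c = B v (τ c x) := by
  rw [T.cα.flip_apply c, T.α_ctr, ← T.cB.flip_apply]

theorem ctr_tau (z : W) (a : U) (x : W) : T.ctr z (τ a x) = β z x • a :=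
  T.cα.ext_right fun c => by rw [T.α_ctr, T.pair, map_smul, smul_eq_mul, mul_comm]

theorem eq_zero {v : V} (h : ∀ z, T.ctr z v = 0) : v = 0 := by
  refine T.cB.ndeg.1 v fun u => ?_
  refine LinearMap.congr_fun (T.hom_ext (f := B v) (g := 0) fun a x => ?_) u
  rw [← T.ctr_α, h, map_zero, LinearMap.zero_apply, LinearMap.zero_apply]

theorem ctr_ext {u v : V} (h : ∀ z, T.ctr z u = T.ctr z v) : u = v :=
  sub_eq_zero.1 (T.eq_zero fun z => by rw [map_sub, h, sub_self])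

theorem tau_eq_zero {a : U} {x : W} (h : τ a x = 0) (hx : x ≠ 0) : a = 0 := by
  obtain ⟨y, hy⟩ := T.cβ.exists_pairing hx
  have := congrArg (T.ctr y) h
  rwa [map_zero, T.ctr_tau, T.cβ.swap_one hy, one_smul] at this

theorem tau_inj {a b : U} {x : W} (hx : x ≠ 0) (h : τ a x = τ b x) : a = b :=
  sub_eq_zero.1 (T.tau_eq_zero (by rw [map_sub, LinearMap.sub_apply, h, sub_self]) hx)

/-- A vector killed by the contractions orthogonal to `x` lies in the line of `x`. -/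
theorem mem_line {x : W} (hx : x ≠ 0) {v : V} (h : ∀ z, β z x = 0 → T.ctr z v = 0) :
    ∃ a, v = τ a x := by
  obtain ⟨x₁, hx₁⟩ := T.cβ.exists_pairing hx
  refine ⟨T.ctr x₁ v, T.ctr_ext fun z => ?_⟩
  rw [T.ctr_tau]
  have h1 : β (z - σ (β z x) • x₁) x = 0 := by
    rw [map_sub, LinearMap.sub_apply, LinearMap.map_smulₛₗ, LinearMap.smul_apply, T.invol,
      T.cβ.swap_one hx₁, smul_eq_mul, mul_one, sub_self]
  have h2 := h _ h1
  rwa [map_sub, LinearMap.sub_apply, LinearMap.map_smulₛₗ, LinearMap.smul_apply, T.invol,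
    sub_eq_zero] at h2

/-! ## Elementary maps -/

/-- `v ↦ φ(contraction against y) ⊗ x`. -/
noncomputable def lin (x y : W) (φ : U →ₗ[F] U) : V →ₗ[F] V := τ.flip x ∘ₗ φ ∘ₗ T.ctr y

theorem lin_apply (x y : W) (φ : U →ₗ[F] U) (v : V) : T.lin x y φ v = τ (φ (T.ctr y v)) x := rfl

theorem lin_tau (x y : W) (φ : U →ₗ[F] U) (a : U) (z : W) :
    T.lin x y φ (τ a z) = β y z • τ (φ a) x := by
  rw [lin_apply, T.ctr_tau, map_smul, map_smul, LinearMap.smul_apply]

theorem lin_lin (x y x' y' : W) (φ ψ : U →ₗ[F] U) (v : V) :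
    T.lin x y φ (T.lin x' y' ψ v) = β y x' • T.lin x y' (φ ∘ₗ ψ) v := by
  simp only [lin_apply, T.ctr_tau, map_smul, LinearMap.smul_apply, LinearMap.comp_apply]

theorem exists_adj (φ : U →ₗ[F] U) (a : U) : ∃ u, α u = α a ∘ₗ φ :=
  Herm.exists_eq_apply T.cα.invol T.cα.ndeg _

theorem adj_unique {φ : U →ₗ[F] U} {a u : U} (h : α u = α a ∘ₗ φ) :
    Classical.choose (T.exists_adj φ a) = u :=
  T.cα.ext_left fun c => by rw [Classical.choose_spec (T.exists_adj φ a), h]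

/-- The adjoint for the form of the first factor. -/
noncomputable def adj (φ : U →ₗ[F] U) : U →ₗ[F] U where
  toFun a := Classical.choose (T.exists_adj φ a)
  map_add' a b := T.adj_unique (LinearMap.ext fun c => by
    simp [Classical.choose_spec (T.exists_adj φ a), Classical.choose_spec (T.exists_adj φ b)])
  map_smul' t a := T.adj_unique (LinearMap.ext fun c => by
    simp [Classical.choose_spec (T.exists_adj φ a)])

theorem α_adj (φ : U →ₗ[F] U) (a b : U) : α (T.adj φ a) b = α a (φ b) :=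
  LinearMap.congr_fun (Classical.choose_spec (T.exists_adj φ a)) b

theorem α_adj' (φ : U →ₗ[F] U) (a b : U) : α a (T.adj φ b) = α (φ a) b := by
  rw [T.cα.flip_apply (T.adj φ b), T.α_adj, ← T.cα.flip_apply]

theorem adj_eq {φ ψ : U →ₗ[F] U} (h : ∀ a b, α (ψ a) b = α a (φ b)) : T.adj φ = ψ :=
  LinearMap.ext fun a => T.cα.ext_left fun b => by rw [T.α_adj, h]

theorem adj_adj (φ : U →ₗ[F] U) : T.adj (T.adj φ) = φ :=
  T.adj_eq fun a b => (T.α_adj' φ a b).symm

theorem adj_id : T.adj LinearMap.id = LinearMap.id := T.adj_eq fun _ _ => rfl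

theorem adj_zero : T.adj (0 : U →ₗ[F] U) = 0 := T.adj_eq fun _ _ => by simp

theorem adj_add (φ ψ : U →ₗ[F] U) : T.adj (φ + ψ) = T.adj φ + T.adj ψ :=
  T.adj_eq fun a b => by simp [T.α_adj]

theorem adj_sub (φ ψ : U →ₗ[F] U) : T.adj (φ - ψ) = T.adj φ - T.adj ψ :=
  T.adj_eq fun a b => by simp [T.α_adj]

theorem adj_smul (t : F) (φ : U →ₗ[F] U) : T.adj (t • φ) = σ t • T.adj φ :=
  T.adj_eq fun a b => by simp [T.α_adj, T.invol]

theorem adj_comp (φ ψ : U →ₗ[F] U) : T.adj (φ ∘ₗ ψ) = T.adj ψ ∘ₗ T.adj φ :=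
  T.adj_eq fun a b => by simp [T.α_adj]

theorem B_lin (x y : W) (φ : U →ₗ[F] U) (v w : V) :
    B (T.lin x y φ v) w = B v (T.lin y x (T.adj φ) w) := by
  rw [lin_apply, lin_apply, ← T.α_ctr, ← T.α_adj', ← T.ctr_α]

/-- The short map of two vectors of the second factor. -/
noncomputable def sh (x y : W) (φ : U →ₗ[F] U) : V →ₗ[F] V :=
  T.lin x y φ - T.lin y x (T.adj φ)

theorem sh_apply (x y : W) (φ : U →ₗ[F] U) (v : V) :
    T.sh x y φ v = τ (φ (T.ctr y v)) x - τ (T.adj φ (T.ctr x v)) y := rfl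

end Ten

/-- An isometry acting on each factor. -/
def IsProd (α : U →ₛₗ[σ] U →ₗ[F] F) (β : W →ₛₗ[σ] W →ₗ[F] F) (τ : U →ₗ[F] W →ₗ[F] V) (g : V ≃ₗ[F] V) :
    Prop :=
  ∃ p ∈ Herm.iso α, ∃ q ∈ Herm.iso β, ∀ a x, g (τ a x) = τ (p a) (q x)

theorem IsProd.mul {g h : V ≃ₗ[F] V} (hg : IsProd α β τ g) (hh : IsProd α β τ h) :
    IsProd α β τ (g * h) := by
  obtain ⟨p, hp, q, hq, hg⟩ := hg
  obtain ⟨p', hp', q', hq', hh⟩ := hh
  exact ⟨p * p', mul_mem hp hp', q * q', mul_mem hq hq', fun a x => by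
    rw [LinearEquiv.mul_apply, hh, hg]; rfl⟩

theorem IsProd.one : IsProd α β τ (1 : V ≃ₗ[F] V) :=
  ⟨1, one_mem _, 1, one_mem _, fun _ _ => rfl⟩

theorem IsProd.inv {g : V ≃ₗ[F] V} (hg : IsProd α β τ g) : IsProd α β τ g⁻¹ := by
  obtain ⟨p, hp, q, hq, hg⟩ := hg
  refine ⟨p⁻¹, inv_mem hp, q⁻¹, inv_mem hq, fun a x => g.injective ?_⟩
  rw [hg, ← LinearEquiv.mul_apply, mul_inv_cancel]
  show τ a x = τ (p (p⁻¹ a)) (q (q⁻¹ x))
  rw [← LinearEquiv.mul_apply, ← LinearEquiv.mul_apply, mul_inv_cancel, mul_inv_cancel]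
  rfl

namespace Ten

variable (T : Ten B α β τ)
include T

theorem mem_iso_of_tau {g : V ≃ₗ[F] V}
    (h : ∀ a x b y, B (g (τ a x)) (g (τ b y)) = B (τ a x) (τ b y)) : g ∈ Herm.iso B := by
  have h1 : ∀ a x v, B (g (τ a x)) (g v) = B (τ a x) v := fun a x v =>
    LinearMap.congr_fun (T.hom_ext (f := B (g (τ a x)) ∘ₗ (g : V →ₗ[F] V)) (g := B (τ a x)) fun b y => h a x b y) v
  intro u v
  have h2 : ∀ a x, B (g v) (g (τ a x)) = B v (τ a x) := fun a x => by
    rw [T.cB.flip_apply (g (τ a x)), h1, ← T.cB.flip_apply]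
  rw [T.cB.flip_apply (g v), T.cB.flip_apply v u]
  congr 1
  exact LinearMap.congr_fun (T.hom_ext (f := B (g v) ∘ₗ (g : V →ₗ[F] V)) (g := B v) h2) u

theorem mem_iso_of_isProd {g : V ≃ₗ[F] V} (hg : IsProd α β τ g) : g ∈ Herm.iso B := by
  obtain ⟨p, hp, q, hq, hg⟩ := hg
  exact T.mem_iso_of_tau fun a x b y => by rw [hg, hg, T.pair, T.pair, hp, hq]

/-- An isometry acting on pure vectors factorwise is a product of isometries. -/
theorem isProd_of {g : V ≃ₗ[F] V} (hg : g ∈ Herm.iso B) (p : U →ₗ[F] U) (q : W →ₗ[F] W)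
    (h : ∀ a x, g (τ a x) = τ (p a) (q x)) : IsProd α β τ g := by
  have key : ∀ a x b y, α (p a) (p b) * β (q x) (q y) = α a b * β x y := fun a x b y => by
    rw [← T.pair, ← h, ← h, hg, T.pair]
  obtain ⟨x₀, hx₀⟩ := T.exists_ne_zero'
  obtain ⟨y₀, hxy⟩ := T.cβ.exists_pairing hx₀
  obtain ⟨a₀, ha₀⟩ := T.exists_ne_zero
  obtain ⟨b₀, hab⟩ := T.cα.exists_pairing ha₀
  obtain ⟨a₁, -, ha₁⟩ := T.cα.exists_aniso ⊤ (u := a₀) (v := b₀) trivial trivial
    (by rw [hab]; exact one_ne_zero)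
  set l := β (q x₀) (q y₀) with hl
  have h1 : ∀ a b, α (p a) (p b) * l = α a b := fun a b => by rw [hl, key, hxy, mul_one]
  have hl0 : l ≠ 0 := fun e => by
    have := h1 a₀ b₀
    rw [e, mul_zero, hab] at this
    exact zero_ne_one this
  have hlσ : σ l = l := by
    have h2 := congrArg σ (h1 a₁ a₁)
    rw [map_mul, T.cα.self_fixed, T.cα.self_fixed, ← h1 a₁ a₁] at h2
    exact mul_left_cancel₀ (fun e => ha₁ (by rw [← h1 a₁ a₁, e, zero_mul])) h2
  obtain ⟨c, hc⟩ := Herm.exists_norm_fixed T.cB.ne_id T.invol hl0 hlσ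
  have hc0 : c ≠ 0 := fun e => hl0 (by rw [← hc, e]; simp)
  have hσc0 : σ c ≠ 0 := by simpa using hc0
  obtain ⟨P, hP, hPa⟩ := T.cα.exists_equiv (c • p) fun a b => by
    simp only [LinearMap.smul_apply, LinearMap.map_smulₛₗ, map_smul, smul_eq_mul]
    linear_combination (α (p a) (p b)) * hc + h1 a b
  obtain ⟨Q, hQ, hQx⟩ := T.cβ.exists_equiv (c⁻¹ • q) fun x y => by
    have h2 := key a₀ x b₀ y
    have h3 := h1 a₀ b₀
    rw [hab] at h2 h3
    have h4 : β (q x) (q y) = l * β x y := by linear_combination l * h2 - β (q x) (q y) * h3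
    simp only [LinearMap.smul_apply, LinearMap.map_smulₛₗ, map_smul, smul_eq_mul, h4, map_inv₀]
    rw [← hc]
    field_simp
  exact ⟨P, hP, Q, hQ, fun a x => by
    rw [h, hPa, hQx, LinearMap.smul_apply, LinearMap.smul_apply, map_smul, map_smul, LinearMap.smul_apply,
      smul_smul, inv_mul_cancel₀ hc0, one_smul]⟩

/-- The element acting by `q` on the second factor. -/
theorem exists_right {q : W ≃ₗ[F] W} (hq : q ∈ Herm.iso β) (hd : LinearEquiv.det q = 1) :
    ∃ g : V ≃ₗ[F] V, IsProd α β τ g ∧ LinearEquiv.det g = 1 ∧ ∀ a x, g (τ a x) = τ a (q x) := by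
  obtain ⟨g, hg, hdet⟩ := T.tens 1 q
  exact ⟨g, ⟨1, one_mem _, q, hq, hg⟩, Units.ext (by rw [hdet, hd, map_one]; simp), hg⟩

/-- The element acting by `p` on the first factor. -/
theorem exists_left {p : U ≃ₗ[F] U} (hp : p ∈ Herm.iso α) (hd : LinearEquiv.det p = 1) :
    ∃ g : V ≃ₗ[F] V, IsProd α β τ g ∧ LinearEquiv.det g = 1 ∧ ∀ a x, g (τ a x) = τ (p a) x := by
  obtain ⟨g, hg, hdet⟩ := T.tens p 1
  exact ⟨g, ⟨p, hp, 1, one_mem _, hg⟩, Units.ext (by rw [hdet, hd, map_one]; simp), hg⟩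

end Ten

/-! ## Maps whose translates lie in a group -/

/-- `1 + f` lies in the group. -/
def InA (L : Subgroup (V ≃ₗ[F] V)) (f : V →ₗ[F] V) : Prop := ∃ g ∈ L, ∀ v, g v = v + f v

variable {L : Subgroup (V ≃ₗ[F] V)} {f h c : V →ₗ[F] V}

theorem equiv_inv_apply (g : V ≃ₗ[F] V) (v : V) : g⁻¹ (g v) = v := by
  rw [← LinearEquiv.mul_apply, inv_mul_cancel]; rfl

theorem equiv_apply_inv (g : V ≃ₗ[F] V) (v : V) : g (g⁻¹ v) = v := by
  rw [← LinearEquiv.mul_apply, mul_inv_cancel]; rfl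

theorem InA.congr (hf : InA L f) (e : ∀ v, f v = c v) : InA L c := by
  obtain ⟨g, hg, hgf⟩ := hf
  exact ⟨g, hg, fun v => by rw [hgf, e]⟩

theorem InA.zero : InA L (0 : V →ₗ[F] V) := ⟨1, L.one_mem, fun v => by simp⟩

theorem InA.add (hf : InA L f) (hh : InA L h) (e : ∀ v, f (h v) = 0) : InA L (f + h) := by
  obtain ⟨g, hg, hgf⟩ := hf
  obtain ⟨g', hg', hgh⟩ := hh
  refine ⟨g * g', L.mul_mem hg hg', fun v => ?_⟩
  rw [LinearEquiv.mul_apply, hgh, hgf, map_add, e, LinearMap.add_apply]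
  abel

theorem InA.neg (hf : InA L f) (e : ∀ v, f (f v) = 0) : InA L (-f) := by
  obtain ⟨g, hg, hgf⟩ := hf
  refine ⟨g⁻¹, L.inv_mem hg, fun v => ?_⟩
  have h1 : g (v + (-f) v) = v := by
    rw [hgf, LinearMap.neg_apply, map_add, map_neg, e]
    abel
  conv_lhs => rw [← h1]
  rw [equiv_inv_apply]

theorem InA.conj (hf : InA L f) {g : V ≃ₗ[F] V} (hg : g ∈ L) (e : ∀ v, c (g v) = g (f v)) : InA L c := by
  obtain ⟨g', hg', hgf⟩ := hf
  refine ⟨g * g' * g⁻¹, L.mul_mem (L.mul_mem hg hg') (L.inv_mem hg), fun v => ?_⟩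
  rw [LinearEquiv.mul_apply, LinearEquiv.mul_apply, hgf, map_add, ← e, equiv_apply_inv]

/-- The commutator of two quadratic elements. -/
theorem InA.comm (hf : InA L f) (hh : InA L h) (ff : ∀ v, f (f v) = 0) (hh0 : ∀ v, h (h v) = 0)
    (e : ∀ v, c v = f (h v) - h (f v) + h (f (h v)) - f (h (f v)) + f (h (f (h v)))) :
    InA L c := by
  obtain ⟨g, hg, hgf⟩ := hf
  obtain ⟨g', hg', hgh⟩ := hh
  obtain ⟨k, hk, hkf⟩ := InA.neg ⟨g, hg, hgf⟩ ff
  obtain ⟨k', hk', hkh⟩ := InA.neg ⟨g', hg', hgh⟩ hh0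
  refine ⟨g * g' * k * k', L.mul_mem (L.mul_mem (L.mul_mem hg hg') hk) hk', fun v => ?_⟩
  rw [LinearEquiv.mul_apply, LinearEquiv.mul_apply, LinearEquiv.mul_apply, hkh, hkf, hgh, hgf, e]
  simp only [map_add, map_neg, LinearMap.neg_apply, ff, hh0, neg_zero, add_zero, neg_neg]
  abel

end Cfsg.Lib.Linear.UTensor
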