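import Cfsg.Agent.Lib.Linear.UTensor.Line
import Cfsg.Agent.Lib.Linear.UTensor.Poly

/-!
# Conjugates of elements of the decomposition by an element outside it
-/

set_option autoImplicit false
set_option linter.unusedSectionVars false

namespace Cfsg.Lib.Linear.UTensor

open Module
open Cfsg.Lib.Linear

variable {F V U W : Type*} [Field F] [Finite F]
  [AddCommGroup V] [Module F V] [FiniteDimensional F V]
  [AddCommGroup U] [Module F U] [FiniteDimensional F U]
  [AddCommGroup W] [Module F W] [FiniteDimensional F W]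
  {σ : F →+* F} {B : V →ₛₗ[σ] V →ₗ[F] F} {α : U →ₛₗ[σ] U →ₗ[F] F} {β : W →ₛₗ[σ] W →ₗ[F] F}
  {τ : U →ₗ[F] W →ₗ[F] V}

namespace Ten

variable (T : Ten B α β τ)
include T

/-- The coefficient of a map at a pair of vectors of the second factor. -/
noncomputable def entry (f : V →ₗ[F] V) (x y : W) : U →ₗ[F] U := T.ctr x ∘ₗ f ∘ₗ τ.flip y

theorem entry_apply (f : V →ₗ[F] V) (x y : W) (a : U) : T.entry f x y a = T.ctr x (f (τ a y)) := rfl

theorem adj_entry {g : V ≃ₗ[F] V} (hg : g ∈ Herm.iso B) (x y : W) :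
    T.adj (T.entry (g : V →ₗ[F] V) x y) = T.entry ((g⁻¹ : V ≃ₗ[F] V) : V →ₗ[F] V) y x :=
  T.adj_eq fun a b => by
    rw [entry_apply, entry_apply, LinearEquiv.coe_coe, LinearEquiv.coe_coe, T.ctr_α, T.α_ctr, ← hg,
      equiv_apply_inv]

variable {T} {L : Subgroup (V ≃ₗ[F] V)} (hL : Over B α β τ L) (hR : T.Losing L)
include hL hR

/-- A conjugate of a transvection of the second factor is again outside. -/
theorem conj_not_prod (hmk : finrank F U < finrank F W) {g : V ≃ₗ[F] V} (hg : g ∈ L)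
    (hgn : ¬ IsProd α β τ g) {y : W} (hy : y ≠ 0) (hyy : β y y = 0) {e : F} (he0 : e ≠ 0)
    {t : V ≃ₗ[F] V} (htv : ∀ v, t v = v + e • τ (T.ctr y v) y) :
    ¬ IsProd α β τ (g * t * g⁻¹) := by
  rintro ⟨p, -, q, -, hpq⟩
  have hsv : ∀ v, (g * t * g⁻¹) v = v + e • g (τ (T.ctr y (g⁻¹ v)) y) := fun v => by
    rw [LinearEquiv.mul_apply, LinearEquiv.mul_apply, htv, map_add, equiv_apply_inv, map_smul]
  have hr : ∀ v, (g * t * g⁻¹) v - v ∈ LinearMap.range ((g : V →ₗ[F] V) ∘ₗ τ.flip y) := fun v =>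
    ⟨e • T.ctr y (g⁻¹ v), by rw [hsv, add_sub_cancel_left]; simp⟩
  have hdim : finrank F (LinearMap.range ((g : V →ₗ[F] V) ∘ₗ τ.flip y)) = finrank F U :=
    LinearMap.finrank_range_of_inj fun a b hab => T.tau_inj hy (g.injective hab)
  obtain ⟨a₀, ha₀⟩ := T.exists_ne_zero
  by_cases hp : ∀ a, p a ∈ Submodule.span F {a}
  · obtain ⟨l, hl⟩ := (p : U →ₗ[F] U).exists_eq_smul_id_of_forall_notLinearIndependent (fun a hind => by
      obtain ⟨d, hd⟩ := Submodule.mem_span_singleton.1 (hp a)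
      have := (LinearIndependent.pair_iff.1 hind) d (-1) (by rw [LinearEquiv.coe_coe, ← hd]; simp)
      exact one_ne_zero (neg_eq_zero.1 this.2))
    have hl' : ∀ a, p a = l • a := fun a => LinearMap.congr_fun hl a
    obtain ⟨z, hz⟩ : ∃ z, l • q z - z ≠ 0 := by
      by_contra hc
      push Not at hc
      obtain ⟨y₁, hy₁⟩ := T.cβ.exists_pairing hy
      have h3 : ∀ v, (g * t * g⁻¹) v = v := fun v => LinearMap.congr_fun
        (T.hom_ext (f := ((g * t * g⁻¹ : V ≃ₗ[F] V) : V →ₗ[F] V)) (g := LinearMap.id) fun a z => by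
          rw [LinearEquiv.coe_coe, hpq, hl', map_smul, LinearMap.smul_apply, ← map_smul, sub_eq_zero.1 (hc z)]
          rfl) v
      have h4 := h3 (g (τ a₀ y₁))
      rw [hsv, equiv_inv_apply, T.ctr_tau, hy₁, one_smul, add_eq_left, smul_eq_zero, or_iff_right he0,
        LinearEquiv.map_eq_zero_iff] at h4
      exact ha₀ (T.tau_eq_zero h4 hy)
    set Z := l • q z - z with hZ
    have hle : LinearMap.range (τ.flip Z) ≤ LinearMap.range ((g : V →ₗ[F] V) ∘ₗ τ.flip y) := by
      rintro _ ⟨a, rfl⟩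
      have := hr (τ a z)
      rw [hpq, hl'] at this
      convert this using 1
      simp [hZ]
    have heq := Submodule.eq_of_le_of_finrank_eq hle (by
      rw [hdim, LinearMap.finrank_range_of_inj (f := τ.flip Z) fun a b hab => T.tau_inj hz hab])
    refine hgn (prod_of_line hL hR hg hy hz hyy fun a => ?_)
    obtain ⟨b, hb⟩ := heq.symm ▸ LinearMap.mem_range_self ((g : V →ₗ[F] V) ∘ₗ τ.flip y) a
    exact ⟨b, hb.symm⟩
  · push Not at hp
    obtain ⟨a, ha⟩ := hp
    obtain ⟨f, hfa, hf⟩ := Submodule.exists_dual_map_eq_bot_of_notMem ha inferInstance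
    let D : W →ₗ[F] V := ((g * t * g⁻¹ : V ≃ₗ[F] V) : V →ₗ[F] V) ∘ₗ τ a - τ a
    have hDr : ∀ w, D w ∈ LinearMap.range ((g : V →ₗ[F] V) ∘ₗ τ.flip y) := fun w => hr (τ a w)
    have hinj : Function.Injective (D.codRestrict _ hDr) := by
      rw [← LinearMap.ker_eq_bot, LinearMap.ker_eq_bot']
      intro w hw
      have h0 : τ (p a) (q w) = τ a w := by
        rw [← hpq]
        exact sub_eq_zero.1 (congrArg Subtype.val hw)
      have hfa0 : f a = 0 := by
        have : f a ∈ (Submodule.span F {a}).map f := ⟨a, Submodule.mem_span_singleton_self a, rfl⟩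
        rwa [hf, Submodule.mem_bot] at this
      refine q.map_eq_zero_iff.1 (T.cβ.ndeg.2 _ fun z => ?_)
      have h1 := congrArg f (congrArg (T.ctr z) h0)
      simp only [T.ctr_tau, map_smul, smul_eq_mul, hfa0, mul_zero, mul_eq_zero] at h1
      exact h1.resolve_right hfa
    have := LinearMap.finrank_le_finrank_of_injective hinj
    omega

end Ten

end Cfsg.Lib.Linear.UTensor
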